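import Cfsg.Agent.KFacts.MM.OutP
import Cfsg.Agent.KFacts.MM.NormS
import Cfsg.Agent.KFacts.HS.Sheet2_m3
import Cfsg.Agent.S0144
import Cfsg.Agent.KFacts.PSpFourThree.Cent
import Cfsg.Agent.LieClassical.SympPerfect
import Cfsg.Agent.LargeExtra.W2.LFour.EnumMainChk2_mg_m3
import Cfsg.Agent.ClassicalGeometry.PSL2Basic
import Cfsg.Agent.Lib.DetFast
import Mathlib
import Cfsg.Prelude.Def_ClassificationK
import Cfsg.Prelude.Def_Transfer
import Cfsg.Agent.Lib.GenFitting
import Cfsg.Agent.ClassificationK.GF2Basics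
import Cfsg.Agent.Transfer.Extraspecial
import Cfsg.Agent.OddHalf.Small.Crit
import Cfsg.Agent.KFacts.J3
import Cfsg.Agent.OddHalf.D4.KPair_m3
import Cfsg.Agent.ClassicalGeometry.SympBasic
import Cfsg.Agent.S0765
import Cfsg.Agent.S0270
import Cfsg.Agent.S0814
import Cfsg.Agent.LieClassical.SympCenter
import Cfsg.Agent.LieClassical.FieldTransfer
import Cfsg.Prelude.Def_Classical
import Cfsg.Prelude.Def_Exceptional
import Cfsg.Prelude.Def_Local
import Cfsg.Agent.S1754
import Cfsg.Agent.KFacts.FiTTh.BasInv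
import Cfsg.Agent.SignalizersComponents.Components
import Cfsg.Agent.KFacts.FiTTh.Has
import Cfsg.Agent.Lib.ComponentSolvable
import Cfsg.Agent.R01.InvForm
import Cfsg.Agent.KFacts.InnerCaseM
import Cfsg.Agent.OddHalf.D8.JTwo.Sheet
import Cfsg.Agent.KFacts.HN.Sheet
import Cfsg.Agent.OddHalf.D4.FullPair
import Cfsg.Agent.OddCyclic.CaseESz
import Cfsg.Agent.StdSz.Env
import Cfsg.Agent.OddHalf.D6.QThree.U43Tw
import Cfsg.Agent.OddHalf.D6.QThree.Facts
import Cfsg.Agent.LargeExtra.W2.U43.CertAll_m3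
import Cfsg.Agent.LargeExtra.W2.U43.Fusion
import Cfsg.Prelude.Def_Classification2
import Cfsg.Agent.S0243
import Cfsg.Agent.S0245
import Cfsg.Agent.S0246
import Cfsg.Agent.S0280
import Cfsg.Agent.S0292
import Cfsg.Agent.S0293
import Cfsg.Agent.S0294
import Cfsg.Agent.S0822
import Cfsg.Agent.OddHalf.TR
import Cfsg.Agent.OddHalf.D8.MainE_m3
import Cfsg.Agent.OddHalf.D4.Basic
import Cfsg.Agent.OddHalf.UQ4
import Cfsg.Agent.StandardComponent.AltAut
import Cfsg.Agent.OddHalf.Iface
import Cfsg.Agent.OddHalf.D5.Defs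
import Cfsg.Agent.StdAlt.Lab
import Cfsg.Agent.S0502
import Cfsg.Agent.Lib.PComponents
import Cfsg.Agent.OddHalf.Soft
import Cfsg.Agent.OddHalf.NI.LemmaP
import Cfsg.Agent.ClassificationK.PCompTransport
import Cfsg.Agent.S1301
import Cfsg.Agent.OddHalf.CaseM.RankOne
import Cfsg.Agent.Cit.Comp
import Cfsg.Agent.FastGrp
import Cfsg.Agent.Prune
set_option linter.all false

section
prune_inst 0x7fbcfcf8a9b82ddfdfff7e7fa6d1cffc39901fffe6dff943ffe461ff0f9f030209e56b8d09e010fe0ef6e01410b87813f97e8e7ee229dc7ffffd5ff45ffbee0fa5e7bd00519688340fbc0fff63f0778e7f3fffffffffffffffffffffffffffbeffbdffffffff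

-- part: KFacts/MM/OutC
section
prune_inst 0x4003074645922020000000592e1003c46de000192006b8001b9e00f060f8edf6189022f60fc901f10112aaaa4403c8028171810dd6010000020008200411d05a1842bf286937cad04370009c09887180c00000000000000000000000000041004200000000
set_option linter.all false
open scoped Cfsg.Agent.FastGrp

-- merged: Cfsg.Agent.KFacts.MM.OutS
section

/-!
# The Sylow 2-subgroup `SA = S⟨b⟩` of `M22:2` (ambient form)
-/

set_option autoImplicit false

namespace Cfsg.Agent.KFacts.MM.OutS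

open Cfsg Cfsg.Agent.KFacts.MM.El Cfsg.Agent.KFacts.MM.Data Cfsg.Agent.KFacts.MM.DataO
open Cfsg.Agent.KFacts.MM.Sub Cfsg.Agent.KFacts.MM.Int Cfsg.Agent.KFacts.MM.El16
open Cfsg.Agent.KFacts.MM.Cent Cfsg.Agent.KFacts.MM.OutP Cfsg.Agent.KFacts.MM.NormS
open Cfsg.Agent.SporadicA.GolayBase Cfsg.Agent.SporadicA.GolayPerm
open Cfsg.Agent.J4Type.Aut22 (D22 mem_D22_iff M22_le_D22 mem_M22_iff_D22 card_D22)
open Cfsg.Agent.OddHalf.MM (Nrm Cen El)

/-! ### The action of `b` -/

theorem bV : ∀ x ∈ V, b * x * b⁻¹ ∈ V := by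
  intro x hx
  have := conj_mem (l := [bP]) (by decide +kernel) (by decide +kernel) hx
  rwa [pr_one] at this

theorem b_comm_W : ∀ x ∈ W, b * x = x * b := fun _ hx => comm_of_El elP b_mem (W_le_P hx)

theorem bW : ∀ x ∈ W, b * x * b⁻¹ ∈ W := by
  intro x hx
  rw [b_comm_W x hx, mul_inv_cancel_right]
  exact hx

theorem b_comm_c : b * c = c * b := by
  have h := pr_of_weq (l := [bP, cP]) (m := [cP, bP]) (by decide +kernel) (by decide +kernel)
    (by decide +kernel)
  rwa [pr_two, pr_two] at h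

theorem b_comm_z : b * z = z * b := b_comm_W z zW

theorem bS : ∀ s ∈ S, b * s * b⁻¹ ∈ S := by
  rintro _ ⟨v, hv, w, hw, rfl | rfl⟩
  · have e : b * (v * w) * b⁻¹ = (b * v * b⁻¹) * (b * w * b⁻¹) := by group
    rw [e]
    exact mul_mem (V_le (bV v hv)) (W_le (bW w hw))
  · have e : b * (v * w * c) * b⁻¹ = (b * v * b⁻¹) * (b * w * b⁻¹) * (b * c * b⁻¹) := by group
    have hc : b * c * b⁻¹ = c := by rw [b_comm_c, mul_inv_cancel_right]
    rw [e, hc]
    exact mul_mem (mul_mem (V_le (bV v hv)) (W_le (bW w hw))) c_mem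

/-- the Sylow 2-subgroup of `M22:2` -/
noncomputable def SA : Subgroup (Equiv.Perm GolayPt) where
  carrier := {g | g ∈ S ∨ g * b ∈ S}
  mul_mem' := by
    rintro g h (hg | hg) (hh | hh)
    · exact Or.inl (mul_mem hg hh)
    · right
      rw [mul_assoc]
      exact mul_mem hg hh
    · right
      have h1 := mul_mem hg (bS h hh)
      have e : g * b * (b * h * b⁻¹) = g * (b * b) * h * b⁻¹ := by group
      rw [e, bb, mul_one, b_inv] at h1
      exact h1
    · left
      have h1 := mul_mem hg (bS _ hh)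
      have e : g * b * (b * (h * b) * b⁻¹) = g * (b * b) * h := by group
      rw [e, bb, mul_one] at h1
      exact h1
  one_mem' := Or.inl (one_mem S)
  inv_mem' := by
    rintro g (hg | hg)
    · exact Or.inl (inv_mem hg)
    · right
      have h1 := bS _ (inv_mem hg)
      have e : b * (g * b)⁻¹ * b⁻¹ = (b * b⁻¹) * g⁻¹ * b⁻¹ := by group
      rw [e, mul_inv_cancel, one_mul, b_inv] at h1
      exact h1

theorem S_le : S ≤ SA := fun _ h => Or.inl h

theorem b_SA : b ∈ SA := by
  right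
  rw [bb]
  exact one_mem S

theorem P_le_SA : P ≤ SA := by
  intro x hx
  obtain ⟨w, hw, rfl | rfl⟩ := mem_P.1 hx
  · exact S_le (W_le hw)
  · exact mul_mem (S_le (W_le hw)) b_SA

theorem SA_le : SA ≤ D22 := by
  rintro g (hg | hg)
  · exact M22_le_D22 (S_le22 hg)
  · have h1 := mul_mem (M22_le_D22 (S_le22 hg)) (inv_mem b_D22)
    rwa [mul_inv_cancel_right] at h1

/-- an element of `SA` in `M22` lies in `S` -/
theorem SA_M22 {g : Equiv.Perm GolayPt} (hg : g ∈ SA) (h : g ∈ Spor.M22) : g ∈ S := by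
  rcases hg with hg | hg
  · exact hg
  · exfalso
    apply b_not_M22
    have := mul_mem (inv_mem h) (S_le22 hg)
    rwa [inv_mul_cancel_left] at this

theorem sq_SA {g : Equiv.Perm GolayPt} (hg : g ∈ SA) : g * g ∈ S := by
  rcases hg with hg | hg
  · exact mul_mem hg hg
  · have h1 := mul_mem hg (bS _ hg)
    have e : g * b * (b * (g * b) * b⁻¹) = g * (b * b) * g := by group
    rwa [e, bb, mul_one] at h1

theorem isPGroup_SA : IsPGroup 2 SA := by
  intro g
  refine ⟨4, ?_⟩
  apply Subtype.ext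
  have h1 := sq_S (sq_SA g.2)
  have h2 := elV _ (sq_R h1)
  have h3 : ((g : Equiv.Perm GolayPt)) ^ (2 ^ 4) = (g : Equiv.Perm GolayPt) * g * (g * g) *
      (g * g * (g * g)) * (g * g * (g * g) * (g * g * (g * g))) := by
    norm_num only [pow_succ, mul_assoc, _root_.pow_zero, _root_.one_mul]
  show ((g : Equiv.Perm GolayPt)) ^ (2 ^ 4) = 1
  rw [h3, h2]

theorem card_le_of_two {A : Subgroup (Equiv.Perm GolayPt)} (hA : Nat.card A = 887040) {Q : Subgroup A}
    (hQ : IsPGroup 2 Q) : Nat.card Q ≤ 256 := by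
  obtain ⟨n, hn⟩ := IsPGroup.iff_card.1 hQ
  have h1 : 2 ^ n ∣ 2 ^ 8 * 3465 := by
    rw [← hn, show 2 ^ 8 * 3465 = 887040 by norm_num, ← hA]
    exact Subgroup.card_subgroup_dvd_card Q
  have h2 : 2 ^ n ∣ 2 ^ 8 := by
    apply Nat.Coprime.dvd_of_dvd_mul_right _ h1
    exact Nat.Coprime.pow_left n (by norm_num)
  rw [hn]
  exact Nat.le_of_dvd (by norm_num) h2

theorem card_SA : Nat.card SA = 256 := by
  have hle : Nat.card SA ≤ 256 := by
    have h1 : IsPGroup 2 (SA.subgroupOf D22) :=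
      isPGroup_SA.comap_of_injective D22.subtype D22.subtype_injective
    have h2 := card_le_of_two card_D22 h1
    rwa [Nat.card_congr (Subgroup.subgroupOfEquivOfLe SA_le).toEquiv] at h2
  obtain ⟨n, hn⟩ := IsPGroup.iff_card.1 isPGroup_SA
  have hlt : Nat.card S < Nat.card SA := by
    by_contra hcon
    have h1 := Subgroup.eq_of_le_of_card_ge S_le (not_lt.1 hcon)
    apply b_not_M22
    apply S_le22
    rw [h1]
    exact b_SA
  have h128 := card_S_ge
  rw [hn] at hlt hle ⊢
  have h7 : 7 < n := by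
    by_contra hcon
    have := Nat.pow_le_pow_right (show 0 < 2 by norm_num) (not_lt.1 hcon)
    norm_num at this
    omega
  have h8 : n ≤ 8 := by
    by_contra hcon
    have := Nat.pow_le_pow_right (show 0 < 2 by norm_num) (show 9 ≤ n by omega)
    norm_num at this
    omega
  have : n = 8 := by omega
  rw [this]
  norm_num

/-! ### Normal subgroups, centre, elementary abelian subgroups -/

theorem SA_V : ∀ s ∈ SA, ∀ x ∈ V, s * x * s⁻¹ ∈ V := by
  rintro s (hs | hs) x hx
  · exact S_V s hs x hx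
  · have h1 := S_V _ hs _ (bV x hx)
    have e : s * b * (b * x * b⁻¹) * (s * b)⁻¹ = s * (b * b) * x * (b * b)⁻¹ * s⁻¹ := by group
    rwa [e, bb, mul_one, inv_one, mul_one] at h1

theorem SA_W : ∀ s ∈ SA, ∀ x ∈ W, s * x * s⁻¹ ∈ W := by
  rintro s (hs | hs) x hx
  · exact S_W s hs x hx
  · have h1 := S_W _ hs _ (bW x hx)
    have e : s * b * (b * x * b⁻¹) * (s * b)⁻¹ = s * (b * b) * x * (b * b)⁻¹ * s⁻¹ := by group
    rwa [e, bb, mul_one, inv_one, mul_one] at h1

theorem D22_le24 {g : Equiv.Perm GolayPt} (h : g ∈ D22) : g ∈ M24 := ((mem_D22_iff g).1 h).1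

theorem cen_SA : ∀ y ∈ SA, (∀ s ∈ SA, s * y = y * s) → y = 1 ∨ y = z := by
  intro y hy h
  have hyS : y ∈ S := V_le (CV (D22_le24 (SA_le hy)) fun x hx => (h x (S_le (V_le hx))).symm)
  exact cen y hyS fun s hs => h s (S_le hs)

theorem out_mul_SA {s t : Equiv.Perm GolayPt} (hs : s ∈ SA) (hS : s ∉ S) (ht : t ∈ SA) (hS' : t ∉ S) :
    s⁻¹ * t ∈ S := by
  have h1 := hs.resolve_left hS
  have h2 := ht.resolve_left hS'
  have h3 := bS _ (mul_mem (inv_mem h1) h2)
  have e : b * ((s * b)⁻¹ * (t * b)) * b⁻¹ = (b * b⁻¹) * (s⁻¹ * t) * (b * b⁻¹) := by group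
  rwa [e, mul_inv_cancel, one_mul, mul_one] at h3

theorem el32 (E : Subgroup (Equiv.Perm GolayPt)) (hE : E ≤ SA) (hel : El E) (h32 : 32 ≤ Nat.card E) :
    E = P := by
  by_cases hS : E ≤ S
  · exfalso
    rcases el16 E hS hel (by omega) with h | h
    · rw [h, cardV] at h32; omega
    · rw [h, cardW] at h32; omega
  rw [SetLike.not_le_iff_exists] at hS
  obtain ⟨s, hs, hsS⟩ := hS
  set F := E ⊓ S with hF
  have hcard : 16 ≤ Nat.card F := by
    have hsub : (E : Set (Equiv.Perm GolayPt)) ⊆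
        (F : Set (Equiv.Perm GolayPt)) ∪ (fun x => s * x) '' (F : Set (Equiv.Perm GolayPt)) := by
      intro x hx
      by_cases hxR : x ∈ S
      · exact Or.inl ⟨hx, hxR⟩
      · right
        refine ⟨s⁻¹ * x, ⟨E.mul_mem (E.inv_mem hs) hx, out_mul_SA (hE hs) hsS (hE hx) hxR⟩, ?_⟩
        show s * (s⁻¹ * x) = x
        group
    have h5 := Set.ncard_le_ncard hsub (Set.toFinite _)
    have h6 := (h5.trans (Set.ncard_union_le _ _))
    have h7 := Set.ncard_image_le (f := fun x => s * x) (Set.toFinite (F : Set (Equiv.Perm GolayPt)))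
    have e1 : (E : Set (Equiv.Perm GolayPt)).ncard = Nat.card E := rfl
    have e2 : (F : Set (Equiv.Perm GolayPt)).ncard = Nat.card F := rfl
    rw [e1, e2] at h6
    rw [e2] at h7
    omega
  have hsF : ∀ x ∈ F, s * x = x * s := fun x hx => comm_of_El hel hs hx.1
  rcases el16 F inf_le_right (fun x hx => hel x hx.1) hcard with h | h
  · exfalso
    apply hsS
    apply V_le
    apply CV (D22_le24 (SA_le (hE hs)))
    intro x hx
    rw [← h] at hx
    exact hsF x hx
  · have hEP : E ≤ P := by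
      intro x hx
      apply CW' (SA_le (hE hx))
      intro y hy
      rw [← h] at hy
      exact comm_of_El hel hx hy.1
    exact Subgroup.eq_of_le_of_card_ge hEP (by rw [cardP]; exact h32)

/-! ### Normal self-centralising subgroups of order 16 -/

/-- `W = V₀ W4` -/
theorem mem_S4 {s : Equiv.Perm GolayPt} (hs : s ∈ S) :
    ∃ P ∈ VL, ∃ Q ∈ W4, s = pr [P, Q] ∨ s = pr [P, Q, cP] := by
  have k : (WL.all fun Q => W4.any fun R => V0L.any fun T => weq [Q] [T, R]) = true := by decide +kernel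
  obtain ⟨v, hv, _, ⟨Q, hQ, rfl⟩, h⟩ := mem_S.1 hs
  obtain ⟨R, hR, h1⟩ := List.any_eq_true.1 (List.all_eq_true.1 k Q hQ)
  obtain ⟨T, hT, h2⟩ := List.any_eq_true.1 h1
  have h3 := pr_of_weq (okl1 (pW hQ)) (okl2 (pV (V0_mem hT).1) (pW (W4_sub hR))) h2
  rw [pr_one, pr_two] at h3
  obtain ⟨P, hP, h4⟩ := mul_mem hv (show pm T ∈ V from ⟨T, (V0_mem hT).1, rfl⟩)
  refine ⟨P, hP, R, hR, ?_⟩
  rw [pr_two, pr_three, h4]
  rcases h with h | h
  · left; rw [h, h3, mul_assoc]
  · right; rw [h, h3, mul_assoc v]; rfl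

/-- the word `l` is not an involution, or it commutes with `b`, or it does not commute with its conjugate
by `c` -/
def tst (l : List ℕ) : Bool :=
  !weq (l ++ l) [] || (weq (l ++ [bP]) (bP :: l) || !weq (l ++ ([cP] ++ (l ++ [cP]))) ([cP] ++ (l ++ ([cP] ++ l))))

theorem okl_append {l m : List ℕ} (hl : okl l = true) (hm : okl m = true) : okl (l ++ m) = true := by
  unfold okl at hl hm ⊢
  rw [List.all_append, hl, hm]
  rfl

theorem tst_spec {l : List ℕ} (hl : okl l = true) (h : tst l = true) (h2 : pr l * pr l = 1)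
    (hc : pr l * (c * pr l * c) = c * pr l * c * pr l) : pr l * b = b * pr l := by
  unfold tst at h
  rw [Bool.or_eq_true, Bool.or_eq_true, Bool.not_eq_true'] at h
  rcases h with h | h | h
  · exfalso
    apply pr_ne (okl_append hl hl) rfl h
    rw [pr_append, h2, pr_nil]
  · have h1 := pr_of_weq (okl_append hl (okl1 permb)) (m := bP :: l) (by
      unfold okl at hl ⊢
      rw [List.all_cons, hl, permb]; rfl) h
    rw [pr_append, pr_one, pr_cons] at h1
    exact h1
  · exfalso
    rw [Bool.not_eq_true'] at h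
    have hg1 := okl1 permc
    apply pr_ne (okl_append hl (okl_append hg1 (okl_append hl hg1)))
      (okl_append hg1 (okl_append hl (okl_append hg1 hl))) h
    rw [pr_append, pr_append, pr_append, pr_append, pr_append, pr_append, pr_one]
    have : pr l * (pm cP * pr l * pm cP) = pm cP * pr l * pm cP * pr l := hc
    simpa only [mul_assoc] using this

theorem tst1 : (VL.all fun P => W4.all fun Q => tst [P, Q, bP]) = true := by decide +kernel

theorem tst2 : (VL.all fun P => W4.all fun Q => tst [P, Q, cP, bP]) = true := by decide +kernel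

/-- an element of `E - S`, `E` elementary abelian and normal in `SA`, commutes with `b` -/
theorem comm_b {E : Subgroup (Equiv.Perm GolayPt)} (hE : E ≤ SA) (hel : El E)
    (hN : ∀ s ∈ SA, ∀ x ∈ E, s * x * s⁻¹ ∈ E) {e : Equiv.Perm GolayPt} (he : e ∈ E) (heS : e ∉ S) :
    e * b = b * e := by
  have h1 := (hE he).resolve_left heS
  have hc : e * (c * e * c) = c * e * c * e := by
    have h2 := hN c (S_le c_mem) e he
    rw [c_inv] at h2
    exact comm_of_El hel he h2
  have e2 := hel e he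
  have ee : e = e * b * b := by rw [mul_assoc, bb, mul_one]
  obtain ⟨A, hA, B, hB, h3 | h3⟩ := mem_S4 h1
  · have e3 : e = pr [A, B, bP] := by
      have e4 : pr [A, B, bP] = pr [A, B] * b := by rw [pr_three, pr_two]; rfl
      rw [e4, ← h3]; exact ee
    have h4 := List.all_eq_true.1 (List.all_eq_true.1 tst1 A hA) B hB
    generalize hl : [A, B, bP] = l at e3 h4
    have hok : okl l = true := by rw [← hl]; exact okl3 (pV hA) (pW (W4_sub hB)) permb
    rw [e3] at e2 hc ⊢
    exact tst_spec hok h4 e2 hc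
  · have e3 : e = pr [A, B, cP, bP] := by
      have e4 : pr [A, B, cP, bP] = pr [A, B, cP] * b := by rw [pr_four, pr_three]; rfl
      rw [e4, ← h3]; exact ee
    have h4 := List.all_eq_true.1 (List.all_eq_true.1 tst2 A hA) B hB
    generalize hl : [A, B, cP, bP] = l at e3 h4
    have hok : okl l = true := by rw [← hl]; exact okl4 (pV hA) (pW (W4_sub hB)) permc permb
    rw [e3] at e2 hc ⊢
    exact tst_spec hok h4 e2 hc

theorem self16 (E : Subgroup (Equiv.Perm GolayPt)) (hE : E ≤ SA) (hel : El E) (h16 : Nat.card E = 16)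
    (hN : ∀ s ∈ SA, ∀ x ∈ E, s * x * s⁻¹ ∈ E) (hC : ∀ s ∈ SA, Cen s E → s ∈ E) : E = V ∨ b ∈ E := by
  by_cases hS : E ≤ S
  · rcases el16 E hS hel h16.ge with h | h
    · exact Or.inl h
    · right
      apply hC b b_SA
      rw [h]
      exact b_comm_W
  · right
    rw [SetLike.not_le_iff_exists] at hS
    obtain ⟨e, he, heS⟩ := hS
    apply hC b b_SA
    intro x hx
    by_cases hxS : x ∈ S
    · have h1 : e * x ∉ S := by
        intro h
        apply heS
        have := mul_mem h (inv_mem hxS)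
        rwa [mul_inv_cancel_right] at this
      have h2 := comm_b hE hel hN he heS
      have h3 := comm_b hE hel hN (mul_mem he hx) h1
      apply mul_left_cancel (a := e)
      calc e * (b * x) = (e * b) * x := by group
        _ = b * (e * x) := by rw [h2]; group
        _ = e * x * b := h3.symm
        _ = e * (x * b) := by group
    · exact (comm_b hE hel hN hx hxS).symm

end Cfsg.Agent.KFacts.MM.OutS

end

-- merged: Cfsg.Agent.KFacts.MM.OutC
section

/-!
# The centraliser of `z` in `M22:2`: `[C(z), C(z)]` centralises `b`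
-/

set_option autoImplicit false

namespace Cfsg.Agent.KFacts.MM.OutC

open Cfsg Cfsg.Agent.KFacts.MM.El Cfsg.Agent.KFacts.MM.Data Cfsg.Agent.KFacts.MM.DataO
open Cfsg.Agent.KFacts.MM.Sub Cfsg.Agent.KFacts.MM.Int Cfsg.Agent.KFacts.MM.El16
open Cfsg.Agent.KFacts.MM.Cent Cfsg.Agent.KFacts.MM.OutP Cfsg.Agent.KFacts.MM.NormS
open Cfsg.Agent.KFacts.MM.OutS
open Cfsg.Agent.SporadicA.GolayBase Cfsg.Agent.SporadicA.GolayPerm Cfsg.Agent.SporadicA.M24Frames
open Cfsg.Agent.J4Type.Aut22 (D22 mem_D22_iff M22_le_D22 mem_M22_iff_D22 card_D22)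
open Cfsg.Agent.OddHalf.MM (Nrm Cen El)

/-- membership in the octad -/
def memO (i : ℕ) : Bool := oct.any fun j => Nat.beq i j

theorem memO_iff {i : ℕ} : memO i = true ↔ i ∈ oct := by
  unfold memO
  rw [List.any_eq_true]
  constructor
  · rintro ⟨j, hj, h⟩
    rw [Nat.eq_of_beq_eq_true h]
    exact hj
  · intro h
    exact ⟨i, h, Nat.beq_refl i⟩

/-- `x` preserves the octad -/
def Pres (x : Equiv.Perm GolayPt) : Prop := ∀ i < 24, memO (val x i) = memO i

/-- the table `T` maps `p` to all the points of `al`, fixes `fx` and preserves the octad -/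
def stp (T fx al : List ℕ) (p : ℕ) : Bool :=
  al.all fun q => T.any fun t => ok22 t && (Nat.beq (papp t p) q && ((fx.all fun i => Nat.beq (papp t i) i) &&
    pts.all fun i => (memO (papp t i) == memO i)))

theorem step {T fx al : List ℕ} {p : ℕ} (hT : stp T fx al p = true) (hp : p < 24) (hfx : ∀ i ∈ fx, i < 24)
    {x : Equiv.Perm GolayPt} (hx : x ∈ Spor.M22) (hO : Pres x) (hf : ∀ i ∈ fx, val x i = i)
    (hq : val x p ∈ al) :
    ∃ t ∈ T, ∃ y ∈ Spor.M22, x = pm t * y ∧ Pres y ∧ ∀ i ∈ p :: fx, val y i = i := by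
  obtain ⟨t, ht, h⟩ := List.any_eq_true.1 (List.all_eq_true.1 hT _ hq)
  rw [Bool.and_eq_true, Bool.and_eq_true, Bool.and_eq_true] at h
  obtain ⟨h1, h2, h3, h4⟩ := h
  obtain ⟨hperm, h22⟩ := mem_of_ok22 h1
  have hval : ∀ i, i < 24 → papp t (val ((pm t)⁻¹ * x) i) = val x i := by
    intro i hi
    rw [← val_pm hperm (val_lt _ _), ← val_mul, mul_inv_cancel_left]
  refine ⟨t, ht, (pm t)⁻¹ * x, mul_mem (inv_mem h22) hx, by group, ?_, ?_⟩
  · intro i hi
    have h5 := List.all_eq_true.1 h4 _ (mem_pts (val_lt ((pm t)⁻¹ * x) i))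
    rw [hval i hi, hO i hi] at h5
    exact (beq_iff_eq.1 h5).symm
  · intro i hi
    rcases List.mem_cons.1 hi with rfl | hi
    · apply papp_injOn hperm (val_lt _ _) hp
      rw [hval i hp, Nat.eq_of_beq_eq_true h2]
    · have hi24 := hfx i hi
      apply papp_injOn hperm (val_lt _ _) hi24
      rw [hval i hi24, hf i hi, Nat.eq_of_beq_eq_true (List.all_eq_true.1 h3 i hi)]

/-- the elements of `M22` preserving the octad are products of elements of the chain -/
theorem exists_chain {x : Equiv.Perm GolayPt} (hx : x ∈ Spor.M22) (hO : Pres x) :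
    ∃ a ∈ T1, ∃ d ∈ T2, ∃ e ∈ T3, ∃ f ∈ T5, ∃ v ∈ VL, x = pm a * pm d * pm e * pm f * pm v := by
  have hne : ∀ (y : Equiv.Perm GolayPt) (p : ℕ) (fx : List ℕ), p < 24 → (∀ i ∈ fx, i < 24) → Pres y →
      (∀ i ∈ fx, val y i = i) → p ∉ fx → p ∈ oct → val y p ∈ oct ∧ val y p ∉ fx := by
    intro y p fx hp hfx hO hf hpf hpo
    refine ⟨?_, ?_⟩
    · rw [← memO_iff, hO p hp, memO_iff]; exact hpo
    · intro h
      apply hpf
      have h1 := hf _ h
      have h2 := val_inj (val_lt _ _) hp h1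
      rwa [h2] at h
  have e0 := val0 hx
  have e23 := val23 (M22_le23 hx)
  -- first step
  obtain ⟨h1, h2⟩ := hne x 1 [0, 23] (by norm_num) (by decide) hO (by
    intro i hi
    simp only [List.mem_cons, List.not_mem_nil, or_false] at hi
    rcases hi with rfl | rfl
    · exact e0
    · exact e23) (by decide) (by decide)
  obtain ⟨a, ha, x1, hx1, rfl, hO1, hf1⟩ := step (T := T1) (fx := [0, 23]) (al := [1, 2, 3, 5, 14, 17])
    (p := 1) (by decide +kernel) (by norm_num) (by decide) hx hO (by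
      intro i hi
      simp only [List.mem_cons, List.not_mem_nil, or_false] at hi
      rcases hi with rfl | rfl
      · exact e0
      · exact e23) (by
      unfold oct at h1
      simp only [List.mem_cons, List.not_mem_nil, or_false, not_or] at h1 h2 ⊢
      omega)
  obtain ⟨h1, h2⟩ := hne x1 2 [1, 0, 23] (by norm_num) (by decide) hO1 hf1 (by decide) (by decide)
  obtain ⟨d, hd, x2, hx2, rfl, hO2, hf2⟩ := step (T := T2) (fx := [1, 0, 23]) (al := [2, 3, 5, 14, 17])
    (p := 2) (by decide +kernel) (by norm_num) (by decide) hx1 hO1 hf1 (by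
      unfold oct at h1
      simp only [List.mem_cons, List.not_mem_nil, or_false, not_or] at h1 h2 ⊢
      omega)
  obtain ⟨h1, h2⟩ := hne x2 3 [2, 1, 0, 23] (by norm_num) (by decide) hO2 hf2 (by decide) (by decide)
  obtain ⟨e, he, x3, hx3, rfl, hO3, hf3⟩ := step (T := T3) (fx := [2, 1, 0, 23]) (al := [3, 5, 14, 17])
    (p := 3) (by decide +kernel) (by norm_num) (by decide) hx2 hO2 hf2 (by
      unfold oct at h1
      simp only [List.mem_cons, List.not_mem_nil, or_false, not_or] at h1 h2 ⊢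
      omega)
  obtain ⟨h1, h2⟩ := hne x3 5 [3, 2, 1, 0, 23] (by norm_num) (by decide) hO3 hf3 (by decide) (by decide)
  obtain ⟨f, hf, x4, hx4, rfl, hO4, hf4⟩ := step (T := T5) (fx := [3, 2, 1, 0, 23]) (al := [5, 14, 17])
    (p := 5) (by decide +kernel) (by norm_num) (by decide) hx3 hO3 hf3 (by
      unfold oct at h1
      simp only [List.mem_cons, List.not_mem_nil, or_false, not_or] at h1 h2 ⊢
      omega)
  -- the last step
  have kk : (pts.all fun q => memO q || VL.any fun P => Nat.beq (papp P 4) q) = true := by decide +kernel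
  have h3 := List.all_eq_true.1 kk _ (mem_pts (val_lt x4 4))
  have h4 : memO (val x4 4) = false := by rw [hO4 4 (by norm_num)]; decide +kernel
  rw [h4, Bool.false_or] at h3
  obtain ⟨v, hv, h5⟩ := List.any_eq_true.1 h3
  have h5 := Nat.eq_of_beq_eq_true h5
  have k6 : (VL.all fun P => [23, 0, 1, 2, 3, 5].all fun i => Nat.beq (papp P i) i) = true := by
    decide +kernel
  have h6 : x4 = pm v := by
    apply eq_of_val adm_base7 (M22_le24 hx4) (M22_le24 (V_le22 ⟨v, hv, rfl⟩))
    refine forall_base7 (p := fun i => val x4 i = val (pm v) i) ?_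
    intro i hi
    show val x4 i = val (pm v) i
    by_cases hi' : i ∈ [23, 0, 1, 2, 3, 5]
    · have hi24 : i < 24 := by
        simp only [List.mem_cons, List.not_mem_nil, or_false] at hi'; omega
      rw [val_pm (pV hv) hi24, Nat.eq_of_beq_eq_true (List.all_eq_true.1 (List.all_eq_true.1 k6 v hv) i hi')]
      apply hf4
      simp only [List.mem_cons, List.not_mem_nil, or_false] at hi' ⊢
      (clear * - hi'; tauto)
    · have hi4 : i = 4 := by
        simp only [List.mem_cons, List.not_mem_nil, or_false] at hi hi'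
        omega
      rw [hi4, val_pm (pV hv) (by norm_num), h5]
  refine ⟨a, ha, d, hd, e, he, f, hf, v, hv, ?_⟩
  rw [h6]
  simp only [mul_assoc]

theorem pres_of_comm {x : Equiv.Perm GolayPt} (h : x * z = z * x) : Pres x := by
  have kz : (pts.all fun i => (Nat.beq (papp zP i) i == memO i)) = true := by decide +kernel
  intro i hi
  have h1 : (papp zP i = i ↔ papp zP (val x i) = val x i) := by
    rw [← val_comm permz h hi]
    constructor
    · intro h1; rw [h1]
    · intro h1
      exact val_inj (papp_lt permz hi) hi h1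
  have h2 := beq_iff_eq.1 (List.all_eq_true.1 kz i (mem_pts hi))
  have h3 := beq_iff_eq.1 (List.all_eq_true.1 kz _ (mem_pts (val_lt x i)))
  rw [← h2, ← h3]
  cases h4 : Nat.beq (papp zP i) i
  · cases h5 : Nat.beq (papp zP (val x i)) (val x i)
    · rfl
    · have h6 := h1.2 (Nat.eq_of_beq_eq_true h5)
      rw [h6, Nat.beq_refl] at h4
      cases h4
  · have h6 := h1.1 (Nat.eq_of_beq_eq_true h4)
    rw [h6, Nat.beq_refl]

/-- `x` commutes with `z` and maps `b` to `b` or `bz` -/
def HB (x : Equiv.Perm GolayPt) : Prop := x * z = z * x ∧ (x * b = b * x ∨ x * b = b * z * x)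

theorem HB.mul {x y : Equiv.Perm GolayPt} (hx : HB x) (hy : HB y) : HB (x * y) := by
  obtain ⟨h1, h2⟩ := hx
  obtain ⟨h3, h4⟩ := hy
  have zz : z * z = 1 := elV z zV
  refine ⟨by rw [mul_assoc, h3, ← mul_assoc, h1, mul_assoc], ?_⟩
  rcases h2 with h2 | h2 <;> rcases h4 with h4 | h4
  · left; rw [mul_assoc, h4, ← mul_assoc, h2, mul_assoc]
  · right
    calc x * y * b = x * (y * b) := mul_assoc _ _ _
      _ = (x * b) * z * y := by rw [h4]; group
      _ = b * (x * z) * y := by rw [h2]; group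
      _ = b * z * (x * y) := by rw [h1]; group
  · right
    calc x * y * b = x * (y * b) := mul_assoc _ _ _
      _ = (x * b) * y := by rw [h4]; group
      _ = b * z * (x * y) := by rw [h2]; group
  · left
    calc x * y * b = x * (y * b) := mul_assoc _ _ _
      _ = (x * b) * z * y := by rw [h4]; group
      _ = b * z * (x * z) * y := by rw [h2]; group
      _ = b * (z * z) * (x * y) := by rw [h1]; group
      _ = b * (x * y) := by rw [zz, mul_one]

theorem tab : (T1.all fun a => T2.all fun d => T3.all fun e => T5.all fun f =>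
    !weq [a, d, e, f, zP] [zP, a, d, e, f] || (weq [a, d, e, f, bP] [bP, a, d, e, f] ||
      weq [a, d, e, f, bP] [bP, zP, a, d, e, f])) = true := by decide +kernel

theorem permT {L : List ℕ} (h : L.all isPerm = true) {P : ℕ} (hP : P ∈ L) : isPerm P = true :=
  List.all_eq_true.1 h P hP

/-- every element of `C(z)` in `M22:2` maps `b` to `b` or `bz` -/
theorem hb {x : Equiv.Perm GolayPt} (hx : x ∈ D22) (hz : x * z = z * x) : HB x := by
  have hb0 : HB b := ⟨b_comm_z, Or.inl rfl⟩
  have key : ∀ y ∈ Spor.M22, y * z = z * y → HB y := by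
    intro y hy hyz
    obtain ⟨a, ha, d, hd, e, he, f, hf, v, hv, rfl⟩ := exists_chain hy (pres_of_comm hyz)
    have hvz : pm v * z = z * pm v := comm_of_El elV ⟨v, hv, rfl⟩ zV
    have pa := permT (L := T1) (by decide +kernel) ha
    have pd := permT (L := T2) (by decide +kernel) hd
    have pe := permT (L := T3) (by decide +kernel) he
    have pf := permT (L := T5) (by decide +kernel) hf
    have hr : pm a * pm d * pm e * pm f * z = z * (pm a * pm d * pm e * pm f) := by
      apply mul_right_cancel (b := pm v)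
      calc pm a * pm d * pm e * pm f * z * pm v = pm a * pm d * pm e * pm f * (z * pm v) := by group
        _ = pm a * pm d * pm e * pm f * pm v * z := by rw [← hvz]; group
        _ = _ := by rw [hyz]; group
    have hrb : HB (pm a * pm d * pm e * pm f) := by
      refine ⟨hr, ?_⟩
      have h1 := List.all_eq_true.1 (List.all_eq_true.1 (List.all_eq_true.1 (List.all_eq_true.1 tab a ha) d hd)
        e he) f hf
      have okr : okl [a, d, e, f] = true := by
        unfold okl
        rw [List.all_cons, List.all_cons, List.all_cons, List.all_cons, pa, pd, pe, pf]; rfl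
      have hpr : pr [a, d, e, f] = pm a * pm d * pm e * pm f := pr_four _ _ _ _
      have p1 : ∀ Q, pr [a, d, e, f, Q] = pm a * pm d * pm e * pm f * pm Q := by
        intro Q
        have := pr_append [a, d, e, f] [Q]
        rw [hpr, pr_one] at this
        exact this
      have p2 : ∀ Q, pr [Q, a, d, e, f] = pm Q * (pm a * pm d * pm e * pm f) := by
        intro Q
        rw [pr_cons, hpr]
      have p3 : ∀ Q R, pr [Q, R, a, d, e, f] = pm Q * pm R * (pm a * pm d * pm e * pm f) := by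
        intro Q R
        rw [pr_cons, pr_cons, hpr, ← mul_assoc]
      have o1 : ∀ Q, isPerm Q = true → okl [a, d, e, f, Q] = true := by
        intro Q hQ
        exact okl_append okr (okl1 hQ)
      have o2 : ∀ Q, isPerm Q = true → okl [Q, a, d, e, f] = true := by
        intro Q hQ
        exact okl_append (okl1 hQ) okr
      rw [Bool.or_eq_true, Bool.or_eq_true, Bool.not_eq_true'] at h1
      rcases h1 with h1 | h1 | h1
      · exfalso
        apply pr_ne (o1 _ permz) (o2 _ permz) h1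
        rw [p1, p2]
        exact hr
      · left
        have := pr_of_weq (o1 _ permb) (o2 _ permb) h1
        rwa [p1, p2] at this
      · right
        have := pr_of_weq (o1 _ permb) (okl_append (okl2 permb permz) okr) h1
        rw [p1] at this
        rw [show ([bP, zP] ++ [a, d, e, f]) = [bP, zP, a, d, e, f] from rfl, p3] at this
        exact this
    refine hrb.mul ⟨hvz, ?_⟩
    have kv : (VL.all fun P => weq [P, bP] [bP, P] || weq [P, bP] [bP, zP, P]) = true := by decide +kernel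
    have h1 := List.all_eq_true.1 kv v hv
    rw [Bool.or_eq_true] at h1
    rcases h1 with h1 | h1
    · left
      have := pr_of_weq (okl2 (pV hv) permb) (okl2 permb (pV hv)) h1
      rwa [pr_two, pr_two] at this
    · right
      have := pr_of_weq (okl2 (pV hv) permb) (okl3 permb permz (pV hv)) h1
      rwa [pr_two, pr_three] at this
  by_cases h22 : x ∈ Spor.M22
  · exact key x h22 hz
  · have h1 : HB (x * b) := key _ (out_b hx h22) (by
      rw [mul_assoc, b_comm_z, ← mul_assoc, hz, mul_assoc])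
    have h2 := h1.mul hb0
    rwa [mul_assoc, bb, mul_one] at h2

theorem mulw {G : Type*} [Group G] {b w w' x y : G} (hx : x * b = b * w * x) (hy : y * b = b * w' * y)
    (hxw : x * w' = w' * x) (_ : w' * b = b * w') (_ : w * w' = w' * w) :
    x * y * b = b * (w * w') * (x * y) := by
  calc x * y * b = x * (y * b) := mul_assoc _ _ _
    _ = (x * b) * w' * y := by rw [hy]; group
    _ = b * w * (x * w') * y := by rw [hx]; group
    _ = b * (w * w') * (x * y) := by rw [hxw]; group

theorem commw {G : Type*} [Group G] {b w X Y : G} (hX : X * b = b * w * X) (hY : Y * b = b * w * Y)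
    (hXw : X * w = w * X) (hYw : Y * w = w * Y) : b * (X * Y⁻¹) = X * Y⁻¹ * b := by
  have h1 : Y⁻¹ * w = w * Y⁻¹ := by
    rw [inv_mul_eq_iff_eq_mul, ← mul_assoc, hYw, mul_inv_cancel_right]
  have h2 : Y⁻¹ * (b * w) = b * Y⁻¹ := by
    rw [inv_mul_eq_iff_eq_mul, ← mul_assoc, hY, mul_inv_cancel_right]
  apply mul_right_cancel (b := w)
  calc b * (X * Y⁻¹) * w = b * X * (Y⁻¹ * w) := by group
    _ = b * (X * w) * Y⁻¹ := by rw [h1]; group
    _ = (b * w * X) * Y⁻¹ := by rw [hXw]; group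
    _ = X * (b * Y⁻¹) := by rw [← hX]; group
    _ = X * Y⁻¹ * b * w := by rw [← h2]; group

/-- `b` centralises the commutators of `C(z)` -/
theorem comm_b {x y : Equiv.Perm GolayPt} (hx : x ∈ D22) (hy : y ∈ D22) (hxz : x * z = z * x)
    (hyz : y * z = z * y) : b * (x * y * x⁻¹ * y⁻¹) = x * y * x⁻¹ * y⁻¹ * b := by
  have h1 : ∃ w, (w = 1 ∨ w = z) ∧ x * b = b * w * x := by
    rcases (hb hx hxz).2 with h | h
    · exact ⟨1, Or.inl rfl, by rw [mul_one]; exact h⟩
    · exact ⟨z, Or.inr rfl, h⟩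
  have h2 : ∃ w, (w = 1 ∨ w = z) ∧ y * b = b * w * y := by
    rcases (hb hy hyz).2 with h | h
    · exact ⟨1, Or.inl rfl, by rw [mul_one]; exact h⟩
    · exact ⟨z, Or.inr rfl, h⟩
  obtain ⟨w, hw, h1⟩ := h1
  obtain ⟨w', hw', h2⟩ := h2
  have hxw : ∀ u, (u = 1 ∨ u = z) → x * u = u * x := by
    rintro u (rfl | rfl)
    · group
    · exact hxz
  have hyw : ∀ u, (u = 1 ∨ u = z) → y * u = u * y := by
    rintro u (rfl | rfl)
    · group
    · exact hyz
  have hbw : ∀ u, (u = 1 ∨ u = z) → u * b = b * u := by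
    rintro u (rfl | rfl)
    · group
    · exact b_comm_z.symm
  have hww : w * w' = w' * w := by
    rcases hw with rfl | rfl <;> rcases hw' with rfl | rfl <;> group
  have hX := mulw h1 h2 (hxw _ hw') (hbw _ hw') hww
  have hY := mulw h2 h1 (hyw _ hw) (hbw _ hw) hww.symm
  rw [← hww] at hY
  have e : x * y * x⁻¹ * y⁻¹ = (x * y) * (y * x)⁻¹ := by group
  rw [e]
  apply commw hX hY
  · rw [mul_assoc, ← mul_assoc y, hyw _ hw, mul_assoc w, hyw _ hw', ← mul_assoc, hxw _ hw]
    simp only [mul_assoc]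
    rw [← mul_assoc x w', hxw _ hw']
    simp only [mul_assoc]
  · rw [mul_assoc, ← mul_assoc x, hxw _ hw, mul_assoc w, hxw _ hw', ← mul_assoc, hyw _ hw]
    simp only [mul_assoc]
    rw [← mul_assoc y w', hyw _ hw']
    simp only [mul_assoc]

/-- an element of `V` commuting with the commutators of `C(z)` lies in `⟨z⟩` -/
theorem cD {v : Equiv.Perm GolayPt} (hv : v ∈ V) (h : ∀ x ∈ D22, ∀ y ∈ D22, x * z = z * x →
    y * z = z * y → v * (x * y * x⁻¹ * y⁻¹) = x * y * x⁻¹ * y⁻¹ * v) : v = 1 ∨ v = z := by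
  obtain ⟨P, hP, rfl⟩ := hv
  have p0 : isPerm x0P = true ∧ isPerm y0P = true ∧ isPerm g0P = true := by decide +kernel
  have p1 : isPerm x1P = true ∧ isPerm y1P = true ∧ isPerm g1P = true := by decide +kernel
  have k : (VL.all fun P => weq [P] [] || (weq [P] [zP] || (!weq [P, g0P] [g0P, P] ||
      !weq [P, g1P] [g1P, P]))) = true := by decide +kernel
  have h1 := List.all_eq_true.1 k P hP
  rw [Bool.or_eq_true, Bool.or_eq_true, Bool.or_eq_true, Bool.not_eq_true', Bool.not_eq_true'] at h1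
  have key : ∀ X Y G, isPerm X = true → isPerm Y = true → isPerm G = true → isAut X = true →
      isAut Y = true → (papp X 23 = 23 ∧ papp X 0 = 0 ∨ papp X 23 = 0 ∧ papp X 0 = 23) →
      (papp Y 23 = 23 ∧ papp Y 0 = 0 ∨ papp Y 23 = 0 ∧ papp Y 0 = 23) →
      weq [X, zP] [zP, X] = true → weq [Y, zP] [zP, Y] = true → weq [G, Y, X] [X, Y] = true →
      weq [P, G] [G, P] = false → False := by
    intro X Y G hX hY hG aX aY dX dY zX zY e hne
    have mem : ∀ X, isPerm X = true → isAut X = true →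
        (papp X 23 = 23 ∧ papp X 0 = 0 ∨ papp X 23 = 0 ∧ papp X 0 = 23) → pm X ∈ D22 := by
      intro X hX aX dX
      rw [mem_D22_iff]
      refine ⟨pm_mem_M24 hX aX, ?_⟩
      have q23 := pt_val (pm X) 23
      have q0 := pt_val (pm X) 0
      rw [val_pm hX (by norm_num)] at q23 q0
      rcases dX with ⟨d1, d2⟩ | ⟨d1, d2⟩
      · rw [d1] at q23; rw [d2] at q0
        exact Or.inl ⟨q23.symm, q0.symm⟩
      · rw [d1] at q23; rw [d2] at q0
        exact Or.inr ⟨q23.symm, q0.symm⟩
    have zX' := pr_of_weq (okl2 hX permz) (okl2 permz hX) zX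
    have zY' := pr_of_weq (okl2 hY permz) (okl2 permz hY) zY
    have e' := pr_of_weq (okl3 hG hY hX) (okl2 hX hY) e
    rw [pr_two, pr_two] at zX' zY'
    rw [pr_three, pr_two] at e'
    have hGe : pm G = pm X * pm Y * (pm X)⁻¹ * (pm Y)⁻¹ := by
      rw [← e']; group
    apply pr_ne (okl2 (pV hP) hG) (okl2 hG (pV hP)) hne
    rw [pr_two, pr_two, hGe]
    exact h _ (mem X hX aX dX) _ (mem Y hY aY dY) zX' zY'
  rcases h1 with h1 | h1 | h1 | h1
  · left
    have := pr_of_weq (okl1 (pV hP)) rfl h1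
    rwa [pr_one, pr_nil] at this
  · right
    have := pr_of_weq (okl1 (pV hP)) (okl1 permz) h1
    rwa [pr_one, pr_one] at this
  · exact (key x0P y0P g0P p0.1 p0.2.1 p0.2.2 (by decide +kernel) (by decide +kernel) (by decide +kernel)
      (by decide +kernel) (by decide +kernel) (by decide +kernel) (by decide +kernel) h1).elim
  · exact (key x1P y1P g1P p1.1 p1.2.1 p1.2.2 (by decide +kernel) (by decide +kernel) (by decide +kernel)
      (by decide +kernel) (by decide +kernel) (by decide +kernel) (by decide +kernel) h1).elim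

/-- an element of `W` commuting with `N(W) ∩ C(z)` lies in `⟨z⟩` -/
theorem stab {r : Equiv.Perm GolayPt} (hr : r ∈ W) (h : ∀ k ∈ Spor.M22, (∀ x ∈ W, k * x * k⁻¹ ∈ W) →
    k * z = z * k → k * r = r * k) : r = 1 ∨ r = z := by
  by_cases hV : r ∈ V
  · have hc := h c c_mem22 cW (z_central c c_mem)
    apply Int.cen r (V_le hV)
    rintro _ ⟨v, hv, w, hw, rfl | rfl⟩
    · rw [mul_assoc, comm_of_El elW hw hr, ← mul_assoc, comm_of_El elV hv hV, mul_assoc]
    · rw [mul_assoc, hc, ← mul_assoc, mul_assoc v, comm_of_El elW hw hr, ← mul_assoc,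
        comm_of_El elV hv hV, mul_assoc r, mul_assoc r]
  · exfalso
    -- some `v ∈ V` outside `W` does not commute with `r`
    obtain ⟨v, hv, w, hw, hvw⟩ := z_comm
    have hvW : v ∉ W := by
      intro hvW
      have : v * w = w * v := comm_of_El elW hvW hw
      apply z1
      rw [← hvw, this]
      group
    have h1 := h v (V_le22 hv) (VW v hv) (z_central v (V_le hv))
    exact hV (cVW v hv hvW r hr h1)

/-- `N(SA) ∩ C(V ∩ W) ≤ V P` -/
theorem nSA {k : Equiv.Perm GolayPt} (hk : k ∈ D22) (hN : Nrm k SA)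
    (hC : ∀ x ∈ V, x ∈ W → k * x = x * k) : ∃ v ∈ V, ∃ w ∈ P, k = v * w := by
  have key : ∀ g ∈ Spor.M22, Nrm g SA → (∀ x ∈ V, x ∈ W → g * x = x * g) → ∃ v ∈ V, ∃ w ∈ W, g = v * w := by
    intro g hg hgN hgC
    apply mem_R.1
    apply nS (M22_le23 hg) _ hgC
    apply nrm_of
    intro x hx
    apply SA_M22 ((hgN x).2 (OutS.S_le hx))
    exact mul_mem (mul_mem hg (S_le22 hx)) (inv_mem hg)
  by_cases h22 : k ∈ Spor.M22
  · obtain ⟨v, hv, w, hw, h⟩ := key k h22 hN hC
    exact ⟨v, hv, w, W_le_P hw, h⟩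
  · have hbN : Nrm b SA := nrm_of fun x hx => mul_mem (mul_mem b_SA hx) (inv_mem b_SA)
    obtain ⟨v, hv, w, hw, h⟩ := key (k * b) (out_b hk h22) (nrm_mul hN hbN) (by
      intro x hV hW
      rw [mul_assoc, b_comm_W x hW, ← mul_assoc, hC x hV hW, mul_assoc])
    refine ⟨v, hv, w * b, mul_mem (W_le_P hw) b_mem, ?_⟩
    have e : k = k * b * b := by rw [mul_assoc, bb, mul_one]
    rw [e, h, mul_assoc]

end Cfsg.Agent.KFacts.MM.OutC

end
end

-- part: KFacts/HS/Final
section
set_option linter.all false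
open scoped Cfsg.Agent.FastGrp

set_option autoImplicit false

/-!
# Facts on `HS`: the fact sheet of row D8

`Mod.sheet : SheetHS z u k P R`, and the fields `two`, `max`, `k0`, `inv2` of `SheetHSM` (`exists_sheet`).
-/

universe u

namespace Cfsg.Agent.KFacts.HS

open Cfsg.Agent.OddHalf Cfsg.Agent.OddHalf.D8.HS.SheetHS
open Subgroup (centralizer mem_centralizer_singleton_iff)
open scoped commutatorElement

/-- groups whose order is a proper divisor of 60 are solvable -/
theorem solvable_of_dvd {G : Type*} [Group G] [Finite G] {m n : ℕ} (h : m * n = 60) (hm : m ≠ 1)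
    (hG : Nat.card G = n) : Group.IsSolvable G := by
  have hn : n ∈ Nat.divisors 60 := Nat.mem_divisors.2 ⟨⟨m, by rw [mul_comm]; exact h.symm⟩, by norm_num⟩
  have h1 : Nat.divisors 60 = {1, 2, 3, 4, 5, 6, 10, 12, 15, 20, 30, 60} := by decide +kernel
  rw [h1] at hn
  simp only [Finset.mem_insert, Finset.mem_singleton] at hn
  rcases hn with rfl | rfl | rfl | rfl | rfl | rfl | rfl | rfl | rfl | rfl | rfl | rfl
  · exact Cfsg.Agent.S0144.result 2 3 0 0 (by norm_num) (by norm_num) (by rw [hG]; norm_num)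
  · exact Cfsg.Agent.S0144.result 2 3 1 0 (by norm_num) (by norm_num) (by rw [hG]; norm_num)
  · exact Cfsg.Agent.S0144.result 2 3 0 1 (by norm_num) (by norm_num) (by rw [hG]; norm_num)
  · exact Cfsg.Agent.S0144.result 2 3 2 0 (by norm_num) (by norm_num) (by rw [hG]; norm_num)
  · exact Cfsg.Agent.S0144.result 2 5 0 1 (by norm_num) (by norm_num) (by rw [hG]; norm_num)
  · exact Cfsg.Agent.S0144.result 2 3 1 1 (by norm_num) (by norm_num) (by rw [hG]; norm_num)
  · exact Cfsg.Agent.S0144.result 2 5 1 1 (by norm_num) (by norm_num) (by rw [hG]; norm_num)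
  · exact Cfsg.Agent.S0144.result 2 3 2 1 (by norm_num) (by norm_num) (by rw [hG]; norm_num)
  · exact Cfsg.Agent.S0144.result 3 5 1 1 (by norm_num) (by norm_num) (by rw [hG]; norm_num)
  · exact Cfsg.Agent.S0144.result 2 5 2 1 (by norm_num) (by norm_num) (by rw [hG]; norm_num)
  · have : IsZGroup G := IsZGroup.of_squarefree (by
      rw [hG]
      have h30 : (30 : ℕ) = 2 * (3 * 5) := by norm_num
      rw [h30, Nat.squarefree_mul (by norm_num), Nat.squarefree_mul (by norm_num)]
      exact ⟨Nat.prime_two.prime.squarefree, Nat.prime_three.prime.squarefree, Nat.prime_five.prime.squarefree⟩)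
    infer_instance
  · exact absurd (by omega : m = 1) hm

theorem max_aux {L : Type*} [Group L] [Finite L] {P R : Subgroup L} (hP : ⁅P, P⁆ = P) (hc : Nat.card P = 3840)
    (hR : Nat.card R = 64) (N : Subgroup L) (hRN : R ≤ N) (hNP : N ≤ P)
    (hn : ∀ p ∈ P, ∀ n ∈ N, p * n * p⁻¹ ∈ N) : N = R ∨ N = P := by
  have hN : (N.subgroupOf P).Normal := ⟨fun n hn' p => hn p p.2 n hn'⟩
  have h0 : ∀ {A B : Subgroup L}, A ≤ B → A.relIndex B * Nat.card A = Nat.card B := by
    intro A B hAB
    have h := (A.subgroupOf B).card_mul_index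
    rw [Nat.card_congr (Subgroup.subgroupOfEquivOfLe hAB).toEquiv] at h
    rw [mul_comm]
    exact h
  have h1 := h0 hRN
  have h2 := h0 hNP
  have h3 : R.relIndex N * N.relIndex P = 60 := by
    rw [← h1, hR, hc] at h2
    have h4 : N.relIndex P * (R.relIndex N * 64) = R.relIndex N * N.relIndex P * 64 := by ring
    omega
  by_cases hm : R.relIndex N = 1
  · left
    exact le_antisymm (Subgroup.relIndex_eq_one.1 hm) hRN
  · right
    have hcard : Nat.card (P ⧸ N.subgroupOf P) = N.relIndex P := rfl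
    have hs := solvable_of_dvd h3 hm hcard
    have hperf : commutator (P ⧸ N.subgroupOf P) = ⊤ := by
      have hPc : ⁅(⊤ : Subgroup P), (⊤ : Subgroup P)⁆ = ⊤ := by
        apply Subgroup.map_injective P.subtype_injective
        rw [Subgroup.map_commutator, ← MonoidHom.range_eq_map, Subgroup.range_subtype, hP]
      rw [commutator_def, ← Subgroup.map_top_of_surjective _ (QuotientGroup.mk'_surjective (N.subgroupOf P)),
        ← Subgroup.map_commutator, hPc]
    by_contra hne
    have hnt : Nontrivial (P ⧸ N.subgroupOf P) := by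
      rw [← Finite.one_lt_card_iff_nontrivial, hcard]
      have h5 : N.relIndex P ≠ 1 := fun h => hne (le_antisymm hNP (Subgroup.relIndex_eq_one.1 h))
      have h6 : N.relIndex P ≠ 0 := by
        intro h
        rw [h, mul_zero] at h3
        exact absurd h3 (by norm_num)
      omega
    have := Group.IsSolvable.commutator_lt_top_of_nontrivial (G := P ⧸ N.subgroupOf P)
    rw [hperf] at this
    exact lt_irrefl _ this

namespace Mod

variable {L : Type*} [Group L] (D : Mod L)

theorem sheet : SheetHS D.z D.u D.k D.P D.R where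
  zz := D.zz
  z1 := D.z1
  uu := D.uu
  uR := D.uR
  RP := D.RP
  memP := D.memP
  Rn := fun _ hx _ hr => D.Rn' (D.Pcomm hx) hr
  inv := D.inv
  syl := D.syl
  perf := D.perf
  der := D.der
  out := D.out
  schreier := D.schreier
  sylAut := fun S hS α _ hα => D.sylAut S hS α hα
  cardR := D.cardR
  core := D.core
  subs := D.subs
  cR := D.cR
  aut := fun α _ hz ht => D.aut α hz ht
  kz := D.kz
  kP := D.kP
  kz' := D.kz'
  kP' := D.kP'
  y1 := fun s h1 h2 h3 => D.y1 s h1 h2 h3
  y3 := D.y3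
  y4 := D.y4
  y5 := D.y5

include D in
theorem two : ∃ n : ℕ, (MulAut.conj : L →* MulAut L).range.index = 2 ^ n :=
  ⟨1, by rw [D.index_inn, pow_one]⟩

theorem max (N : Subgroup L) (h1 : D.R ≤ N) (h2 : N ≤ D.P) (h3 : ∀ p ∈ D.P, ∀ n ∈ N, p * n * p⁻¹ ∈ N) :
    N = D.R ∨ N = D.P :=
  have := D.finite
  max_aux D.perf D.cardP D.cardR N h1 h2 h3

end Mod

/-- **the fact sheet of `HS`** -/
theorem exists_sheet {L : Type u} [Group L] (h : Cfsg.Spor.IsoHS L) :
    ∃ (z v k : L) (P R : Subgroup L), SheetHS z v k P R ∧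
      (∃ n : ℕ, (MulAut.conj : L →* MulAut L).range.index = 2 ^ n) ∧
      (∀ N : Subgroup L, R ≤ N → N ≤ P → (∀ p ∈ P, ∀ n ∈ N, p * n * p⁻¹ ∈ N) → N = R ∨ N = P) ∧
      (∃ c : L, c * (k⁻¹ * z * k * v) * c⁻¹ ∈ P) ∧
      ∀ x : L, x * x = 1 → x ≠ 1 → (∃ c, x = c * z * c⁻¹) ∨ ∃ c, x = c * (k⁻¹ * z * k * v) * c⁻¹ := by
  obtain ⟨D⟩ := exists_mod h
  exact ⟨D.z, D.u, D.k, D.P, D.R, D.sheet, D.two, D.max, D.k0, D.inv2⟩

end Cfsg.Agent.KFacts.HS
end

-- part: KFacts/PSpFourThree/Gen
section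
set_option linter.all false
open scoped Cfsg.Agent.FastGrp

/-!
# `PSp₄(3)`: an involution swapping `z` and `v`; generation of `K` by `C(z)` and that involution (helper931)
-/

set_option autoImplicit false
set_option linter.style.haveILetI false
set_option maxRecDepth 100000

namespace Cfsg.Agent.KFacts.PSpFourThree

open Matrix Subgroup Cfsg
open Cfsg.Agent.Lib.FieldThree (F3)
open Cfsg.Agent.SmallSimple.S1000.Order25920PSp (Mat Sp π π_mul π_one π_eq m1 m2 m3 m4)
open Cfsg.Agent.OddHalf.Small.PSp43 (πh πh_apply comm_or eq_or_of_π_eq)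
open Cfsg.Agent.ClassicalGeometry.SympBasic
open Cfsg.Agent.LieClassical.SympPerfect

namespace PE

/-- the matrix of the involution -/
noncomputable def KI : Sp := ⟨Cfsg.Agent.SmallSimple.S1000.Order25920PSp.mat
  ![![.i, .i, .m, .m], ![.i, .m, .m, .i], ![.o, .o, .m, .m], ![.o, .o, .m, .i]], by
    rw [SymplecticGroup.mem_iff]; decide +kernel⟩

theorem ki_z : π KI * z = vv.el * π KI := by
  rw [el_vv, z, el_zz, ← π_mul, ← π_mul]
  refine π_eq ?_
  show (KI : Mat) * m3 = m4 * KI ∨ (KI : Mat) * m3 = -((m4 : Mat) * KI)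
  decide +kernel

theorem ki_v : π KI * vv.el = z * π KI := by
  rw [el_vv, z, el_zz, ← π_mul, ← π_mul]
  refine π_eq ?_
  show (KI : Mat) * m4 = m3 * KI ∨ (KI : Mat) * m4 = -((m3 : Mat) * KI)
  decide +kernel

theorem ki_sq : π KI * π KI = 1 := by
  rw [← π_mul, ← π_one]
  refine π_eq ?_
  show (KI : Mat) * KI = 1 ∨ (KI : Mat) * KI = -1
  decide +kernel

/-- `v z` is not conjugate to `z` -/
theorem not_conj (g : PSp 2 F3) : g * z ≠ vv.el * z * g := by
  obtain ⟨X, rfl⟩ := QuotientGroup.mk_surjective g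
  intro h
  have h' : π X * z = vv.el * z * π X := h
  rw [el_vv, z, el_zz, ← π_mul, ← π_mul, ← π_mul] at h'
  have e0 : (m3 : Mat) * m3 = 1 := by decide +kernel
  have e1 : (m4 : Mat) * m3 * ((m4 : Mat) * m3) = -1 := by decide +kernel
  have key : (X : Mat) = -(X : Mat) := by
    rcases eq_or_of_π_eq h' with e | e
    · have e' : (X : Mat) * m3 = (m4 : Mat) * m3 * X := e
      calc (X : Mat) = X * m3 * m3 := by rw [mul_assoc, e0, mul_one]
        _ = (m4 : Mat) * m3 * (X * m3) := by rw [← mul_assoc ((m4 : Mat) * m3), ← e']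
        _ = (m4 : Mat) * m3 * ((m4 : Mat) * m3) * X := by rw [e', ← mul_assoc]
        _ = -X := by rw [e1, neg_mul, one_mul]
    · have e' : (X : Mat) * m3 = -((m4 : Mat) * m3 * X) := e
      calc (X : Mat) = X * m3 * m3 := by rw [mul_assoc, e0, mul_one]
        _ = -((m4 : Mat) * m3 * (X * m3)) := by
          rw [← mul_assoc ((m4 : Mat) * m3), ← neg_mul, ← e']
        _ = (m4 : Mat) * m3 * ((m4 : Mat) * m3) * X := by rw [e', mul_neg, neg_neg, ← mul_assoc]
        _ = -X := by rw [e1, neg_mul, one_mul]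
  have h2 : (1 : Mat) = -1 := by
    have h3 : (X : Mat) * ((X⁻¹ : Sp) : Mat) = 1 := congrArg Subtype.val (mul_inv_cancel X)
    calc (1 : Mat) = (X : Mat) * ((X⁻¹ : Sp) : Mat) := h3.symm
      _ = -(X : Mat) * ((X⁻¹ : Sp) : Mat) := by rw [← key]
      _ = -1 := by rw [neg_mul, h3]
  exact absurd h2 (by decide +kernel)

/-! ### Generation -/

/-- the vector `e` -/
def e0 : Fin 2 ⊕ Fin 2 → F3 := Sum.elim ![.i, .o] ![.o, .o]

private theorem allG_of {α : Type} {f : α → Bool} (h : ∀ x, f x = true) : ∀ l, allG f l = true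
  | [] => rfl
  | x :: l => by
    show and (f x) (allG f l) = true
    rw [h, allG_of h l]
    rfl

private theorem bm_vec (a b c d u : Fin 2 → F3) :
    Cfsg.Agent.OddHalf.Small.PSp43.bm a b c d *ᵥ Sum.elim u 0 = Sum.elim (a * u) (c * u) := by
  have h : ∀ a : Fin 2 → F3, Matrix.diagonal a *ᵥ u = a * u := fun a => funext fun i => Matrix.mulVec_diagonal a u i
  unfold Cfsg.Agent.OddHalf.Small.PSp43.bm
  rw [Matrix.fromBlocks_mulVec, Sum.elim_comp_inl, Sum.elim_comp_inr, Matrix.mulVec_zero, Matrix.mulVec_zero, add_zero,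
    add_zero, h, h]

theorem act_check : allG (fun x => allG (fun y =>
    decide (bmm x y *ᵥ e0 = Sum.elim ![x.a, .o] ![x.c, .o]) &&
    decide ((bmm x y * (m4 : Mat)) *ᵥ e0 = Sum.elim ![.o, y.a] ![.o, y.c]) &&
    decide ((bmm x y * (KI : Mat)) *ᵥ e0 = Sum.elim ![x.a, y.a] ![x.c, y.c])) slL) slL = true := by
  have h0 : e0 = Sum.elim ![F3.i, F3.o] (0 : Fin 2 → F3) := by decide +kernel
  have h4 : (m4 : Mat) *ᵥ e0 = Sum.elim ![F3.o, F3.i] (0 : Fin 2 → F3) := by decide +kernel
  have hK : (KI : Mat) *ᵥ e0 = Sum.elim ![F3.i, F3.i] (0 : Fin 2 → F3) := by decide +kernel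
  have h : ∀ p q : F3, (![p, q] * ![F3.i, F3.o] : Fin 2 → F3) = ![p, F3.o] ∧ (![p, q] * ![F3.o, F3.i] : Fin 2 → F3) = ![F3.o, q] ∧
      (![p, q] * ![F3.i, F3.i] : Fin 2 → F3) = ![p, q] := by decide +kernel
  apply allG_of
  intro x
  apply allG_of
  intro y
  rw [Bool.and_eq_true, Bool.and_eq_true, decide_eq_true_eq, decide_eq_true_eq, decide_eq_true_eq, ← Matrix.mulVec_mulVec,
    ← Matrix.mulVec_mulVec, h4, hK, h0]
  delta bmm
  rw [bm_vec, bm_vec, bm_vec, (h _ _).1, (h _ _).1, (h _ _).2.1, (h _ _).2.1, (h _ _).2.2, (h _ _).2.2]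
  exact ⟨⟨rfl, rfl⟩, rfl⟩

theorem col_check : ∀ a c : F3, (a = 0 ∧ c = 0) ∨ ∃ x ∈ slL, x.a = a ∧ x.c = c := by decide +kernel

theorem transv_e0 (c : F3) : (transv e0 c : Mat) * m3 = m3 * (transv e0 c : Mat) := by
  rw [coe_transv]
  revert c
  decide +kernel

/-- `⟨C(z), k⟩ = K` -/
theorem gen_top {H : Subgroup (PSp 2 F3)} (hP : ∀ p : PE, p.Ok → p.el ∈ H) (hk : π KI ∈ H) : H = ⊤ := by
  set H' : Subgroup Sp := H.comap πh with hH'
  have hmem : ∀ g : Sp, g ∈ H' ↔ π g ∈ H := fun g => Iff.rfl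
  have hPH : ∀ (p : PE) (hp : p.Ok), p.sp hp ∈ H' := fun p hp => by
    rw [hmem, ← el_eq hp]; exact hP p hp
  have hkH : KI ∈ H' := hk
  have h0 : ∀ c, transv e0 c ∈ H' := by
    intro c
    have h1 : π (transv e0 c) * z = z * π (transv e0 c) := by
      rw [z, el_zz, ← π_mul, ← π_mul]
      exact π_eq (Or.inl (transv_e0 c))
    obtain ⟨p, hp, h2⟩ := exists_el h1
    rw [hmem, h2]
    exact hP p hp
  have htr : ∀ w : Fin 2 ⊕ Fin 2 → F3, w ≠ 0 → ∃ A : Sp, A ∈ H' ∧ (A : Mat) *ᵥ e0 = w := by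
    intro w hw
    have hwe : w = Sum.elim ![w (.inl 0), w (.inl 1)] ![w (.inr 0), w (.inr 1)] := by
      funext i
      rcases i with i | i <;> fin_cases i <;> rfl
    rcases col_check (w (.inl 0)) (w (.inr 0)) with ⟨ha, hc⟩ | ⟨x, hx, hxa, hxc⟩
    · rcases col_check (w (.inl 1)) (w (.inr 1)) with ⟨hb, hd⟩ | ⟨y, hy, hyb, hyd⟩
      · exfalso
        apply hw
        rw [hwe, ha, hb, hc, hd]
        funext i
        rcases i with i | i <;> fin_cases i <;> rfl
      · have hp : (PE.mk M2.one y true).Ok := ⟨det_one, slL_det y hy⟩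
        refine ⟨_, hPH _ hp, ?_⟩
        have h1 := (allG_iff _ _).1 ((allG_iff _ _).1 act_check M2.one (mem_slL det_one)) y hy
        rw [Bool.and_eq_true, Bool.and_eq_true, decide_eq_true_eq, decide_eq_true_eq] at h1
        show (bmm M2.one y * sw true) *ᵥ e0 = w
        rw [st, h1.1.2, hwe, ha, hc, ← hyb, ← hyd]
        rfl
    · rcases col_check (w (.inl 1)) (w (.inr 1)) with ⟨hb, hd⟩ | ⟨y, hy, hyb, hyd⟩
      · have hp : (PE.mk x M2.one false).Ok := ⟨slL_det x hx, det_one⟩
        refine ⟨_, hPH _ hp, ?_⟩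
        have h1 := (allG_iff _ _).1 ((allG_iff _ _).1 act_check x hx) M2.one (mem_slL det_one)
        rw [Bool.and_eq_true, Bool.and_eq_true, decide_eq_true_eq, decide_eq_true_eq] at h1
        show (bmm x M2.one * sw false) *ᵥ e0 = w
        rw [sf, mul_one, h1.1.1, hwe, hb, hd, ← hxa, ← hxc]
        rfl
      · have hp : (PE.mk x y false).Ok := ⟨slL_det x hx, slL_det y hy⟩
        refine ⟨_, H'.mul_mem (hPH _ hp) hkH, ?_⟩
        have h1 := (allG_iff _ _).1 ((allG_iff _ _).1 act_check x hx) y hy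
        rw [Bool.and_eq_true, decide_eq_true_eq] at h1
        show (bmm x y * sw false * (KI : Mat)) *ᵥ e0 = w
        rw [sf, mul_one, h1.2, hwe, ← hxa, ← hxc, ← hyb, ← hyd]
  have hall : ∀ (w : Fin 2 ⊕ Fin 2 → F3) (c : F3), transv w c ∈ H' := by
    intro w c
    by_cases hw : w = 0
    · have h1 : transv w c = 1 := by
        rw [hw, ← zero_smul F3 (0 : Fin 2 ⊕ Fin 2 → F3), transv_smul, zero_pow two_ne_zero, zero_mul, transv_zero]
      rw [h1]; exact one_mem _
    · obtain ⟨A, hA, rfl⟩ := htr w hw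
      rw [← conj_transv]
      exact mul_mem (mul_mem hA (h0 c)) (inv_mem hA)
  have htop : H' = ⊤ := by
    rw [eq_top_iff, ← Cfsg.Agent.S0765.result (F := F3) 2, closure_le]
    rintro A ⟨w, c, hA⟩
    have : A = transv w c := Subtype.ext hA
    rw [this]
    exact hall w c
  rw [eq_top_iff]
  intro g _
  obtain ⟨X, rfl⟩ := QuotientGroup.mk_surjective g
  have h1 : X ∈ H' := by rw [htop]; exact mem_top _
  exact h1

end PE

end Cfsg.Agent.KFacts.PSpFourThree
end

-- part: KFacts/LFourThree/Case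
section
prune_inst 0x4101055605d22020000000592e1001c46de000192004b800091e00b0606ce5c6009022e20fc901c10002a2004483c0068170810c4620000000a000000011d05a18000c00293480104260009800080000000000000000000000000000000041004200000000
set_option linter.all false
open scoped Cfsg.Agent.FastGrp

-- merged: Cfsg.Agent.KFacts.LFourThree.Inst
section

/-!
# `PSL(4, 3)`: the centraliser of a 2-central involution is the model of `SmallExtra438`, case `9aa`, twist `0`
(helper948)

`case9aa : Case9aa Q z i j k l x₁ x₂ y s` and `tw0 : Tw 0 z y s` in `PSL(4, 3)`; all questions on `C_K(z)` are then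
questions on codes `< 1152` (`FrameA`).
-/

set_option autoImplicit false
set_option linter.unusedSimpArgs false

namespace Cfsg.Agent.KFacts.LFourThree

open Matrix
open Cfsg.Agent.LargeExtra.Model Cfsg.Agent.LargeExtra.Pres Cfsg.Agent.LargeExtra.Models
open Cfsg.Agent.LargeExtra.W2 Cfsg.Agent.SmallExtra438.ModelA Cfsg.Agent.Co2Type.Quad
open Cfsg.Agent.SmallExtra438.Model (rP4 nd_P4 tri_P4)
open Cfsg.Agent.SmallExtra438.FrameA (Tw tw_zero)

instance : Fact (Nat.Prime 3) := ⟨Nat.prime_three⟩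

abbrev F3 := ZMod 3
abbrev SL4 := _root_.Matrix.SpecialLinearGroup (Fin 4) F3
abbrev L := ProjectiveSpecialLinearGroup (Fin 4) F3
abbrev M2 := Matrix (Fin 2) (Fin 2) F3
abbrev M4 := Matrix (Fin 4) (Fin 4) F3

/-- the projection -/
def pr : SL4 →* L := QuotientGroup.mk' (Subgroup.center SL4)

theorem pr_surj : Function.Surjective pr := QuotientGroup.mk'_surjective (Subgroup.center SL4)

/-- `-1` -/
def m1 : SL4 := ⟨!![2, 0, 0, 0; 0, 2, 0, 0; 0, 0, 2, 0; 0, 0, 0, 2], by (refine of_decide_eq_true ?_; (try (rewrite [Cfsg.Agent.LsF.zdet_pat, Cfsg.Agent.LsF.mof_pat, Cfsg.Agent.LsF.vecCons_eq, Cfsg.Agent.LsF.zdecEq_eq, Cfsg.Agent.LsF.finFintype_eq, Cfsg.Agent.LsF.decide_eq])); decide +kernel)⟩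

theorem m1_comm (A : SL4) : m1 * A = A * m1 := by
  apply Subtype.ext
  have h : (m1 : SL4).1 = (2 : F3) • (1 : M4) := by decide +kernel
  change m1.1 * A.1 = A.1 * m1.1
  rw [h]; simp

theorem m1_sq : m1 * m1 = 1 := by decide +kernel

theorem m1_ne : m1 ≠ 1 := by decide +kernel

theorem mem_center {A : SL4} : A ∈ Subgroup.center SL4 ↔ A = 1 ∨ A = m1 := by
  constructor
  · intro h
    rw [Matrix.SpecialLinearGroup.mem_center_iff] at h
    obtain ⟨r, hr, h⟩ := h
    have h2 : ∀ r : F3, r ^ 4 = 1 → r = 1 ∨ r = 2 := by decide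
    rcases h2 r (by simpa only [_root_.Fintype.card_fin] using hr) with rfl | rfl
    · left
      apply Subtype.ext
      rw [← h]; simp
    · right
      apply Subtype.ext
      rw [← h]; decide +kernel
  · rintro (rfl | rfl)
    · exact one_mem _
    · rw [Subgroup.mem_center_iff]
      intro g
      exact (m1_comm g).symm

theorem pr_m1 : pr m1 = 1 := by
  have h : m1 ∈ Subgroup.center SL4 := mem_center.2 (Or.inr rfl)
  exact (QuotientGroup.eq_one_iff (N := Subgroup.center SL4) m1).2 h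

theorem inv_aux {G : Type*} [Group G] {a b c : G} (h : a⁻¹ * b = c) : b = a * c := by rw [← h]; group

theorem pr_eq_aux {A B : SL4} (h : pr A = pr B) : A⁻¹ * B = 1 ∨ A⁻¹ * B = m1 := by
  have h1 : A⁻¹ * B ∈ Subgroup.center SL4 := QuotientGroup.eq.1 h
  exact mem_center.1 h1

theorem aux1 {A B : SL4} (h2 : A⁻¹ * B = 1) : B = A := by
  have h3 := inv_aux (G := SL4) (a := A) (b := B) (c := 1) h2
  exact h3.trans (mul_one A)

theorem aux2 {A B : SL4} (h2 : A⁻¹ * B = m1) : A = m1 * B := by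
  have h3 := inv_aux (G := SL4) (a := A) (b := B) (c := m1) h2
  have h4 : m1 * (A * m1) = A := by
    have := m1_comm A
    calc m1 * (A * m1) = m1 * (m1 * A) := by rw [this]
      _ = m1 * m1 * A := (mul_assoc m1 m1 A).symm
      _ = A := by rw [m1_sq]; exact one_mul A
  rw [h3]; exact h4.symm

theorem aux3 {A B : SL4} (h : A = m1 * B) : pr A = pr B := by
  rw [h, map_mul, pr_m1, one_mul]

theorem pr_eq_iff {A B : SL4} : pr A = pr B ↔ A = B ∨ A = m1 * B := by
  constructor
  · intro h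
    rcases pr_eq_aux h with h2 | h2
    · exact Or.inl (aux1 h2).symm
    · exact Or.inr (aux2 h2)
  · rintro (h | h)
    · rw [h]
    · exact aux3 h

theorem pr_eq_one_iff {A : SL4} : pr A = 1 ↔ A = 1 ∨ A = m1 := by
  have h1 : pr A = 1 ↔ A ∈ Subgroup.center SL4 := QuotientGroup.eq_one_iff (N := Subgroup.center SL4) A
  exact h1.trans mem_center

/-! ### the elements -/

def eI : SL4 := ⟨!![0, 1, 0, 0; 2, 0, 0, 0; 0, 0, 1, 0; 0, 0, 0, 1], by (refine of_decide_eq_true ?_; (try (rewrite [Cfsg.Agent.LsF.zdet_pat, Cfsg.Agent.LsF.mof_pat, Cfsg.Agent.LsF.vecCons_eq, Cfsg.Agent.LsF.zdecEq_eq, Cfsg.Agent.LsF.finFintype_eq, Cfsg.Agent.LsF.decide_eq])); decide +kernel)⟩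
def eJ : SL4 := ⟨!![1, 1, 0, 0; 1, 2, 0, 0; 0, 0, 1, 0; 0, 0, 0, 1], by (refine of_decide_eq_true ?_; (try (rewrite [Cfsg.Agent.LsF.zdet_pat, Cfsg.Agent.LsF.mof_pat, Cfsg.Agent.LsF.vecCons_eq, Cfsg.Agent.LsF.zdecEq_eq, Cfsg.Agent.LsF.finFintype_eq, Cfsg.Agent.LsF.decide_eq])); decide +kernel)⟩
def eK : SL4 := ⟨!![1, 0, 0, 0; 0, 1, 0, 0; 0, 0, 0, 1; 0, 0, 2, 0], by (refine of_decide_eq_true ?_; (try (rewrite [Cfsg.Agent.LsF.zdet_pat, Cfsg.Agent.LsF.mof_pat, Cfsg.Agent.LsF.vecCons_eq, Cfsg.Agent.LsF.zdecEq_eq, Cfsg.Agent.LsF.finFintype_eq, Cfsg.Agent.LsF.decide_eq])); decide +kernel)⟩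
def eL : SL4 := ⟨!![1, 0, 0, 0; 0, 1, 0, 0; 0, 0, 1, 1; 0, 0, 1, 2], by (refine of_decide_eq_true ?_; (try (rewrite [Cfsg.Agent.LsF.zdet_pat, Cfsg.Agent.LsF.mof_pat, Cfsg.Agent.LsF.vecCons_eq, Cfsg.Agent.LsF.zdecEq_eq, Cfsg.Agent.LsF.finFintype_eq, Cfsg.Agent.LsF.decide_eq])); decide +kernel)⟩
def eZ : SL4 := ⟨!![2, 0, 0, 0; 0, 2, 0, 0; 0, 0, 1, 0; 0, 0, 0, 1], by (refine of_decide_eq_true ?_; (try (rewrite [Cfsg.Agent.LsF.zdet_pat, Cfsg.Agent.LsF.mof_pat, Cfsg.Agent.LsF.vecCons_eq, Cfsg.Agent.LsF.zdecEq_eq, Cfsg.Agent.LsF.finFintype_eq, Cfsg.Agent.LsF.decide_eq])); decide +kernel)⟩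
def eX₁ : SL4 := ⟨!![0, 1, 0, 0; 2, 2, 0, 0; 0, 0, 1, 0; 0, 0, 0, 1], by (refine of_decide_eq_true ?_; (try (rewrite [Cfsg.Agent.LsF.zdet_pat, Cfsg.Agent.LsF.mof_pat, Cfsg.Agent.LsF.vecCons_eq, Cfsg.Agent.LsF.zdecEq_eq, Cfsg.Agent.LsF.finFintype_eq, Cfsg.Agent.LsF.decide_eq])); decide +kernel)⟩
def eX₂ : SL4 := ⟨!![1, 0, 0, 0; 0, 1, 0, 0; 0, 0, 0, 1; 0, 0, 2, 2], by (refine of_decide_eq_true ?_; (try (rewrite [Cfsg.Agent.LsF.zdet_pat, Cfsg.Agent.LsF.mof_pat, Cfsg.Agent.LsF.vecCons_eq, Cfsg.Agent.LsF.zdecEq_eq, Cfsg.Agent.LsF.finFintype_eq, Cfsg.Agent.LsF.decide_eq])); decide +kernel)⟩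
def eY : SL4 := ⟨!![1, 0, 0, 0; 2, 2, 0, 0; 0, 0, 1, 0; 0, 0, 2, 2], by (refine of_decide_eq_true ?_; (try (rewrite [Cfsg.Agent.LsF.zdet_pat, Cfsg.Agent.LsF.mof_pat, Cfsg.Agent.LsF.vecCons_eq, Cfsg.Agent.LsF.zdecEq_eq, Cfsg.Agent.LsF.finFintype_eq, Cfsg.Agent.LsF.decide_eq])); decide +kernel)⟩
def eS : SL4 := ⟨!![0, 0, 1, 0; 0, 0, 0, 1; 1, 0, 0, 0; 0, 1, 0, 0], by (refine of_decide_eq_true ?_; (try (rewrite [Cfsg.Agent.LsF.zdet_pat, Cfsg.Agent.LsF.mof_pat, Cfsg.Agent.LsF.vecCons_eq, Cfsg.Agent.LsF.zdecEq_eq, Cfsg.Agent.LsF.finFintype_eq, Cfsg.Agent.LsF.decide_eq])); decide +kernel)⟩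

def i : L := pr eI
def j : L := pr eJ
def k : L := pr eK
def l : L := pr eL
def z : L := pr eZ
def x₁ : L := pr eX₁
def x₂ : L := pr eX₂
def y : L := pr eY
def s : L := pr eS

/-- `Q = Q₈ ∘ Q₈` -/
def Q : Subgroup L := Subgroup.closure {i, j, k, l}

theorem pm {A B : SL4} (h : A = B ∨ A = m1 * B) : pr A = pr B := pr_eq_iff.2 h

theorem zz : z * z = 1 := by
  rw [z, ← map_mul, pr_eq_one_iff]
  decide +kernel

theorem z_ne : z ≠ 1 := by
  rw [z, Ne, pr_eq_one_iff]
  decide +kernel

theorem ii : i * i = z := by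
  simp only [i, j, k, l, z, x₁, x₂, y, s, ← map_mul, ← map_pow]; exact pm (by decide +kernel)
theorem jj : j * j = z := by
  simp only [i, j, k, l, z, x₁, x₂, y, s, ← map_mul, ← map_pow]; exact pm (by decide +kernel)
theorem kk : k * k = z := by
  simp only [i, j, k, l, z, x₁, x₂, y, s, ← map_mul, ← map_pow]; exact pm (by decide +kernel)
theorem ll : l * l = z := by
  simp only [i, j, k, l, z, x₁, x₂, y, s, ← map_mul, ← map_pow]; exact pm (by decide +kernel)
theorem ji : j * i = i * j * z := by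
  simp only [i, j, k, l, z, x₁, x₂, y, s, ← map_mul, ← map_pow]; exact pm (by decide +kernel)
theorem lk : l * k = k * l * z := by
  simp only [i, j, k, l, z, x₁, x₂, y, s, ← map_mul, ← map_pow]; exact pm (by decide +kernel)
theorem ki : k * i = i * k := by
  simp only [i, j, k, l, z, x₁, x₂, y, s, ← map_mul, ← map_pow]; exact pm (by decide +kernel)
theorem li : l * i = i * l := by
  simp only [i, j, k, l, z, x₁, x₂, y, s, ← map_mul, ← map_pow]; exact pm (by decide +kernel)
theorem kj : k * j = j * k := by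
  simp only [i, j, k, l, z, x₁, x₂, y, s, ← map_mul, ← map_pow]; exact pm (by decide +kernel)
theorem lj : l * j = j * l := by
  simp only [i, j, k, l, z, x₁, x₂, y, s, ← map_mul, ← map_pow]; exact pm (by decide +kernel)

theorem conj_eq {G : Type*} [Group G] {c g g' : G} (h : c * g = g' * c) : c * g * c⁻¹ = g' := by
  rw [h]; group

theorem x₁_act : Act z i j k l x₁ j (i * j) k l where
  z := conj_eq (by
    simp only [i, j, k, l, z, x₁, x₂, y, s, ← map_mul, ← map_pow]; exact pm (by decide +kernel))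
  i := conj_eq (by
    simp only [i, j, k, l, z, x₁, x₂, y, s, ← map_mul, ← map_pow]; exact pm (by decide +kernel))
  j := conj_eq (by
    simp only [i, j, k, l, z, x₁, x₂, y, s, ← map_mul, ← map_pow]; exact pm (by decide +kernel))
  k := conj_eq (by
    simp only [i, j, k, l, z, x₁, x₂, y, s, ← map_mul, ← map_pow]; exact pm (by decide +kernel))
  l := conj_eq (by
    simp only [i, j, k, l, z, x₁, x₂, y, s, ← map_mul, ← map_pow]; exact pm (by decide +kernel))

theorem x₂_act : Act z i j k l x₂ i j l (k * l) where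
  z := conj_eq (by
    simp only [i, j, k, l, z, x₁, x₂, y, s, ← map_mul, ← map_pow]; exact pm (by decide +kernel))
  i := conj_eq (by
    simp only [i, j, k, l, z, x₁, x₂, y, s, ← map_mul, ← map_pow]; exact pm (by decide +kernel))
  j := conj_eq (by
    simp only [i, j, k, l, z, x₁, x₂, y, s, ← map_mul, ← map_pow]; exact pm (by decide +kernel))
  k := conj_eq (by
    simp only [i, j, k, l, z, x₁, x₂, y, s, ← map_mul, ← map_pow]; exact pm (by decide +kernel))
  l := conj_eq (by
    simp only [i, j, k, l, z, x₁, x₂, y, s, ← map_mul, ← map_pow]; exact pm (by decide +kernel))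

theorem y_act : Act z i j k l y (j * z) (i * z) (l * z) (k * z) where
  z := conj_eq (by
    simp only [i, j, k, l, z, x₁, x₂, y, s, ← map_mul, ← map_pow]; exact pm (by decide +kernel))
  i := conj_eq (by
    simp only [i, j, k, l, z, x₁, x₂, y, s, ← map_mul, ← map_pow]; exact pm (by decide +kernel))
  j := conj_eq (by
    simp only [i, j, k, l, z, x₁, x₂, y, s, ← map_mul, ← map_pow]; exact pm (by decide +kernel))
  k := conj_eq (by
    simp only [i, j, k, l, z, x₁, x₂, y, s, ← map_mul, ← map_pow]; exact pm (by decide +kernel))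
  l := conj_eq (by
    simp only [i, j, k, l, z, x₁, x₂, y, s, ← map_mul, ← map_pow]; exact pm (by decide +kernel))

theorem s_act : Act z i j k l s k l i j where
  z := conj_eq (by
    simp only [i, j, k, l, z, x₁, x₂, y, s, ← map_mul, ← map_pow]; exact pm (by decide +kernel))
  i := conj_eq (by
    simp only [i, j, k, l, z, x₁, x₂, y, s, ← map_mul, ← map_pow]; exact pm (by decide +kernel))
  j := conj_eq (by
    simp only [i, j, k, l, z, x₁, x₂, y, s, ← map_mul, ← map_pow]; exact pm (by decide +kernel))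
  k := conj_eq (by
    simp only [i, j, k, l, z, x₁, x₂, y, s, ← map_mul, ← map_pow]; exact pm (by decide +kernel))
  l := conj_eq (by
    simp only [i, j, k, l, z, x₁, x₂, y, s, ← map_mul, ← map_pow]; exact pm (by decide +kernel))

theorem x₁3 : x₁ ^ 3 = 1 := by
  simp only [i, j, k, l, z, x₁, x₂, y, s, ← map_mul, ← map_pow]; exact pr_eq_one_iff.2 (by decide +kernel)
theorem x₂3 : x₂ ^ 3 = 1 := by
  simp only [i, j, k, l, z, x₁, x₂, y, s, ← map_mul, ← map_pow]; exact pr_eq_one_iff.2 (by decide +kernel)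
theorem xx : x₁ * x₂ = x₂ * x₁ := by
  simp only [i, j, k, l, z, x₁, x₂, y, s, ← map_mul, ← map_pow]; exact pm (by decide +kernel)

theorem inv_of_sq {G : Type*} [Group G] {g : G} (h : g ^ 3 = 1) : g⁻¹ = g * g := by
  rw [inv_eq_iff_mul_eq_one, ← mul_assoc, ← pow_two, ← pow_succ, h]

theorem y1 : y * x₁ * y⁻¹ = x₁⁻¹ := by
  rw [inv_of_sq x₁3]
  exact conj_eq (by
    simp only [i, j, k, l, z, x₁, x₂, y, s, ← map_mul, ← map_pow]; exact pm (by decide +kernel))

theorem y2 : y * x₂ * y⁻¹ = x₂⁻¹ := by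
  rw [inv_of_sq x₂3]
  exact conj_eq (by
    simp only [i, j, k, l, z, x₁, x₂, y, s, ← map_mul, ← map_pow]; exact pm (by decide +kernel))

theorem s1 : s * x₁ * s⁻¹ = x₂ :=
  conj_eq (by
    simp only [i, j, k, l, z, x₁, x₂, y, s, ← map_mul, ← map_pow]; exact pm (by decide +kernel))

theorem s2 : s * x₂ * s⁻¹ = x₁ :=
  conj_eq (by
    simp only [i, j, k, l, z, x₁, x₂, y, s, ← map_mul, ← map_pow]; exact pm (by decide +kernel))

theorem yy : y * y = 1 := by
  simp only [i, j, k, l, z, x₁, x₂, y, s, ← map_mul, ← map_pow]; exact pr_eq_one_iff.2 (by decide +kernel)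
theorem ss : s * s = 1 := by
  simp only [i, j, k, l, z, x₁, x₂, y, s, ← map_mul, ← map_pow]; exact pr_eq_one_iff.2 (by decide +kernel)
theorem sy : s * y = y * s := by
  simp only [i, j, k, l, z, x₁, x₂, y, s, ← map_mul, ← map_pow]; exact pm (by decide +kernel)

theorem tw0 : Tw 0 z y s := tw_zero yy ss sy

/-! ### the hom from the model -/

theorem z_comm {g : L} (h : g ∈ ({i, j, k, l, x₁, x₂, y, s} : Set L)) : g * z = z * g := by
  simp only [Set.mem_insert_iff, Set.mem_singleton_iff] at h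
  rcases h with rfl | rfl | rfl | rfl | rfl | rfl | rfl | rfl
  · simp only [i, j, k, l, z, x₁, x₂, y, s, ← map_mul, ← map_pow]; exact pm (by decide +kernel)
  · simp only [i, j, k, l, z, x₁, x₂, y, s, ← map_mul, ← map_pow]; exact pm (by decide +kernel)
  · simp only [i, j, k, l, z, x₁, x₂, y, s, ← map_mul, ← map_pow]; exact pm (by decide +kernel)
  · simp only [i, j, k, l, z, x₁, x₂, y, s, ← map_mul, ← map_pow]; exact pm (by decide +kernel)
  · simp only [i, j, k, l, z, x₁, x₂, y, s, ← map_mul, ← map_pow]; exact pm (by decide +kernel)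
  · simp only [i, j, k, l, z, x₁, x₂, y, s, ← map_mul, ← map_pow]; exact pm (by decide +kernel)
  · simp only [i, j, k, l, z, x₁, x₂, y, s, ← map_mul, ← map_pow]; exact pm (by decide +kernel)
  · simp only [i, j, k, l, z, x₁, x₂, y, s, ← map_mul, ← map_pow]; exact pm (by decide +kernel)

theorem rels : Rels rP4 4 z (SmallExtra438.Frame.gn i j k l) where
  zz := zz
  comm := by
    intro n hn
    interval_cases n <;> exact z_comm (by simp only [SmallExtra438.Frame.gn, _root_.List.getD_eq_getElem?_getD, _root_.List.length_cons, _root_.List.length_nil, _root_.zero_add, _root_.Nat.reduceAdd, _root_.Nat.ofNat_pos, _root_.getElem?_pos, _root_.List.getElem_cons_zero, _root_.Option.getD_some, _root_.Set.mem_insert_iff, _root_.Set.mem_singleton_iff, _root_.true_or, _root_.Nat.one_lt_ofNat, _root_.List.getElem_cons_succ, _root_.or_true, _root_.Nat.reduceLT, _root_.Nat.lt_add_one])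
  sq := by
    intro n hn
    interval_cases n
    · exact ii
    · exact jj
    · exact kk
    · exact ll
  cm := by
    have hi : i * z = z * i := z_comm (by simp)
    have hj : j * z = z * j := z_comm (by simp)
    have hk : k * z = z * k := z_comm (by simp)
    have hl : l * z = z * l := z_comm (by simp)
    intro n hn m hm
    interval_cases n
    · omega
    · interval_cases m
      change j * i = z * (i * j)
      rw [ji, mul_assoc, hj, ← mul_assoc, hi, mul_assoc]
    · interval_cases m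
      · change k * i = 1 * (i * k)
        rw [one_mul, ki]
      · change k * j = 1 * (j * k)
        rw [one_mul, kj]
    · interval_cases m
      · change l * i = 1 * (i * l)
        rw [one_mul, li]
      · change l * j = 1 * (j * l)
        rw [one_mul, lj]
      · change l * k = z * (k * l)
        rw [lk, mul_assoc, hl, ← mul_assoc, hk, mul_assoc]

/-- the hom `XG → L` with range `Q` -/
noncomputable def f : XG rP4 4 →* L := lift rels tri_P4

theorem f_inj : Function.Injective f := lift_injective rels tri_P4 nd_P4 z_ne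

theorem f_zz : f LargeExtra.Model.zz = z := lift_zz _ _

theorem f_range : f.range = Q := by
  apply le_antisymm
  · rintro _ ⟨w, rfl⟩
    have h1 : w ∈ (⊤ : Subgroup (XG rP4 4)) := Subgroup.mem_top _
    rw [← closure_q rP4 4] at h1
    have h2 : Subgroup.closure (insert (LargeExtra.Model.zz) (Set.range (q rP4 4))) ≤ Q.comap f := by
      rw [Subgroup.closure_le]
      rintro g (rfl | ⟨n, rfl⟩)
      · change f LargeExtra.Model.zz ∈ Q
        rw [f_zz, ← ii]
        exact mul_mem (Subgroup.subset_closure (by simp)) (Subgroup.subset_closure (by simp))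
      · change lift rels tri_P4 (q rP4 4 n) ∈ Q
        rw [lift_q]
        apply Subgroup.subset_closure
        fin_cases n <;> simp [SmallExtra438.Frame.gn]
    exact h2 h1
  · rw [Q, Subgroup.closure_le]
    intro g hg
    simp only [Set.mem_insert_iff, Set.mem_singleton_iff] at hg
    rcases hg with rfl | rfl | rfl | rfl
    · exact ⟨q rP4 4 0, lift_q rels tri_P4 0⟩
    · exact ⟨q rP4 4 1, lift_q rels tri_P4 1⟩
    · exact ⟨q rP4 4 2, lift_q rels tri_P4 2⟩
    · exact ⟨q rP4 4 3, lift_q rels tri_P4 3⟩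

theorem card_Q : Nat.card Q = 32 := by
  rw [← f_range, ← Nat.card_congr (MonoidHom.ofInjective f_inj).toEquiv, card_XG]
  norm_num

end Cfsg.Agent.KFacts.LFourThree

end

-- merged: Cfsg.Agent.KFacts.LFourThree.Cent
section

/-!
# `PSL(4, 3)`: the centraliser of `z` (helper948)

`C(z)` consists of the images of the `b M N * Y ^ c * S ^ e`, `M, N ∈ SL₂(3)`; order `1152`.
-/

set_option autoImplicit false

namespace Cfsg.Agent.KFacts.LFourThree

open Matrix

abbrev SL2 := _root_.Matrix.SpecialLinearGroup (Fin 2) F3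

/-- block diagonal matrices -/
def bd (M N : M2) : M4 := !![M 0 0, M 0 1, 0, 0; M 1 0, M 1 1, 0, 0; 0, 0, N 0 0, N 0 1; 0, 0, N 1 0, N 1 1]

theorem bd_mul (M N M' N' : M2) : bd M N * bd M' N' = bd (M * M') (N * N') := by
  ext a b
  (revert a b; simp only [bd, Matrix.mul_apply, Fin.sum_univ_succ, _root_.Fin.forall_fin_succ, Fin.isValue, _root_.Matrix.of_apply, _root_.Matrix.cons_val', _root_.Matrix.cons_val_fin_one, _root_.Matrix.cons_val_zero, _root_.Matrix.cons_val_succ, _root_.Finset.univ_unique, _root_.Fin.default_eq_zero, _root_.Finset.sum_const, _root_.Finset.card_singleton, _root_.one_smul, _root_.Finset.sum_singleton, _root_.Fin.succ_zero_eq_one, _root_.MulZeroClass.mul_zero, _root_.add_zero, _root_.zero_add, _root_.forall_const, _root_.MulZeroClass.zero_mul, _root_.and_self, _root_.implies_true])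

theorem bd_one : bd 1 1 = 1 := by
  ext a b
  (revert a b; simp only [bd, _root_.Fin.forall_fin_succ, _root_.Matrix.one_apply_eq, Fin.isValue, _root_.ne_eq, _root_.zero_ne_one, _root_.not_false_eq_true, _root_.Matrix.one_apply_ne, _root_.one_ne_zero, _root_.Matrix.of_apply, _root_.Matrix.cons_val', _root_.Matrix.cons_val_fin_one, _root_.Matrix.cons_val_zero, _root_.Matrix.cons_val_succ, _root_.IsEmpty.forall_iff, _root_.and_true, Nat.reduceAdd, _root_.Fin.succ_zero_eq_one, _root_.Fin.succ_one_eq_two, Fin.reduceEq, Fin.reduceSucc, _root_.and_self, _root_.Fin.succ_ne_zero, _root_.true_and])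

theorem bd_det (M N : M2) : (bd M N).det = M.det * N.det := by
  rw [Matrix.det_fin_two, Matrix.det_fin_two, Matrix.det_succ_row_zero]
  simp only [bd, Fin.sum_univ_succ, Matrix.det_fin_three, Matrix.submatrix_apply, Fin.succAbove, _root_.Nat.succ_eq_add_one, _root_.Nat.reduceAdd, _root_.Fin.isValue, _root_.Matrix.of_apply, _root_.Matrix.cons_val', _root_.Matrix.cons_val_fin_one, _root_.Matrix.cons_val_zero, _root_.Fin.succ_zero_eq_one, _root_.Fin.castSucc_zero, _root_.Matrix.cons_val_one, _root_.Fin.succ_one_eq_two, _root_.Fin.castSucc_one, _root_.Matrix.cons_val, _root_.Fin.reduceSucc, _root_.Fin.reduceCastSucc, _root_.Fin.coe_ofNat_eq_mod, _root_.Nat.zero_mod, _root_.pow_zero, _root_.one_mul, _root_.lt_self_iff_false, ↓ _root_.reduceIte, _root_.not_lt_zero, _root_.MulZeroClass.mul_zero, _root_.MulZeroClass.zero_mul, _root_.sub_zero, _root_.add_zero, _root_.Fin.val_succ, _root_.Matrix.cons_val_succ, _root_.Fin.succ_pos, _root_.zero_add, _root_.pow_one, _root_.neg_mul,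 _root_.Fin.lt_one_iff, _root_.Fin.reduceEq, _root_.even_two, _root_.Even.neg_pow, _root_.one_pow, _root_.Fin.reduceLT, _root_.sub_self, _root_.Finset.univ_unique, _root_.Fin.default_eq_zero, _root_.Fin.val_eq_zero, _root_.ZMod.pow_card, _root_.Finset.sum_const_zero]
  ring

theorem bd_inj {M N M' N' : M2} (h : bd M N = bd M' N') : M = M' ∧ N = N' := by
  have e : ∀ a b, bd M N a b = bd M' N' a b := fun a b => by rw [h]
  constructor
  · ext a b
    fin_cases a <;> fin_cases b
    · exact e 0 0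
    · exact e 0 1
    · exact e 1 0
    · exact e 1 1
  · ext a b
    fin_cases a <;> fin_cases b
    · exact e 2 2
    · exact e 2 3
    · exact e 3 2
    · exact e 3 3

/-- block diagonal elements -/
def b (M N : SL2) : SL4 := ⟨bd M.1 N.1, by rw [bd_det, M.2, N.2, mul_one]⟩

theorem b_mul (M N M' N' : SL2) : b M N * b M' N' = b (M * M') (N * N') := by
  apply Subtype.ext
  change bd M.1 N.1 * bd M'.1 N'.1 = bd (M * M').1 (N * N').1
  rw [bd_mul]; rfl

/-- `M ↦ diag(M, 1)` -/
def b₁ : SL2 →* SL4 where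
  toFun M := b M 1
  map_one' := Subtype.ext bd_one
  map_mul' M N := by rw [b_mul, mul_one]

/-- `N ↦ diag(1, N)` -/
def b₂ : SL2 →* SL4 where
  toFun N := b 1 N
  map_one' := Subtype.ext bd_one
  map_mul' M N := by rw [b_mul, mul_one]

theorem b_eq (M N : SL2) : b M N = b₁ M * b₂ N := by
  change b M N = b M 1 * b 1 N
  rw [b_mul, mul_one, one_mul]

def Y2 : M2 := !![1, 0; 2, 2]

theorem Y2_sq : Y2 * Y2 = 1 := by decide +kernel
theorem Y2_det : Y2.det = 2 := by decide +kernel
theorem eY_val : eY.1 = bd Y2 Y2 := by decide +kernel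
theorem eS_sq : eS * eS = 1 := by decide +kernel

/-- the diagonal of `Z` -/
def dZ : Fin 4 → F3 := ![2, 2, 1, 1]

theorem eZ_val : eZ.1 = Matrix.diagonal dZ := by decide +kernel

theorem comm_entry {A : M4} (h : A * Matrix.diagonal dZ = Matrix.diagonal dZ * A) (a c : Fin 4) :
    A a c * dZ c = dZ a * A a c := by
  have := congrFun (congrFun h a) c
  rwa [Matrix.mul_diagonal, Matrix.diagonal_mul] at this

theorem three_aux : ∀ x : F3, (x * 1 = 2 * x → x = 0) ∧ (x * 2 = 1 * x → x = 0) := by decide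

theorem bd_of_comm {A : M4} (h : A * Matrix.diagonal dZ = Matrix.diagonal dZ * A) :
    A = bd !![A 0 0, A 0 1; A 1 0, A 1 1] !![A 2 2, A 2 3; A 3 2, A 3 3] := by
  have e := comm_entry h
  have e02 : A 0 2 = 0 := (three_aux _).1 (e 0 2)
  have e03 : A 0 3 = 0 := (three_aux _).1 (e 0 3)
  have e12 : A 1 2 = 0 := (three_aux _).1 (e 1 2)
  have e13 : A 1 3 = 0 := (three_aux _).1 (e 1 3)
  have e20 : A 2 0 = 0 := (three_aux _).2 (e 2 0)
  have e21 : A 2 1 = 0 := (three_aux _).2 (e 2 1)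
  have e30 : A 3 0 = 0 := (three_aux _).2 (e 3 0)
  have e31 : A 3 1 = 0 := (three_aux _).2 (e 3 1)
  ext a b
  (revert a b; simp only [bd, e02, e03, e12, e13, e20, e21, e30, e31, _root_.Fin.forall_fin_succ, Fin.isValue, _root_.Matrix.of_apply, _root_.Matrix.cons_val', _root_.Matrix.cons_val_zero, _root_.Matrix.cons_val_fin_one, _root_.Matrix.cons_val_one, _root_.Matrix.cons_val_succ, _root_.Fin.succ_zero_eq_one, _root_.Fin.succ_one_eq_two, Fin.reduceSucc, _root_.IsEmpty.forall_iff, _root_.and_true, _root_.and_self])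

theorem bd_comm (M N : M2) : bd M N * Matrix.diagonal dZ = Matrix.diagonal dZ * bd M N := by
  have h : Matrix.diagonal dZ = bd ((2 : F3) • (1 : M2)) 1 := by decide +kernel
  rw [h, bd_mul, bd_mul]
  congr 1 <;> simp

theorem det_cases : ∀ x w : F3, x * w = 1 → (x = 1 ∧ w = 1) ∨ (x = 2 ∧ w = 2) := by decide

theorem exists_b_of_comm {A : SL4} (h : A * eZ = eZ * A) :
    ∃ M N : SL2, A = b M N ∨ A = b M N * eY := by
  have h1 : A.1 * Matrix.diagonal dZ = Matrix.diagonal dZ * A.1 := by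
    rw [← eZ_val]; exact congrArg Subtype.val h
  have h2 := bd_of_comm h1
  generalize !![A.1 0 0, A.1 0 1; A.1 1 0, A.1 1 1] = M at h2
  generalize !![A.1 2 2, A.1 2 3; A.1 3 2, A.1 3 3] = N at h2
  have h3 : M.det * N.det = 1 := by rw [← bd_det, ← h2]; exact A.2
  rcases det_cases _ _ h3 with ⟨hM, hN⟩ | ⟨hM, hN⟩
  · exact ⟨⟨M, hM⟩, ⟨N, hN⟩, Or.inl (Subtype.ext h2)⟩
  · have e2 : (2 : F3) * 2 = 1 := by decide
    refine ⟨⟨M * Y2, by rw [Matrix.det_mul, hM, Y2_det, e2]⟩,
      ⟨N * Y2, by rw [Matrix.det_mul, hN, Y2_det, e2]⟩, Or.inr (Subtype.ext ?_)⟩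
    change A.1 = bd (M * Y2) (N * Y2) * eY.1
    rw [eY_val, bd_mul, mul_assoc, mul_assoc, Y2_sq, mul_one, mul_one, h2]

/-- the elements of the preimage of `C(z)` -/
def phi (x : SL2 × SL2 × Bool × Bool) : SL4 :=
  b x.1 x.2.1 * (if x.2.2.1 then eY else 1) * (if x.2.2.2 then eS else 1)

theorem b_comm (M N : SL2) : b M N * eZ = eZ * b M N := by
  apply Subtype.ext
  change bd M.1 N.1 * eZ.1 = eZ.1 * bd M.1 N.1
  rw [eZ_val, bd_comm]

theorem eY_comm : eY * eZ = eZ * eY := by decide +kernel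
theorem eS_comm : eS * eZ = m1 * (eZ * eS) := by decide +kernel

theorem mul_comm_aux {G : Type*} [Group G] {a b z : G} (ha : a * z = z * a) (hb : b * z = z * b) :
    a * b * z = z * (a * b) := by
  rw [mul_assoc, hb, ← mul_assoc, ha, mul_assoc]

theorem mul_comm_aux' {G : Type*} [Group G] {a b z m : G} (hm : ∀ g, m * g = g * m) (ha : a * z = z * a)
    (hb : b * z = m * (z * b)) : a * b * z = m * (z * (a * b)) := by
  rw [mul_assoc, hb, ← mul_assoc, ← hm a, mul_assoc, ← mul_assoc a, ha, mul_assoc]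

theorem mul_comm_aux'' {G : Type*} [Group G] {a b z m : G} (hm : ∀ g, m * g = g * m) (hmm : m * m = 1)
    (ha : a * z = m * (z * a))
    (hb : b * z = m * (z * b)) : a * b * z = z * (a * b) := by
  rw [mul_assoc, hb, ← mul_assoc, ← hm a, mul_assoc, ← mul_assoc a, ha, mul_assoc m, ← mul_assoc m, hmm, one_mul,
    mul_assoc]

theorem by_comm (M N : SL2) (c : Bool) : b M N * (if c then eY else 1) * eZ = eZ * (b M N * (if c then eY else 1)) := by
  apply mul_comm_aux (b_comm M N)
  cases c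
  · exact (mul_one eZ).symm ▸ (one_mul eZ)
  · exact eY_comm

theorem phi_comm (x : SL2 × SL2 × Bool × Bool) :
    phi x * eZ = eZ * phi x ∨ phi x * eZ = m1 * (eZ * phi x) := by
  obtain ⟨M, N, c, e⟩ := x
  cases e
  · left
    change b M N * (if c then eY else 1) * 1 * eZ = eZ * (b M N * (if c then eY else 1) * 1)
    exact mul_comm_aux (by_comm M N c) ((one_mul eZ).trans (mul_one eZ).symm)
  · right
    change b M N * (if c then eY else 1) * eS * eZ = m1 * (eZ * (b M N * (if c then eY else 1) * eS))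
    exact mul_comm_aux' m1_comm (by_comm M N c) eS_comm

theorem exists_phi {A : SL4} (h : A * eZ = eZ * A ∨ A * eZ = m1 * (eZ * A)) : ∃ x, phi x = A := by
  rcases h with h | h
  · obtain ⟨M, N, h1 | h1⟩ := exists_b_of_comm h
    · refine ⟨(M, N, false, false), ?_⟩
      change b M N * 1 * 1 = A
      rw [h1]; exact (mul_one _).trans (mul_one _)
    · refine ⟨(M, N, true, false), ?_⟩
      change b M N * eY * 1 = A
      rw [h1]; exact mul_one _
  · have h0 : A * eS * eZ = eZ * (A * eS) := mul_comm_aux'' m1_comm m1_sq h eS_comm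
    have h2 : ∀ B : SL4, A * eS = B → B * eS = A := by
      intro B hB
      rw [← hB]
      exact (mul_assoc A eS eS).trans ((congrArg (A * ·) eS_sq).trans (mul_one A))
    obtain ⟨M, N, h1 | h1⟩ := exists_b_of_comm h0
    · refine ⟨(M, N, false, true), ?_⟩
      change b M N * 1 * eS = A
      exact (congrArg (· * eS) (mul_one (b M N))).trans (h2 _ h1)
    · exact ⟨(M, N, true, true), h2 _ h1⟩

theorem not_both {A : SL4} (h1 : A * eZ = eZ * A) (h2 : A * eZ = m1 * (eZ * A)) : False := by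
  have aux : ∀ {G : Type} [Group G] {g m : G}, g = m * g → m = 1 := by
    intro G _ g m h
    exact mul_right_cancel (b := g) (by rw [one_mul]; exact h.symm)
  exact m1_ne (aux (h1.symm.trans h2))

/-- `Y2 ^ c` -/
def yc (c : Bool) : M2 := if c then Y2 else 1

theorem yc_det : ∀ c, (yc c).det = if c then 2 else 1 := by decide +kernel

theorem yc_mul : ∀ c, yc c * yc c = 1 := by decide +kernel

theorem by_val (M N : SL2) (c : Bool) : (b M N * (if c then eY else 1)).1 = bd (M.1 * yc c) (N.1 * yc c) := by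
  cases c
  · change bd M.1 N.1 * 1 = bd (M.1 * 1) (N.1 * 1)
    rw [mul_one, mul_one, mul_one]
  · change bd M.1 N.1 * eY.1 = bd (M.1 * Y2) (N.1 * Y2)
    rw [eY_val, bd_mul]

theorem by_inj {M N M' N' : SL2} {c c' : Bool}
    (h : b M N * (if c then eY else 1) = b M' N' * (if c' then eY else 1)) : M = M' ∧ N = N' ∧ c = c' := by
  have h1 := congrArg Subtype.val h
  have h2 := (by_val M N c).symm.trans (h1.trans (by_val M' N' c'))
  obtain ⟨h3, h4⟩ := bd_inj h2
  have h5 : c = c' := by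
    have e := congrArg Matrix.det h3
    rw [Matrix.det_mul, Matrix.det_mul, M.2, M'.2, yc_det, yc_det, one_mul, one_mul] at e
    have hd : ∀ c c' : Bool, (if c then (2 : F3) else 1) = (if c' then 2 else 1) → c = c' := by decide
    exact hd _ _ e
  subst h5
  have cancel : ∀ {A B : M2}, A * yc c = B * yc c → A = B := by
    intro A B h
    calc A = A * yc c * yc c := by rw [mul_assoc, yc_mul, mul_one]
      _ = B := by rw [h, mul_assoc, yc_mul, mul_one]
  exact ⟨Subtype.ext (cancel h3), Subtype.ext (cancel h4), rfl⟩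

theorem phi_inj : Function.Injective phi := by
  rintro ⟨M, N, c, e⟩ ⟨M', N', c', e'⟩ h
  have c0 : ∀ (M N : SL2) (c : Bool), phi (M, N, c, false) * eZ = eZ * phi (M, N, c, false) := by
    intro M N c
    change b M N * (if c then eY else 1) * 1 * eZ = eZ * (b M N * (if c then eY else 1) * 1)
    exact mul_comm_aux (by_comm M N c) ((one_mul eZ).trans (mul_one eZ).symm)
  have c1 : ∀ (M N : SL2) (c : Bool), phi (M, N, c, true) * eZ = m1 * (eZ * phi (M, N, c, true)) := by
    intro M N c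
    change b M N * (if c then eY else 1) * eS * eZ = m1 * (eZ * (b M N * (if c then eY else 1) * eS))
    exact mul_comm_aux' m1_comm (by_comm M N c) eS_comm
  have key : e = e' ∧ b M N * (if c then eY else 1) = b M' N' * (if c' then eY else 1) := by
    cases e <;> cases e'
    · refine ⟨rfl, ?_⟩
      exact (mul_one _).symm.trans (h.trans (mul_one _))
    · exact (not_both (c0 M N c) (by rw [h]; exact c1 M' N' c')).elim
    · exact (not_both (by rw [h]; exact c0 M' N' c') (c1 M N c)).elim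
    · refine ⟨rfl, ?_⟩
      exact mul_right_cancel (b := eS) h
  obtain ⟨h1, h2⟩ := key
  obtain ⟨rfl, rfl, rfl⟩ := by_inj h2
  rw [h1]

/-! ### the order of `C(z)` -/

theorem comm_pr {A : SL4} : pr A * z = z * pr A ↔ (A * eZ = eZ * A ∨ A * eZ = m1 * (eZ * A)) := by
  rw [z, ← map_mul, ← map_mul, pr_eq_iff]

/-- the preimage of `C(z)` -/
def H : Subgroup SL4 := (Subgroup.centralizer {z}).comap pr

theorem mem_H {A : SL4} : A ∈ H ↔ (A * eZ = eZ * A ∨ A * eZ = m1 * (eZ * A)) :=
  Subgroup.mem_centralizer_singleton_iff.trans comm_pr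

theorem card_SL2F : Nat.card SL2 = 24 := by
  have h := Cfsg.Agent.ClassicalGeometry.PSL2Basic.card_SL2 (F := F3)
  rw [ZMod.card] at h
  exact h

theorem card_H : Nat.card H = 2304 := by
  let e : SL2 × SL2 × Bool × Bool ≃ H := Equiv.ofBijective (fun x => ⟨phi x, mem_H.2 (phi_comm x)⟩) (by
    constructor
    · intro x x' h
      exact phi_inj (congrArg Subtype.val h)
    · rintro ⟨A, hA⟩
      obtain ⟨x, hx⟩ := exists_phi (mem_H.1 hA)
      exact ⟨x, Subtype.ext hx⟩)
  rw [← Nat.card_congr e, Nat.card_prod, Nat.card_prod, Nat.card_prod, card_SL2F, Nat.card_eq_fintype_card]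
  rfl

theorem card_center : Nat.card (Subgroup.center SL4) = 2 := by
  have h : (Subgroup.center SL4 : Set SL4) = {1, m1} := by
    ext A
    simp only [SetLike.mem_coe, Set.mem_insert_iff, Set.mem_singleton_iff]
    exact mem_center
  have h2 : Nat.card (Subgroup.center SL4) = ({1, m1} : Set SL4).ncard := by
    rw [← h]; rfl
  rw [h2, Set.ncard_pair m1_ne.symm]

theorem card_SL4 : Nat.card SL4 = 12130560 := by
  have h := (Subgroup.center SL4).card_eq_card_quotient_mul_card_subgroup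
  rw [card_center] at h
  have h2 : Nat.card (SL4 ⧸ Subgroup.center SL4) = 6065280 := LargeExtra.W2.LFour.PslFacts.card_psl
  rw [h2] at h
  omega

theorem card_L : Nat.card L = 6065280 := LargeExtra.W2.LFour.PslFacts.card_psl

theorem card_cent : Nat.card (Subgroup.centralizer ({z} : Set L)) = 1152 := by
  have h1 : H.index = (Subgroup.centralizer ({z} : Set L)).index := Subgroup.index_comap_of_surjective _ pr_surj
  have h2 := H.card_mul_index
  rw [card_H, card_SL4] at h2
  have h3 : H.index = 5265 := Nat.eq_of_mul_eq_mul_left (show 0 < 2304 by norm_num) h2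
  have h4 := (Subgroup.centralizer ({z} : Set L)).card_mul_index
  rw [← h1, h3, card_L] at h4
  exact Nat.eq_of_mul_eq_mul_right (show 0 < 5265 by norm_num) h4

/-! ### generators of `C(z)` -/

def I2 : SL2 := ⟨!![0, 1; 2, 0], by decide +kernel⟩
def J2 : SL2 := ⟨!![1, 1; 1, 2], by decide +kernel⟩
def X2 : SL2 := ⟨!![0, 1; 2, 2], by decide +kernel⟩

theorem word_aux : ∀ a b c d : F3, a * d - b * c = 1 → ∃ r < 4, ∃ t < 2, ∃ u < 3,
    (!![a, b; c, d] : M2) = I2.1 ^ r * J2.1 ^ t * X2.1 ^ u := by (refine of_decide_eq_true ?_; (try (rewrite [Cfsg.Agent.LsF.mpowF_pat, Cfsg.Agent.LsF.mmulF_pat, Cfsg.Agent.LsF.mof_pat, Cfsg.Agent.LsF.zadd_pat, Cfsg.Agent.LsF.zmul_pat, Cfsg.Agent.LsF.zsub_pat, Cfsg.Agent.LsF.vecCons_eq, Cfsg.Agent.LsF.zdecEq_eq, Cfsg.Agent.LsF.zFintype_eq, Cfsg.Agent.LsF.dForall_eq, Cfsg.Agent.LsF.dMat_eq, Cfsg.Agent.LsF.zACM_pat, Cfsg.Agent.LsF.dExistsLT_eq, Cfsg.Agent.LsF.dAllP_eq, Cfsg.Agent.LsF.decide_eq])); decide +kernel)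

theorem exists_word (M : SL2) : ∃ r t u : ℕ, M = I2 ^ r * J2 ^ t * X2 ^ u := by
  have h1 : M.1 = !![M.1 0 0, M.1 0 1; M.1 1 0, M.1 1 1] := Matrix.eta_fin_two _
  have h2 : M.1 0 0 * M.1 1 1 - M.1 0 1 * M.1 1 0 = 1 := by
    rw [← Matrix.det_fin_two]; exact M.2
  obtain ⟨r, -, t, -, u, -, h⟩ := word_aux _ _ _ _ h2
  exact ⟨r, t, u, Subtype.ext (h1.trans h)⟩

theorem mem_of_word {K : Subgroup L} (f : SL2 →* SL4) (h1 : pr (f I2) ∈ K) (h2 : pr (f J2) ∈ K)
    (h3 : pr (f X2) ∈ K) (M : SL2) : pr (f M) ∈ K := by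
  obtain ⟨r, t, u, rfl⟩ := exists_word M
  simp only [map_mul, map_pow]
  exact mul_mem (mul_mem (pow_mem h1 _) (pow_mem h2 _)) (pow_mem h3 _)

theorem b₁_I : b₁ I2 = eI := by decide +kernel
theorem b₁_J : b₁ J2 = eJ := by decide +kernel
theorem b₁_X : b₁ X2 = eX₁ := by decide +kernel
theorem b₂_I : b₂ I2 = eK := by decide +kernel
theorem b₂_J : b₂ J2 = eL := by decide +kernel
theorem b₂_X : b₂ X2 = eX₂ := by decide +kernel

theorem cent_eq : Subgroup.centralizer ({z} : Set L) = Subgroup.closure {i, j, k, l, x₁, x₂, y, s} := by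
  apply le_antisymm
  · intro g hg
    obtain ⟨A, rfl⟩ := pr_surj g
    rw [Subgroup.mem_centralizer_singleton_iff, comm_pr] at hg
    obtain ⟨⟨M, N, c, e⟩, rfl⟩ := exists_phi hg
    change pr (b M N * (if c then eY else 1) * (if e then eS else 1)) ∈ _
    rw [map_mul, map_mul, b_eq, map_mul]
    set K := Subgroup.closure ({i, j, k, l, x₁, x₂, y, s} : Set L) with hK
    have hm : ∀ g ∈ ({i, j, k, l, x₁, x₂, y, s} : Set L), g ∈ K := fun g hg => Subgroup.subset_closure hg
    refine mul_mem (mul_mem (mul_mem ?_ ?_) ?_) ?_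
    · apply mem_of_word b₁
      · rw [b₁_I]; exact hm i (by simp)
      · rw [b₁_J]; exact hm j (by simp)
      · rw [b₁_X]; exact hm x₁ (by simp)
    · apply mem_of_word b₂
      · rw [b₂_I]; exact hm k (by simp)
      · rw [b₂_J]; exact hm l (by simp)
      · rw [b₂_X]; exact hm x₂ (by simp)
    · cases c
      · exact (map_one pr).symm ▸ K.one_mem
      · exact hm y (by simp)
    · cases e
      · exact (map_one pr).symm ▸ K.one_mem
      · exact hm s (by simp)
  · rw [Subgroup.closure_le]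
    intro g hg
    exact Subgroup.mem_centralizer_singleton_iff.2 (z_comm hg)

end Cfsg.Agent.KFacts.LFourThree

end

-- merged: Cfsg.Agent.KFacts.LFourThree.Case
section

/-!
# `PSL(4, 3)`: `Case9aa Q z i j k l x₁ x₂ y s` (helper948)
-/

set_option autoImplicit false

namespace Cfsg.Agent.KFacts.LFourThree

open Matrix
open Cfsg.Agent.LargeExtra.Model Cfsg.Agent.LargeExtra.Pres Cfsg.Agent.LargeExtra.Models
open Cfsg.Agent.LargeExtra.W2 Cfsg.Agent.SmallExtra438.ModelA Cfsg.Agent.Co2Type.Quad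
open Cfsg.Agent.SmallExtra438.Model (rP4 nd_P4 tri_P4)

theorem m1_val (A : SL4) : (m1 * A).1 = (2 : F3) • A.1 := by
  have h : (m1 : SL4).1 = (2 : F3) • (1 : M4) := by decide +kernel
  change m1.1 * A.1 = _
  rw [h, Matrix.smul_mul, one_mul]

theorem eI_val : eI.1 = bd I2.1 1 := by decide +kernel
theorem eJ_val : eJ.1 = bd J2.1 1 := by decide +kernel
theorem eK_val : eK.1 = bd 1 I2.1 := by decide +kernel
theorem eL_val : eL.1 = bd 1 J2.1 := by decide +kernel

theorem smul_bd (c : F3) (P R : M2) : c • bd P R = bd (c • P) (c • R) := by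
  ext a b
  (revert a b; simp only [bd, _root_.Fin.forall_fin_succ, Fin.isValue, _root_.Matrix.smul_apply, _root_.Matrix.of_apply, _root_.Matrix.cons_val', _root_.Matrix.cons_val_fin_one, _root_.smul_eq_mul, _root_.Matrix.cons_val_zero, _root_.Matrix.cons_val_succ, _root_.forall_const, _root_.MulZeroClass.mul_zero, _root_.and_self, _root_.and_self_left, _root_.implies_true])

theorem eq_zero_of_two (R : M2) (h : R = (2 : F3) • R) : R = 0 := by
  have h1 : ∀ x : F3, x = 2 * x → x = 0 := by decide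
  ext a b
  have := congrFun (congrFun h a) b
  exact h1 _ this

theorem scal_aux : ∀ a b c d : F3, (!![a, b; c, d] : M2) * I2.1 = I2.1 * !![a, b; c, d] →
    (!![a, b; c, d] : M2) * J2.1 = J2.1 * !![a, b; c, d] → (!![a, b; c, d] : M2) = 0 ∨
      (!![a, b; c, d] : M2) = 1 ∨ (!![a, b; c, d] : M2) = (2 : F3) • 1 := by decide +kernel

theorem scal {P : M2} (h1 : P * I2.1 = I2.1 * P) (h2 : P * J2.1 = J2.1 * P) (h : P ≠ 0) :
    P = 1 ∨ P = (2 : F3) • 1 := by
  rw [Matrix.eta_fin_two P] at h1 h2 h ⊢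
  exact (scal_aux _ _ _ _ h1 h2).resolve_left h

theorem fix_aux : ∀ a b c d : F3, ((!![a, b; c, d] : M2) = I2.1 * !![a, b; c, d] ∨
    (!![a, b; c, d] : M2) = (2 : F3) • (I2.1 * !![a, b; c, d])) → (!![a, b; c, d] : M2) = 0 := by
  (refine of_decide_eq_true ?_; (try (rewrite [Cfsg.Agent.LsF.mmulF_pat, Cfsg.Agent.LsF.msmul_pat, Cfsg.Agent.LsF.mof_pat, Cfsg.Agent.LsF.zadd_pat, Cfsg.Agent.LsF.zmul_pat, Cfsg.Agent.LsF.vecCons_eq, Cfsg.Agent.LsF.zdecEq_eq, Cfsg.Agent.LsF.zFintype_eq, Cfsg.Agent.LsF.dForall_eq, Cfsg.Agent.LsF.dMat_eq, Cfsg.Agent.LsF.zACM_pat, Cfsg.Agent.LsF.dOr_eq, Cfsg.Agent.LsF.dAllP_eq, Cfsg.Agent.LsF.decide_eq])); decide +kernel)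

theorem fixI {P : M2} (h : P = I2.1 * P ∨ P = (2 : F3) • (I2.1 * P)) : P = 0 := by
  rw [Matrix.eta_fin_two P] at h ⊢
  exact fix_aux _ _ _ _ h

theorem comm_val {A E : SL4} (h : pr A * pr E = pr E * pr A) :
    A.1 * E.1 = E.1 * A.1 ∨ A.1 * E.1 = (2 : F3) • (E.1 * A.1) := by
  rw [← map_mul, ← map_mul, pr_eq_iff] at h
  rcases h with h | h
  · exact Or.inl (congrArg Subtype.val h)
  · right
    have := congrArg Subtype.val h
    rw [m1_val] at this
    exact this

theorem bd_comm_cases {P R A : M2} (hR : R ≠ 0)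
    (h : bd P R * bd A 1 = bd A 1 * bd P R ∨ bd P R * bd A 1 = (2 : F3) • (bd A 1 * bd P R)) :
    P * A = A * P := by
  rcases h with h | h
  · rw [bd_mul, bd_mul] at h
    exact (bd_inj h).1
  · rw [bd_mul, bd_mul, smul_bd] at h
    have := (bd_inj h).2
    rw [mul_one, one_mul] at this
    exact absurd (eq_zero_of_two _ this) hR

theorem bd_comm_cases' {P R A : M2} (hP : P ≠ 0)
    (h : bd P R * bd 1 A = bd 1 A * bd P R ∨ bd P R * bd 1 A = (2 : F3) • (bd 1 A * bd P R)) :
    R * A = A * R := by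
  rcases h with h | h
  · rw [bd_mul, bd_mul] at h
    exact (bd_inj h).2
  · rw [bd_mul, bd_mul, smul_bd] at h
    have := (bd_inj h).1
    rw [mul_one, one_mul] at this
    exact absurd (eq_zero_of_two _ this) hP

theorem ne_zero_of {M : SL2} (c : Bool) : M.1 * yc c ≠ 0 := by
  intro h
  have h1 : M.1 = 0 := by
    calc M.1 = M.1 * yc c * yc c := by rw [mul_assoc, yc_mul, mul_one]
      _ = 0 := by rw [h, zero_mul]
  have h2 := M.2
  rw [h1] at h2
  revert h2
  decide +kernel

theorem self_aux {g : L} (hz : g * z = z * g) (hi : g * i = i * g) (hj : g * j = j * g)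
    (hk : g * k = k * g) (hl : g * l = l * g) : g = 1 ∨ g = z := by
  obtain ⟨A, rfl⟩ := pr_surj g
  rw [comm_pr] at hz
  obtain ⟨⟨M, N, c, e⟩, rfl⟩ := exists_phi hz
  have h1 := comm_val hi
  have h2 := comm_val hj
  have h3 := comm_val hk
  have h4 := comm_val hl
  rw [eI_val] at h1
  rw [eJ_val] at h2
  rw [eK_val] at h3
  rw [eL_val] at h4
  have hP : M.1 * yc c ≠ 0 := ne_zero_of c
  have hR : N.1 * yc c ≠ 0 := ne_zero_of c
  cases e
  · have hv : (phi (M, N, c, false)).1 = bd (M.1 * yc c) (N.1 * yc c) := by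
      rw [← by_val]
      change ((b M N * (if c then eY else 1)).1 * 1) = _
      rw [mul_one]
    rw [hv] at h1 h2 h3 h4
    have a1 := bd_comm_cases hR h1
    have a2 := bd_comm_cases hR h2
    have a3 := bd_comm_cases' hP h3
    have a4 := bd_comm_cases' hP h4
    have b1 := scal a1 a2 hP
    have b2 := scal a3 a4 hR
    rw [z, ← map_one pr, pr_eq_iff, pr_eq_iff]
    rcases b1 with b1 | b1 <;> rcases b2 with b2 | b2 <;> rw [b1, b2] at hv
    · left; left; apply Subtype.ext; rw [hv]; decide +kernel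
    · right; right; apply Subtype.ext; rw [hv]; decide +kernel
    · right; left; apply Subtype.ext; rw [hv]; decide +kernel
    · left; right; apply Subtype.ext; rw [hv]; decide +kernel
  · exfalso
    have hv : (phi (M, N, c, true)).1 = bd (M.1 * yc c) (N.1 * yc c) * eS.1 := by
      rw [← by_val]; rfl
    have hs : eS.1 * bd I2.1 1 = bd 1 I2.1 * eS.1 := by decide +kernel
    have hss : eS.1 * eS.1 = 1 := congrArg Subtype.val eS_sq
    have cancel : ∀ {A B : M4}, A * eS.1 = B * eS.1 → A = B := by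
      intro A B h
      calc A = A * eS.1 * eS.1 := by rw [mul_assoc, hss, mul_one]
        _ = B := by rw [h, mul_assoc, hss, mul_one]
    rw [hv, mul_assoc, hs, ← mul_assoc, ← mul_assoc] at h1
    apply hP
    apply fixI
    rcases h1 with h1 | h1
    · left
      have := cancel h1
      rw [bd_mul, bd_mul, mul_one] at this
      exact (bd_inj this).1
    · right
      rw [← Matrix.smul_mul] at h1
      have := cancel h1
      rw [bd_mul, bd_mul, mul_one, smul_bd] at this
      exact (bd_inj this).1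

/-! ### `Large Q z` -/

theorem mem_Q {g : L} : g ∈ Q ↔ ∃ w, f w = g := by rw [← f_range]; rfl

theorem gen_mem {g : L} (h : g ∈ ({i, j, k, l} : Set L)) : g ∈ Q := Subgroup.subset_closure h

theorem z_mem : z ∈ Q := mem_Q.2 ⟨_, f_zz⟩

theorem xg_comm : ∀ w v : XG rP4 4, w * v = v * w ∨ w * v = v * w * LargeExtra.Model.zz := by
  intro w v
  have h : (v * w)⁻¹ * (w * v) = 1 ∨ (v * w)⁻¹ * (w * v) = LargeExtra.Model.zz := by
    apply LargeExtra.Model.eq_one_or_zz
    simp only [LargeExtra.Model.mul_v, LargeExtra.Model.inv_v, Nat.xor_comm w.v.1 v.v.1, Nat.xor_self]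
  rcases h with h | h
  · left; exact (inv_mul_eq_one.1 h).symm
  · right; rw [← h]; group

theorem xg_cent : ∀ x < 32, (∀ n : Fin 4, SmallExtra438.Model.toX x * q rP4 4 n = q rP4 4 n * SmallExtra438.Model.toX x) →
    SmallExtra438.Model.toX x = 1 ∨ SmallExtra438.Model.toX x = LargeExtra.Model.zz := by decide +kernel

theorem norm_aux {g : L} (h : g ∈ ({i, j, k, l, x₁, x₂, y, s} : Set L)) {g' : L} (h' : g' ∈ ({i, j, k, l} : Set L)) :
    g * g' * g⁻¹ ∈ Q := by
  have hi : i ∈ Q := gen_mem (by simp)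
  have hj : j ∈ Q := gen_mem (by simp)
  have hk : k ∈ Q := gen_mem (by simp)
  have hl : l ∈ Q := gen_mem (by simp)
  have hz := z_mem
  simp only [Set.mem_insert_iff, Set.mem_singleton_iff] at h
  rcases h with rfl | rfl | rfl | rfl | rfl | rfl | rfl | rfl
  · exact mul_mem (mul_mem hi (gen_mem h')) (inv_mem hi)
  · exact mul_mem (mul_mem hj (gen_mem h')) (inv_mem hj)
  · exact mul_mem (mul_mem hk (gen_mem h')) (inv_mem hk)
  · exact mul_mem (mul_mem hl (gen_mem h')) (inv_mem hl)
  all_goals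
    simp only [Set.mem_insert_iff, Set.mem_singleton_iff] at h'
    rcases h' with rfl | rfl | rfl | rfl
  · rw [x₁_act.i]; exact hj
  · rw [x₁_act.j]; exact mul_mem hi hj
  · rw [x₁_act.k]; exact hk
  · rw [x₁_act.l]; exact hl
  · rw [x₂_act.i]; exact hi
  · rw [x₂_act.j]; exact hj
  · rw [x₂_act.k]; exact hl
  · rw [x₂_act.l]; exact mul_mem hk hl
  · rw [y_act.i]; exact mul_mem hj hz
  · rw [y_act.j]; exact mul_mem hi hz
  · rw [y_act.k]; exact mul_mem hl hz
  · rw [y_act.l]; exact mul_mem hk hz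
  · rw [s_act.i]; exact hk
  · rw [s_act.j]; exact hl
  · rw [s_act.k]; exact hi
  · rw [s_act.l]; exact hj

theorem conj_mem_aux {G : Type*} [Group G] [Finite G] {S T : Set G} {K : Subgroup G} (hK : K = Subgroup.closure T)
    (h : ∀ g ∈ S, ∀ g' ∈ T, g * g' * g⁻¹ ∈ K) {g : G} (hg : g ∈ Subgroup.closure S) {x : G} (hx : x ∈ K) :
    g * x * g⁻¹ ∈ K := by
  have h1 : ∀ g ∈ S, ∀ x ∈ K, g * x * g⁻¹ ∈ K := by
    intro g hg x hx
    have h2 : K ≤ K.comap (MulAut.conj g).toMonoidHom := by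
      conv_lhs => rw [hK]
      rw [Subgroup.closure_le]
      intro t ht
      exact h g hg t ht
    exact h2 hx
  have h3 : ∀ g ∈ Submonoid.closure S, ∀ x ∈ K, g * x * g⁻¹ ∈ K := by
    intro g hg
    induction hg using Submonoid.closure_induction with
    | mem g hg => exact h1 g hg
    | one => intro x hx; simpa using hx
    | mul a b _ _ ha hb =>
      intro x hx
      have := ha _ (hb x hx)
      have e : a * b * x * (a * b)⁻¹ = a * (b * x * b⁻¹) * a⁻¹ := by group
      rw [e]; exact this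
  refine h3 g ?_ x hx
  have h4 : (Subgroup.closure S).toSubmonoid = Submonoid.closure S := by
    rw [Subgroup.closure_toSubmonoid_of_finite]
  rw [← h4]
  exact hg

theorem large : Large Q z where
  z_mem := z_mem
  z_ne := z_ne
  z_sq := zz
  comm_z := by
    intro x hx
    obtain ⟨w, rfl⟩ := mem_Q.1 hx
    rw [← f_zz, ← map_mul, ← map_mul, LargeExtra.Model.zz_comm]
  conj_mem := by
    intro g hg x hx
    refine conj_mem_aux (S := {i, j, k, l, x₁, x₂, y, s}) (T := {i, j, k, l}) rfl (fun g hg g' hg' => norm_aux hg hg')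
      ?_ hx
    rw [← cent_eq]; exact Subgroup.mem_centralizer_singleton_iff.2 hg
  sq := by
    intro x hx
    obtain ⟨w, rfl⟩ := mem_Q.1 hx
    rcases LargeExtra.Model.mul_self_mem w with h | h
    · left; rw [← map_mul, h, map_one]
    · right; rw [← map_mul, h, f_zz]
  comm := by
    intro x hx y hy
    obtain ⟨w, rfl⟩ := mem_Q.1 hx
    obtain ⟨v, rfl⟩ := mem_Q.1 hy
    rcases xg_comm w v with h | h
    · left; rw [← map_mul, h, map_mul]
    · right; rw [← map_mul, h, map_mul, map_mul, f_zz]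
  cent := by
    intro x hx hc
    obtain ⟨w, rfl⟩ := mem_Q.1 hx
    obtain ⟨n, hn, rfl⟩ := SmallExtra438.Model.toX_surj w
    rcases xg_cent n hn (fun m => f_inj (by
      rw [map_mul, map_mul]; exact hc _ (mem_Q.2 ⟨_, rfl⟩))) with h | h
    · left; rw [h, map_one]
    · right; rw [h, f_zz]
  self := by
    intro g hg hc
    rcases self_aux hg (hc i (gen_mem (by simp))) (hc j (gen_mem (by simp))) (hc k (gen_mem (by simp)))
      (hc l (gen_mem (by simp))) with rfl | rfl
    · exact one_mem _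
    · exact z_mem

theorem case9aa : Case9aa Q z i j k l x₁ x₂ y s where
  large := large
  card := card_Q
  gen := rfl
  ii := ii
  jj := jj
  kk := kk
  ll := ll
  ji := ji
  lk := lk
  ki := ki
  li := li
  kj := kj
  lj := lj
  x₁3 := x₁3
  x₂3 := x₂3
  x₁_act := x₁_act
  x₂_act := x₂_act
  y_act := y_act
  s_act := s_act
  xx := xx
  y1 := y1
  y2 := y2
  s1 := s1
  s2 := s2
  yy := Or.inl yy
  ss := Or.inl ss
  ys := Or.inl (conj_eq sy)
  cent := cent_eq
  card_cent := card_cent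

end Cfsg.Agent.KFacts.LFourThree

end

private theorem dce_996e0ac53c6d : _root_.True := by
  try have : _root_.True := by simp only [_root_.Cfsg.Agent.KFacts.LFourThree.j.eq_1]
  try have : _root_.True := by simp only [_root_.Cfsg.Agent.KFacts.LFourThree.y.eq_1]
  try have : _root_.True := by simp only [_root_.Cfsg.Agent.KFacts.LFourThree.x₂.eq_1]
  try have : _root_.True := by simp only [_root_.Cfsg.Agent.KFacts.LFourThree.z.eq_1]
  try have : _root_.True := by simp only [_root_.Cfsg.Agent.KFacts.LFourThree.s.eq_1]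
  try have : _root_.True := by simp only [_root_.Cfsg.Agent.KFacts.LFourThree.l.eq_1]
  try have : _root_.True := by simp only [_root_.Cfsg.Agent.KFacts.LFourThree.x₁.eq_1]
  try have : _root_.True := by simp only [_root_.Cfsg.Agent.KFacts.LFourThree.bd.eq_1]
  try have : _root_.True := by simp only [_root_.Cfsg.Agent.KFacts.LFourThree.i.eq_1]
  try have : _root_.True := by simp only [_root_.Cfsg.Agent.KFacts.LFourThree.Q.eq_1]
  try have : _root_.True := by simp only [_root_.Cfsg.Agent.KFacts.LFourThree.k.eq_1]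
  exact _root_.True.intro
end

-- part: OddHalf/D5/SixAut/SymGrp
section
set_option linter.all false
open scoped Cfsg.Agent.FastGrp

/-!
# ODD D5, `n = 6`, `C_G(x)/⟨x⟩ = Aut(A_6)`: the case "symplectic type", part 1 (orders)

`SymT x z`: what is used of `T = C(x) ∩ C(z)`, of order `64`. `SymF z F`: `F` is an extraspecial normal subgroup of
`C(z)` with `C(F) ≤ F`. Result `card_F`: `|F| ∈ {2⁵, 2⁷}`.
-/

set_option autoImplicit false

namespace Cfsg.Agent.OddHalf.D5.SixAut

open Subgroup Cfsg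

variable {G : Type*} [Group G]

/-- `T = C(x) ∩ C(z)` -/
abbrev STT (x z : G) : Subgroup G := centralizer ({x} : Set G) ⊓ centralizer ({z} : Set G)

theorem mem_STT {x z g : G} : g ∈ STT x z ↔ g * x = x * g ∧ g * z = z * g := by
  rw [mem_inf, mem_centralizer_singleton_iff, mem_centralizer_singleton_iff]

/-- what the case "symplectic type" uses of `T = C(x) ∩ C(z)` -/
structure SymT (x z : G) : Prop where
  xx : x * x = 1
  x1 : x ≠ 1
  zz : z * z = 1
  z1 : z ≠ 1
  xz : x * z = z * x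
  nxz : x ≠ z
  card : Nat.card ↥(centralizer ({x} : Set G) ⊓ centralizer ({z} : Set G)) = 64
  wit : ∃ v f r : G, v ∈ STT x z ∧ f ∈ STT x z ∧ r ∈ STT x z ∧
    (r * v * r⁻¹ * v⁻¹) * (r * v * r⁻¹ * v⁻¹) ≠ 1 ∧
    v * (r * v * r⁻¹ * v⁻¹) ≠ (r * v * r⁻¹ * v⁻¹) * v ∧
    (f * v) * (r * v * r⁻¹ * v⁻¹) ≠ (r * v * r⁻¹ * v⁻¹) * (f * v) ∧
    r * f ≠ f * r ∧ (r * v) * f ≠ f * (r * v)

/-- an extraspecial normal subgroup of `C(z)` containing its centralizer -/
structure SymF (z : G) (F : Subgroup G) : Prop where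
  zF : z ∈ F
  leC : ∀ a ∈ F, a * z = z * a
  comm : ∀ a ∈ F, ∀ b ∈ F, a * b = b * a ∨ a * b = z * (b * a)
  sq : ∀ a ∈ F, a * a = 1 ∨ a * a = z
  cen : ∀ a ∈ F, (∀ b ∈ F, a * b = b * a) → a = 1 ∨ a = z
  norm : ∀ g : G, g * z = z * g → ∀ a ∈ F, g * a * g⁻¹ ∈ F
  self : ∀ g : G, (∀ a ∈ F, g * a = a * g) → g ∈ F

namespace SymF

variable {x z : G} {F : Subgroup G}

/-- `{p ∈ F | [x, p] ∈ ⟨z⟩}` -/
def PP (h : SymF z F) (zz : z * z = 1) (_xz : x * z = z * x) : Subgroup G where
  carrier := {p | p ∈ F ∧ (x * p * x⁻¹ = p ∨ x * p * x⁻¹ = z * p)}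
  one_mem' := ⟨F.one_mem, Or.inl (by group)⟩
  mul_mem' := by
    rintro p q ⟨hp, ep⟩ ⟨hq, eq⟩
    refine ⟨F.mul_mem hp hq, ?_⟩
    have e : x * (p * q) * x⁻¹ = (x * p * x⁻¹) * (x * q * x⁻¹) := by group
    rw [e]
    rcases ep with ep | ep <;> rcases eq with eq | eq <;> rw [ep, eq]
    · left; rfl
    · right; rw [← mul_assoc, h.leC p hp, mul_assoc]
    · right; rw [mul_assoc]
    · left
      calc z * p * (z * q) = z * (p * z) * q := by group
        _ = (z * z) * (p * q) := by rw [h.leC p hp]; group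
        _ = p * q := by rw [zz, one_mul]
  inv_mem' := by
    rintro p ⟨hp, ep⟩
    refine ⟨F.inv_mem hp, ?_⟩
    have e : x * p⁻¹ * x⁻¹ = (x * p * x⁻¹)⁻¹ := by group
    have hz : z⁻¹ = z := inv_eq_of_mul_eq_one_left zz
    rcases ep with ep | ep
    · left; rw [e, ep]
    · right
      rw [e, ep, mul_inv_rev, hz]
      have h1 := h.leC p⁻¹ (F.inv_mem hp)
      exact h1

theorem mem_PP (h : SymF z F) (zz : z * z = 1) (xz : x * z = z * x) {p : G} :
    p ∈ h.PP zz xz ↔ p ∈ F ∧ (x * p * x⁻¹ = p ∨ x * p * x⁻¹ = z * p) := Iff.rfl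

/-- `N = C_F(x)` -/
abbrev NN (F : Subgroup G) (x : G) : Subgroup G := F ⊓ centralizer ({x} : Set G)

theorem mem_NN {g : G} : g ∈ NN F x ↔ g ∈ F ∧ g * x = x * g := by
  rw [mem_inf, mem_centralizer_singleton_iff]

theorem NN_le_PP (h : SymF z F) (zz : z * z = 1) (xz : x * z = z * x) : NN F x ≤ h.PP zz xz := by
  intro g hg
  rw [mem_NN] at hg
  refine ⟨hg.1, Or.inl ?_⟩
  rw [← hg.2]; group

theorem card_PP_le [Finite G] (h : SymF z F) (zz : z * z = 1) (xz : x * z = z * x) :
    Nat.card ↥(h.PP zz xz) ≤ 2 * Nat.card ↥(NN F x) := by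
  classical
  by_cases hP : ∃ p0 ∈ h.PP zz xz, x * p0 * x⁻¹ = z * p0
  · obtain ⟨p0, hp0, e0⟩ := hP
    have key : ∀ p ∈ h.PP zz xz, ¬ p ∈ NN F x → p * p0⁻¹ ∈ NN F x := by
      intro p hp hn
      rw [mem_NN]
      refine ⟨F.mul_mem hp.1 (F.inv_mem hp0.1), ?_⟩
      have ep : x * p * x⁻¹ = z * p := by
        rcases hp.2 with e | e
        · exfalso
          apply hn
          rw [mem_NN]
          refine ⟨hp.1, ?_⟩
          exact (mul_inv_eq_iff_eq_mul.1 e).symm
        · exact e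
      have e1 : x * (p * p0⁻¹) * x⁻¹ = p * p0⁻¹ := by
        calc x * (p * p0⁻¹) * x⁻¹ = (x * p * x⁻¹) * (x * p0 * x⁻¹)⁻¹ := by group
          _ = z * (p * p0⁻¹) * z⁻¹ := by rw [ep, e0]; group
          _ = (p * p0⁻¹) * z * z⁻¹ := by rw [h.leC _ (F.mul_mem hp.1 (F.inv_mem hp0.1))]
          _ = _ := by group
      exact (mul_inv_eq_iff_eq_mul.1 e1).symm
    let φ : ↥(h.PP zz xz) → ↥(NN F x) × Bool := fun p =>
      if hp : (p : G) ∈ NN F x then (⟨p, hp⟩, false) else (⟨p * p0⁻¹, key p p.2 hp⟩, true)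
    have hφ : Function.Injective φ := by
      intro p q e
      simp only [φ] at e
      split_ifs at e with h1 h2 h2
      · have := congrArg (fun t : ↥(NN F x) × Bool => (t.1 : G)) e
        exact Subtype.ext this
      · exact absurd (congrArg Prod.snd e) Bool.false_ne_true
      · exact absurd (congrArg Prod.snd e).symm Bool.false_ne_true
      · have := congrArg (fun t : ↥(NN F x) × Bool => (t.1 : G)) e
        exact Subtype.ext (mul_right_cancel this)
    have := Nat.card_le_card_of_injective φ hφ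
    rw [Nat.card_prod, Nat.card_eq_fintype_card (α := Bool), Fintype.card_bool, mul_comm] at this
    exact this
  · push Not at hP
    have hle : h.PP zz xz ≤ NN F x := by
      intro p hp
      rw [mem_NN]
      refine ⟨hp.1, ?_⟩
      rcases hp.2 with e | e
      · exact (mul_inv_eq_iff_eq_mul.1 e).symm
      · exact absurd e (hP p hp)
    have := Nat.card_le_card_of_injective _ (Subgroup.inclusion_injective hle)
    omega

theorem comm_mem_PP (h : SymF z F) (zz : z * z = 1) (xx : x * x = 1) (xz : x * z = z * x) {f : G} (hf : f ∈ F) :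
    x * f * x⁻¹ * f⁻¹ ∈ h.PP zz xz := by
  have hxi : x⁻¹ = x := inv_eq_of_mul_eq_one_left xx
  have hmem : x * f * x⁻¹ * f⁻¹ ∈ F := F.mul_mem (h.norm x xz f hf) (F.inv_mem hf)
  refine ⟨hmem, ?_⟩
  set g := x * f * x⁻¹ * f⁻¹ with hg
  have e1 : x * g * x⁻¹ = g⁻¹ := by
    calc x * g * x⁻¹ = (x * x) * f * x⁻¹ * f⁻¹ * x⁻¹ := by rw [hg]; group
      _ = f * x⁻¹ * f⁻¹ * x⁻¹ := by rw [xx, one_mul]
      _ = f * x * f⁻¹ * x⁻¹ := by rw [hxi]
      _ = g⁻¹ := by rw [hg]; group
  rw [e1]
  have hz : z⁻¹ = z := inv_eq_of_mul_eq_one_left zz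
  rcases h.sq g hmem with e | e
  · left; exact inv_eq_of_mul_eq_one_left e
  · right
    have e2 : g⁻¹ * (g * g) = g⁻¹ * z := by rw [e]
    rw [inv_mul_cancel_left] at e2
    -- g = g⁻¹ z
    have e3 : g⁻¹ * z = z * g⁻¹ := h.leC _ (F.inv_mem hmem)
    calc g⁻¹ = (z * z) * g⁻¹ := by rw [zz, one_mul]
      _ = z * (z * g⁻¹) := by group
      _ = z * (g⁻¹ * z) := by rw [e3]
      _ = z * g := by rw [← e2]

/-- the map `f ↦ [x, f]` on `F/N` -/
noncomputable def psi (h : SymF z F) (zz : z * z = 1) (xx : x * x = 1) (xz : x * z = z * x) :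
    ↥F ⧸ (NN F x).subgroupOf F → ↥(h.PP zz xz) :=
  fun q => ⟨x * (q.out : ↥F) * x⁻¹ * ((q.out : ↥F) : G)⁻¹, h.comm_mem_PP zz xx xz (q.out : ↥F).2⟩

theorem psi_inj (h : SymF z F) (zz : z * z = 1) (xx : x * x = 1) (xz : x * z = z * x) :
    Function.Injective (h.psi zz xx xz) := by
  intro p q e
  have e1 : x * ((p.out : ↥F) : G) * x⁻¹ * ((p.out : ↥F) : G)⁻¹ = x * ((q.out : ↥F) : G) * x⁻¹ * ((q.out : ↥F) : G)⁻¹ :=
    congrArg Subtype.val e
  rw [← QuotientGroup.out_eq' p, ← QuotientGroup.out_eq' q, QuotientGroup.eq, mem_subgroupOf, mem_NN]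
  refine ⟨SetLike.coe_mem _, ?_⟩
  show (((p.out : ↥F) : G)⁻¹ * ((q.out : ↥F) : G)) * x = x * (((p.out : ↥F) : G)⁻¹ * ((q.out : ↥F) : G))
  generalize ((p.out : ↥F) : G) = a at e1
  generalize ((q.out : ↥F) : G) = b at e1
  have e2 : a * x⁻¹ * a⁻¹ = b * x⁻¹ * b⁻¹ := by
    calc a * x⁻¹ * a⁻¹ = x⁻¹ * (x * a * x⁻¹ * a⁻¹) := by group
      _ = x⁻¹ * (x * b * x⁻¹ * b⁻¹) := by rw [e1]
      _ = b * x⁻¹ * b⁻¹ := by group
  have e3 : a * x * a⁻¹ = b * x * b⁻¹ := by
    have := congrArg (·⁻¹) e2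
    simpa [mul_assoc] using this
  calc (a⁻¹ * b) * x = a⁻¹ * (b * x * b⁻¹) * b := by group
    _ = a⁻¹ * (a * x * a⁻¹) * b := by rw [e3]
    _ = x * (a⁻¹ * b) := by group

theorem card_F_eq [Finite G] (F : Subgroup G) (x : G) :
    Nat.card ↥F = Nat.card (↥F ⧸ (NN F x).subgroupOf F) * Nat.card ↥(NN F x) := by
  rw [Subgroup.card_eq_card_quotient_mul_card_subgroup ((NN F x).subgroupOf F)]
  congr 1
  exact Nat.card_congr (subgroupOfEquivOfLe inf_le_left).toEquiv

theorem card_le [Finite G] (h : SymF z F) (zz : z * z = 1) (xx : x * x = 1) (xz : x * z = z * x) :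
    Nat.card ↥F ≤ Nat.card ↥(h.PP zz xz) * Nat.card ↥(NN F x) := by
  rw [card_F_eq F x]
  exact Nat.mul_le_mul_right _ (Nat.card_le_card_of_injective _ (h.psi_inj zz xx xz))

/-- `|F| ≤ 2 |C_F(x)|²` -/
theorem card_le' [Finite G] (h : SymF z F) (zz : z * z = 1) (xx : x * x = 1) (xz : x * z = z * x) :
    Nat.card ↥F ≤ 2 * Nat.card ↥(NN F x) * Nat.card ↥(NN F x) :=
  (h.card_le zz xx xz).trans (Nat.mul_le_mul_right _ (h.card_PP_le zz xz))

/-- if `|F| = 2 |C_F(x)|²` then `C_F(x) ≤ [F, x]` -/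
theorem surj_of_eq [Finite G] (h : SymF z F) (zz : z * z = 1) (xx : x * x = 1) (xz : x * z = z * x)
    (he : Nat.card ↥F = 2 * Nat.card ↥(NN F x) * Nat.card ↥(NN F x)) {p : G} (hp : p ∈ NN F x) :
    ∃ f ∈ F, x * f * x⁻¹ * f⁻¹ = p := by
  have h0 : 0 < Nat.card ↥(NN F x) := Nat.card_pos
  have h1 : Nat.card (↥F ⧸ (NN F x).subgroupOf F) = 2 * Nat.card ↥(NN F x) := by
    rw [card_F_eq F x] at he
    exact Nat.eq_of_mul_eq_mul_right h0 he
  have h2 := Nat.card_le_card_of_injective _ (h.psi_inj zz xx xz)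
  have h3 := h.card_PP_le zz xz
  have h4 : Function.Bijective (h.psi zz xx xz) :=
    (Nat.bijective_iff_injective_and_card _).2 ⟨h.psi_inj zz xx xz, by omega⟩
  obtain ⟨q, hq⟩ := h4.2 ⟨p, h.NN_le_PP zz xz hp⟩
  refine ⟨((q.out : ↥F) : G), SetLike.coe_mem _, ?_⟩
  exact congrArg Subtype.val hq

/-- if `|F| = 2 |C_F(x)|²` then `C_F(x)` is abelian -/
theorem abelian_of_eq [Finite G] (h : SymF z F) (zz : z * z = 1) (xx : x * x = 1) (xz : x * z = z * x)
    (he : Nat.card ↥F = 2 * Nat.card ↥(NN F x) * Nat.card ↥(NN F x)) :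
    ∀ a ∈ NN F x, ∀ b ∈ NN F x, a * b = b * a := by
  intro m hm n hn
  obtain ⟨f, hf, e⟩ := h.surj_of_eq zz xx xz he hn
  rw [mem_NN] at hm
  have hmx : x⁻¹ * m = m * x⁻¹ := by
    calc x⁻¹ * m = x⁻¹ * (m * x) * x⁻¹ := by group
      _ = m * x⁻¹ := by rw [hm.2]; group
  -- `m f = f m z^i`
  rcases h.comm m hm.1 f hf with e1 | e1
  · have e2 : m * f⁻¹ = f⁻¹ * m := by
      calc m * f⁻¹ = f⁻¹ * (f * m) * f⁻¹ := by group
        _ = f⁻¹ * m := by rw [← e1]; group
    rw [← e]
    calc m * (x * f * x⁻¹ * f⁻¹) = (m * x) * f * x⁻¹ * f⁻¹ := by group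
      _ = x * (m * f) * x⁻¹ * f⁻¹ := by rw [hm.2]; group
      _ = x * f * (m * x⁻¹) * f⁻¹ := by rw [e1]; group
      _ = x * f * x⁻¹ * (m * f⁻¹) := by rw [← hmx]; group
      _ = x * f * x⁻¹ * f⁻¹ * m := by rw [e2]; group
  · have hzm := h.leC m hm.1
    have hzf := h.leC f hf
    have e2 : m * f⁻¹ = z * (f⁻¹ * m) := by
      have hzf' : f⁻¹ * z = z * f⁻¹ := h.leC _ (F.inv_mem hf)
      calc m * f⁻¹ = (f⁻¹ * z * z) * (f * m) * f⁻¹ := by
            rw [mul_assoc f⁻¹, zz, mul_one]; group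
        _ = f⁻¹ * z * (z * (f * m)) * f⁻¹ := by group
        _ = f⁻¹ * z * m := by rw [← e1]; group
        _ = z * (f⁻¹ * m) := by rw [hzf']; group
    rw [← e]
    calc m * (x * f * x⁻¹ * f⁻¹) = (m * x) * f * x⁻¹ * f⁻¹ := by group
      _ = x * (m * f) * x⁻¹ * f⁻¹ := by rw [hm.2]; group
      _ = (x * z) * f * (m * x⁻¹) * f⁻¹ := by rw [e1]; group
      _ = z * (x * f * x⁻¹ * (m * f⁻¹)) := by rw [← hmx, xz]; group
      _ = z * (x * f * x⁻¹ * (z * (f⁻¹ * m))) := by rw [e2]
      _ = z * (x * f * (x⁻¹ * z) * (f⁻¹ * m)) := by group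
      _ = (x * f * x⁻¹ * f⁻¹) * m := by
        have hxz' : x⁻¹ * z = z * x⁻¹ := by
          calc x⁻¹ * z = x⁻¹ * (z * x) * x⁻¹ := by group
            _ = z * x⁻¹ := by rw [← xz]; group
        calc z * (x * f * (x⁻¹ * z) * (f⁻¹ * m)) = z * (x * (f * z) * x⁻¹ * (f⁻¹ * m)) := by rw [hxz']; group
          _ = z * ((x * z) * f * x⁻¹ * (f⁻¹ * m)) := by rw [hzf]; group
          _ = (z * z) * (x * f * x⁻¹ * (f⁻¹ * m)) := by rw [xz]; group
          _ = _ := by rw [zz, one_mul]; group

/-- `{1, x} C_F(x)` -/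
def NX (F : Subgroup G) (x : G) (xx : x * x = 1) : Subgroup G where
  carrier := {g | g * x = x * g ∧ (g ∈ F ∨ x * g ∈ F)}
  one_mem' := ⟨by group, Or.inl F.one_mem⟩
  mul_mem' := by
    rintro g h ⟨hg, eg⟩ ⟨hh, eh⟩
    refine ⟨by rw [mul_assoc, hh, ← mul_assoc, hg, mul_assoc], ?_⟩
    rcases eg with eg | eg <;> rcases eh with eh | eh
    · left; exact F.mul_mem eg eh
    · right
      have : x * (g * h) = g * (x * h) := by rw [← mul_assoc, ← hg, mul_assoc]
      rw [this]; exact F.mul_mem eg eh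
    · right
      have : x * (g * h) = (x * g) * h := by group
      rw [this]; exact F.mul_mem eg eh
    · left
      have : g * h = (x * g) * (x * h) := by
        calc g * h = (x * x) * (g * h) := by rw [xx, one_mul]
          _ = x * (x * g) * h := by group
          _ = x * (g * x) * h := by rw [hg]
          _ = _ := by group
      rw [this]; exact F.mul_mem eg eh
  inv_mem' := by
    rintro g ⟨hg, eg⟩
    have hxi : x⁻¹ = x := inv_eq_of_mul_eq_one_left xx
    have hg' : g⁻¹ * x = x * g⁻¹ := by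
      calc g⁻¹ * x = g⁻¹ * (x * g) * g⁻¹ := by group
        _ = x * g⁻¹ := by rw [← hg]; group
    refine ⟨hg', ?_⟩
    rcases eg with eg | eg
    · left; exact F.inv_mem eg
    · right
      have : x * g⁻¹ = (x * g)⁻¹ := by rw [mul_inv_rev, hxi, hg']
      rw [this]; exact F.inv_mem eg

theorem NX_le (h : SymF z F) (xx : x * x = 1) (xz : x * z = z * x) : NX F x xx ≤ STT x z := by
  intro g hg
  rw [mem_STT]
  refine ⟨hg.1, ?_⟩
  rcases hg.2 with e | e
  · exact h.leC g e
  · have h1 := h.leC _ e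
    -- `x g z = z x g`
    have h2 : x * (g * z) = x * (z * g) := by
      calc x * (g * z) = (x * g) * z := by group
        _ = z * (x * g) := h1
        _ = (z * x) * g := by group
        _ = x * (z * g) := by rw [← xz]; group
    exact mul_left_cancel h2

theorem NN_le_NX (F : Subgroup G) (xx : x * x = 1) : NN F x ≤ NX F x xx := by
  intro g hg
  rw [mem_NN] at hg
  exact ⟨hg.2, Or.inl hg.1⟩

/-- `|{1,x} N| = 2 |N|` if `x ∉ F` -/
theorem card_NX [Finite G] (xx : x * x = 1) (hxF : x ∉ F) :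
    Nat.card ↥(NX F x xx) = 2 * Nat.card ↥(NN F x) := by
  classical
  have hx : x ∈ NX F x xx := ⟨rfl, Or.inr (by rw [xx]; exact F.one_mem)⟩
  have hidx : ((NN F x).subgroupOf (NX F x xx)).index = 2 := by
    rw [Subgroup.index_eq_two_iff]
    refine ⟨⟨x, hx⟩, ?_⟩
    intro b
    rw [mem_subgroupOf, mem_subgroupOf]
    have hbF : ((b * ⟨x, hx⟩ : ↥(NX F x xx)) : G) = x * (b : G) := by
      show (b : G) * x = x * b
      exact b.2.1
    rw [hbF]
    rcases b.2.2 with e | e
    · right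
      refine ⟨mem_NN.2 ⟨e, b.2.1⟩, ?_⟩
      intro hc
      apply hxF
      have := F.mul_mem (mem_NN.1 hc).1 (F.inv_mem e)
      rwa [mul_inv_cancel_right] at this
    · left
      refine ⟨mem_NN.2 ⟨e, ?_⟩, ?_⟩
      · rw [mul_assoc, b.2.1]
      · intro hc
        apply hxF
        have := F.mul_mem e (F.inv_mem (mem_NN.1 hc).1)
        rwa [mul_inv_cancel_right] at this
  have h1 := Subgroup.card_mul_index ((NN F x).subgroupOf (NX F x xx))
  rw [hidx, Nat.card_congr (subgroupOfEquivOfLe (NN_le_NX F xx)).toEquiv] at h1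
  omega

/-- commutators in `{1,x} N` have order at most two -/
theorem comm_NX (h : SymF z F) (_zz : z * z = 1) (xx : x * x = 1) {a b : G}
    (ha : a ∈ NX F x xx) (hb : b ∈ NX F x xx) : a * b * a⁻¹ * b⁻¹ = 1 ∨ a * b * a⁻¹ * b⁻¹ = z := by
  have hxi : x⁻¹ = x := inv_eq_of_mul_eq_one_left xx
  have key : ∀ {c d : G}, c ∈ F → d ∈ F → c * d * c⁻¹ * d⁻¹ = 1 ∨ c * d * c⁻¹ * d⁻¹ = z := by
    intro c d hc hd
    rcases h.comm c hc d hd with e | e
    · left; rw [e]; group
    · right; rw [e]; group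
  have red : ∀ {c d : G}, c * x = x * c → d * x = x * d → (x * c) * d * (x * c)⁻¹ * d⁻¹ = c * d * c⁻¹ * d⁻¹ := by
    intro c d hc hd
    have hx2 : x * (c * d * c⁻¹) * x⁻¹ = c * d * c⁻¹ := by
      have hxc : x * c = c * x := hc.symm
      have hc' : c⁻¹ * x⁻¹ = x⁻¹ * c⁻¹ := by
        rw [← mul_inv_rev, ← mul_inv_rev, hc]
      calc x * (c * d * c⁻¹) * x⁻¹ = (x * c) * d * (c⁻¹ * x⁻¹) := by group
        _ = c * (x * d) * x⁻¹ * c⁻¹ := by rw [hxc, hc']; group
        _ = c * d * c⁻¹ := by rw [← hd]; group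
    calc (x * c) * d * (x * c)⁻¹ * d⁻¹ = (x * (c * d * c⁻¹) * x⁻¹) * d⁻¹ := by group
      _ = c * d * c⁻¹ * d⁻¹ := by rw [hx2]
  have red2 : ∀ {c d : G}, c * x = x * c → d * x = x * d → c * (x * d) * c⁻¹ * (x * d)⁻¹ = c * d * c⁻¹ * d⁻¹ := by
    intro c d hc hd
    have h1 := red hd hc
    have h2 := congrArg (·⁻¹) h1
    simp only [mul_inv_rev, inv_inv] at h2
    calc c * (x * d) * c⁻¹ * (x * d)⁻¹ = c * (x * d * (c⁻¹ * (d⁻¹ * x⁻¹))) := by group
      _ = c * (d * (c⁻¹ * d⁻¹)) := by rw [h2]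
      _ = _ := by group
  rcases ha.2 with ea | ea <;> rcases hb.2 with eb | eb
  · exact key ea eb
  · have h1 := key ea eb
    rwa [red2 ha.1 hb.1] at h1
  · have h1 := key ea eb
    rwa [red ha.1 hb.1] at h1
  · have h1 := key ea eb
    have hxb : (x * b) * x = x * (x * b) := by rw [mul_assoc, hb.1]
    rwa [red ha.1 hxb, red2 ha.1 hb.1] at h1

/-- if `N` is abelian then so is `{1,x} N` -/
theorem abelian_NX (xx : x * x = 1) (hN : ∀ a ∈ NN F x, ∀ b ∈ NN F x, a * b = b * a) :
    ∀ a ∈ NX F x xx, ∀ b ∈ NX F x xx, a * b = b * a := by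
  intro a ha b hb
  have hxm : ∀ {g : G}, g * x = x * g → (x * g) * x = x * (x * g) := fun hg => by rw [mul_assoc, hg]
  rcases ha.2 with ea | ea <;> rcases hb.2 with eb | eb
  · exact hN a (mem_NN.2 ⟨ea, ha.1⟩) b (mem_NN.2 ⟨eb, hb.1⟩)
  · have h1 := hN a (mem_NN.2 ⟨ea, ha.1⟩) (x * b) (mem_NN.2 ⟨eb, hxm hb.1⟩)
    apply mul_left_cancel (a := x)
    calc x * (a * b) = (x * a) * b := by group
      _ = a * (x * b) := by rw [← ha.1]; group
      _ = x * (b * a) := by rw [h1]; group
  · have h1 := hN (x * a) (mem_NN.2 ⟨ea, hxm ha.1⟩) b (mem_NN.2 ⟨eb, hb.1⟩)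
    apply mul_left_cancel (a := x)
    calc x * (a * b) = (x * a) * b := by group
      _ = (b * x) * a := by rw [h1]; group
      _ = x * (b * a) := by rw [hb.1]; group
  · have h1 := hN (x * a) (mem_NN.2 ⟨ea, hxm ha.1⟩) (x * b) (mem_NN.2 ⟨eb, hxm hb.1⟩)
    have h2 : (x * a) * (x * b) = a * b := by
      calc (x * a) * (x * b) = x * (a * x) * b := by group
        _ = (x * x) * (a * b) := by rw [ha.1]; group
        _ = a * b := by rw [xx, one_mul]
    have h3 : (x * b) * (x * a) = b * a := by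
      calc (x * b) * (x * a) = x * (b * x) * a := by group
        _ = (x * x) * (b * a) := by rw [hb.1]; group
        _ = b * a := by rw [xx, one_mul]
    rw [← h2, h1, h3]

end SymF

namespace SymT

variable {x z : G} {F : Subgroup G}

/-- `T` has no abelian subgroup of index two -/
theorem no_abelian [Finite G] (hT : SymT x z) (A : Subgroup G) (hA : A ≤ STT x z) (hc : Nat.card ↥A = 32)
    (hab : ∀ a ∈ A, ∀ b ∈ A, a * b = b * a) : False := by
  obtain ⟨v, f, r, hv, hf, hr, -, h2, h3, h4, h5⟩ := hT.wit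
  have hidx : (A.subgroupOf (STT x z)).index = 2 := by
    have h1 := Subgroup.card_mul_index (A.subgroupOf (STT x z))
    rw [Nat.card_congr (subgroupOfEquivOfLe hA).toEquiv, hc, hT.card] at h1
    omega
  have key : ∀ {a b : G}, a ∈ STT x z → b ∈ STT x z → (a * b ∈ A ↔ (a ∈ A ↔ b ∈ A)) := by
    intro a b ha hb
    have := Subgroup.mul_mem_iff_of_index_two hidx (a := ⟨a, ha⟩) (b := ⟨b, hb⟩)
    simpa [mem_subgroupOf] using this
  have hd : r * v * r⁻¹ * v⁻¹ ∈ A := by
    rw [mul_assoc, key (mul_mem hr hv) (mul_mem (inv_mem hr) (inv_mem hv)), key hr hv, key (inv_mem hr) (inv_mem hv),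
      inv_mem_iff, inv_mem_iff]
  have hv' : v ∉ A := fun hvA => h2 (hab _ hvA _ hd)
  have hfv : f * v ∉ A := fun hA' => h3 (hab _ hA' _ hd)
  have hfA : f ∈ A := by
    by_contra hfA
    exact hfv ((key hf hv).2 ⟨fun h => absurd h hfA, fun h => absurd h hv'⟩)
  have hrA : r ∉ A := fun hrA => h4 (hab _ hrA _ hfA)
  have hrv : r * v ∈ A := (key hr hv).2 ⟨fun h => absurd h hrA, fun h => absurd h hv'⟩
  exact h5 (hab _ hrv _ hfA)

/-- not all commutators of `T` have order at most two -/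
theorem exists_comm (hT : SymT x z) :
    ∃ a ∈ STT x z, ∃ b ∈ STT x z, (a * b * a⁻¹ * b⁻¹) * (a * b * a⁻¹ * b⁻¹) ≠ 1 := by
  obtain ⟨v, f, r, hv, hf, hr, h1, -⟩ := hT.wit
  exact ⟨r, hr, v, hv, h1⟩

theorem card_STT (hT : SymT x z) : Nat.card ↥(STT x z) = 64 := hT.card

theorem lt_of_comm [Finite G] (hT : SymT x z) (A : Subgroup G) (hA : A ≤ STT x z)
    (hc : ∀ a ∈ A, ∀ b ∈ A, a * b * a⁻¹ * b⁻¹ = 1 ∨ a * b * a⁻¹ * b⁻¹ = z) : Nat.card ↥A ≤ 32 := by
  have hdvd : Nat.card ↥A ∣ 64 := hT.card ▸ Subgroup.card_dvd_of_le hA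
  by_contra hlt
  have h64 : Nat.card ↥A = 64 := by
    obtain ⟨k, hk⟩ := hdvd
    have : k = 1 := by
      have : Nat.card ↥A * k < Nat.card ↥A * 2 := by omega
      have h1 := Nat.lt_of_mul_lt_mul_left this
      interval_cases k
      · omega
      · rfl
    rw [this] at hk; omega
  have heq : A = STT x z := Subgroup.eq_of_le_of_card_ge hA (by rw [hT.card_STT, h64])
  obtain ⟨a, ha, b, hb, hab⟩ := hT.exists_comm
  apply hab
  rw [← heq] at ha hb
  rcases hc a ha b hb with e | e
  · rw [e, one_mul]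
  · rw [e]; exact hT.zz

/-- `|F| ≤ 2⁸` -/
theorem card_F_lt [Finite G] (hT : SymT x z) (hF : SymF z F) : Nat.card ↥F < 512 := by
  have hle := hF.NX_le hT.xx hT.xz
  by_cases hxF : x ∈ F
  · have hPP : F ≤ hF.PP hT.zz hT.xz := by
      intro g hg
      refine ⟨hg, ?_⟩
      rcases hF.comm x hxF g hg with e | e
      · left; rw [e]; group
      · right; rw [e]; group
    have h1 : Nat.card ↥F ≤ 2 * Nat.card ↥(SymF.NN F x) :=
      (Nat.card_le_card_of_injective _ (Subgroup.inclusion_injective hPP)).trans (hF.card_PP_le hT.zz hT.xz)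
    have h2 : Nat.card ↥(SymF.NX F x hT.xx) ≤ 32 :=
      hT.lt_of_comm _ hle (fun a ha b hb => hF.comm_NX hT.zz hT.xx ha hb)
    have h3 := Nat.card_le_card_of_injective _ (Subgroup.inclusion_injective (SymF.NN_le_NX F hT.xx))
    omega
  · have h2 : Nat.card ↥(SymF.NX F x hT.xx) ≤ 32 :=
      hT.lt_of_comm _ hle (fun a ha b hb => hF.comm_NX hT.zz hT.xx ha hb)
    have h3 := SymF.card_NX (F := F) hT.xx hxF
    have h4 := hF.card_le' hT.zz hT.xx hT.xz
    by_contra hcon
    have h5 : Nat.card ↥(SymF.NN F x) ≤ 16 := by omega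
    have h6 : Nat.card ↥(SymF.NN F x) = 16 := by
      by_contra h16
      have h7 : Nat.card ↥(SymF.NN F x) ≤ 15 := by omega
      have h8 : 2 * Nat.card ↥(SymF.NN F x) * Nat.card ↥(SymF.NN F x) ≤ 2 * 15 * 15 :=
        Nat.mul_le_mul (Nat.mul_le_mul_left _ h7) h7
      omega
    have h7 : Nat.card ↥F = 2 * Nat.card ↥(SymF.NN F x) * Nat.card ↥(SymF.NN F x) := by
      rw [h6] at h4 ⊢; omega
    exact hT.no_abelian _ hle (by rw [h3, h6])
      (SymF.abelian_NX hT.xx (hF.abelian_of_eq hT.zz hT.xx hT.xz h7))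

/-- orbits in a set with at most seven elements -/
theorem stab_ge [Finite G] {H : Subgroup G} {k : ℕ} (hH : Nat.card ↥H = 2 ^ k) {a : G} {S : Set G}
    (hS : Nat.card ↥S ≤ 7) (hmem : ∀ h ∈ H, h * a * h⁻¹ ∈ S) :
    Nat.card ↥H ≤ 4 * Nat.card ↥(H ⊓ centralizer ({a} : Set G)) := by
  have hle : (H ⊓ centralizer ({a} : Set G)) ≤ H := inf_le_left
  let φ : ↥H ⧸ (H ⊓ centralizer ({a} : Set G)).subgroupOf H → ↥S :=
    fun q => ⟨((q.out : ↥H) : G) * a * ((q.out : ↥H) : G)⁻¹, hmem _ (q.out : ↥H).2⟩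
  have hφ : Function.Injective φ := by
    intro p q e
    have e1 : ((p.out : ↥H) : G) * a * ((p.out : ↥H) : G)⁻¹ = ((q.out : ↥H) : G) * a * ((q.out : ↥H) : G)⁻¹ :=
      congrArg Subtype.val e
    rw [← QuotientGroup.out_eq' p, ← QuotientGroup.out_eq' q, QuotientGroup.eq, mem_subgroupOf, mem_inf,
      mem_centralizer_singleton_iff]
    refine ⟨SetLike.coe_mem _, ?_⟩
    show (((p.out : ↥H) : G)⁻¹ * ((q.out : ↥H) : G)) * a = a * (((p.out : ↥H) : G)⁻¹ * ((q.out : ↥H) : G))
    generalize ((p.out : ↥H) : G) = c at e1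
    generalize ((q.out : ↥H) : G) = d at e1
    calc (c⁻¹ * d) * a = c⁻¹ * (d * a * d⁻¹) * d := by group
      _ = c⁻¹ * (c * a * c⁻¹) * d := by rw [e1]
      _ = a * (c⁻¹ * d) := by group
  have h1 := Nat.card_le_card_of_injective φ hφ
  have h2 := Subgroup.card_mul_index ((H ⊓ centralizer ({a} : Set G)).subgroupOf H)
  rw [Nat.card_congr (subgroupOfEquivOfLe hle).toEquiv] at h2
  have h3 : ((H ⊓ centralizer ({a} : Set G)).subgroupOf H).index ≤ 7 := h1.trans hS
  have h4 : ((H ⊓ centralizer ({a} : Set G)).subgroupOf H).index ∣ 2 ^ k := by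
    rw [← hH]; exact Subgroup.index_dvd_card _
  obtain ⟨j, -, hj⟩ := (Nat.dvd_prime_pow Nat.prime_two).1 h4
  have h5 : ((H ⊓ centralizer ({a} : Set G)).subgroupOf H).index ≤ 4 := by
    rw [hj] at h3 ⊢
    have : j < 3 := by
      by_contra hj3
      have : 2 ^ 3 ≤ 2 ^ j := Nat.pow_le_pow_right (by norm_num) (by omega)
      omega
    interval_cases j <;> norm_num
  calc Nat.card ↥H = Nat.card ↥(H ⊓ centralizer ({a} : Set G)) *
        ((H ⊓ centralizer ({a} : Set G)).subgroupOf H).index := h2.symm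
    _ ≤ Nat.card ↥(H ⊓ centralizer ({a} : Set G)) * 4 := Nat.mul_le_mul_left _ h5
    _ = _ := mul_comm _ _

/-- `|F| ≠ 8` -/
theorem card_F_ne [Finite G] (hT : SymT x z) (hF : SymF z F) (h8 : Nat.card ↥F = 8) : False := by
  classical
  -- non-commuting elements
  have hex : ∃ a ∈ F, ∃ b ∈ F, a * b ≠ b * a := by
    by_contra hno
    push Not at hno
    have hle : (F : Set G) ⊆ {1, z} := by
      intro a ha
      rcases hF.cen a ha (fun b hb => hno a ha b hb) with e | e
      · left; exact e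
      · right; exact e
    have h1 : Nat.card ↥(F : Set G) ≤ Nat.card ↥({1, z} : Set G) := Nat.card_mono (Set.toFinite _) hle
    have h2 : Nat.card ↥({1, z} : Set G) ≤ 2 := by
      rw [Nat.card_coe_set_eq]; exact (Set.ncard_insert_le _ _).trans (by rw [Set.ncard_singleton])
    have h3 : Nat.card ↥(F : Set G) = 8 := h8
    omega
  obtain ⟨a, ha, b, hb, hab⟩ := hex
  have ha1 : a ≠ 1 := by rintro rfl; apply hab; group
  have hb1 : b ≠ 1 := by rintro rfl; apply hab; group
  set S : Set G := (F : Set G) \ {1} with hSdef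
  have hS : Nat.card ↥S ≤ 7 := by
    have h1 : Set.ncard S + 1 = Set.ncard (F : Set G) := Set.ncard_sdiff_singleton_add_one F.one_mem (Set.toFinite _)
    have h2 : Set.ncard (F : Set G) = 8 := by rw [← Nat.card_coe_set_eq]; exact h8
    rw [Nat.card_coe_set_eq]; omega
  have hconj : ∀ {c : G}, c ∈ F → c ≠ 1 → ∀ h ∈ STT x z, h * c * h⁻¹ ∈ S := by
    intro c hc hc1 h hh
    refine ⟨hF.norm h (mem_STT.1 hh).2 c hc, ?_⟩
    intro e
    apply hc1
    have e' : h * c * h⁻¹ = 1 := e
    calc c = h⁻¹ * (h * c * h⁻¹) * h := by group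
      _ = 1 := by rw [e']; group
  have h1 := stab_ge (H := STT x z) (k := 6) (by rw [hT.card_STT]; norm_num) hS (hconj ha ha1)
  set H1 : Subgroup G := STT x z ⊓ centralizer ({a} : Set G) with hH1
  have hH1le : H1 ≤ STT x z := inf_le_left
  obtain ⟨k, -, hk⟩ : ∃ k, k ≤ 6 ∧ Nat.card ↥H1 = 2 ^ k := by
    have : Nat.card ↥H1 ∣ 2 ^ 6 := by
      have := Subgroup.card_dvd_of_le hH1le
      rwa [hT.card_STT] at this
    exact (Nat.dvd_prime_pow Nat.prime_two).1 this
  have h2 := stab_ge hk hS (fun h hh => hconj hb hb1 h (hH1le hh))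
  rw [hT.card_STT] at h1
  -- an element centralizing `a`, `b` lies in `{1, z}`
  have hsub : ((H1 ⊓ centralizer ({b} : Set G) : Subgroup G) : Set G) ⊆ {1, z} := by
    intro t ht
    have ht' : t ∈ H1 ⊓ centralizer ({b} : Set G) := ht
    rw [mem_inf, hH1, mem_inf, mem_centralizer_singleton_iff, mem_centralizer_singleton_iff] at ht'
    obtain ⟨⟨htT, hta⟩, htb⟩ := ht'
    -- the centralizer of `t` in `F`
    set D : Subgroup G := F ⊓ centralizer ({t} : Set G) with hD
    have haD : a ∈ D := ⟨ha, mem_centralizer_singleton_iff.2 hta.symm⟩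
    have hbD : b ∈ D := ⟨hb, mem_centralizer_singleton_iff.2 htb.symm⟩
    have hDF : D = F := by
      have hle : D ≤ F := inf_le_left
      have hdvd : Nat.card ↥D ∣ 8 := h8 ▸ Subgroup.card_dvd_of_le hle
      refine Subgroup.eq_of_le_of_card_ge hle ?_
      rw [h8]
      by_contra hlt
      have h4 : Nat.card ↥D ≤ 4 := by
        have h5 : Nat.card ↥D < 8 := by omega
        obtain ⟨m, hm⟩ := hdvd
        have : 2 ≤ m := by
          by_contra hm2
          interval_cases m <;> omega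
        have : Nat.card ↥D * 2 ≤ Nat.card ↥D * m := Nat.mul_le_mul_left _ this
        omega
      have h5 : ({1, a, b, a * b, b * a} : Finset G).card = 5 := by
        rw [Finset.card_insert_of_notMem, Finset.card_insert_of_notMem, Finset.card_insert_of_notMem,
          Finset.card_pair hab]
        · simp only [Finset.mem_insert, Finset.mem_singleton, not_or]
          exact ⟨fun e => ha1 (right_eq_mul.1 e), fun e => ha1 (left_eq_mul.1 e)⟩
        · simp only [Finset.mem_insert, Finset.mem_singleton, not_or]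
          exact ⟨fun e => hab (by rw [e]), fun e => hb1 (left_eq_mul.1 e), fun e => hb1 (right_eq_mul.1 e)⟩
        · simp only [Finset.mem_insert, Finset.mem_singleton, not_or]
          refine ⟨ha1.symm, hb1.symm, fun e => hab ?_, fun e => hab ?_⟩
          · have hb' : b = a⁻¹ := (inv_eq_of_mul_eq_one_right e.symm).symm
            rw [hb']; group
          · have hb' : a = b⁻¹ := (inv_eq_of_mul_eq_one_right e.symm).symm
            rw [hb']; group
      have h6 : ((({1, a, b, a * b, b * a} : Finset G)) : Set G) ⊆ (D : Set G) := by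
        intro g hg
        simp only [Finset.coe_insert, Finset.coe_singleton, Set.mem_insert_iff, Set.mem_singleton_iff] at hg
        rcases hg with rfl | rfl | rfl | rfl | rfl
        · exact D.one_mem
        · exact haD
        · exact hbD
        · exact D.mul_mem haD hbD
        · exact D.mul_mem hbD haD
      have h7 := Set.ncard_le_ncard h6 (Set.toFinite _)
      rw [Set.ncard_coe_finset, h5, ← Nat.card_coe_set_eq] at h7
      have h8 : Nat.card ↥(D : Set G) = Nat.card ↥D := rfl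
      omega
    have htF : ∀ c ∈ F, t * c = c * t := by
      intro c hc
      rw [← hDF, hD, mem_inf, mem_centralizer_singleton_iff] at hc
      exact hc.2.symm
    rcases hF.cen t (hF.self t htF) htF with e | e
    · left; exact e
    · right; exact e
  have h3 : Nat.card ↥((H1 ⊓ centralizer ({b} : Set G) : Subgroup G) : Set G) ≤ 2 := by
    refine (Nat.card_mono (Set.toFinite _) hsub).trans ?_
    rw [Nat.card_coe_set_eq]; exact (Set.ncard_insert_le _ _).trans (by rw [Set.ncard_singleton])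
  have h4 : Nat.card ↥((H1 ⊓ centralizer ({b} : Set G) : Subgroup G) : Set G) =
      Nat.card ↥(H1 ⊓ centralizer ({b} : Set G)) := rfl
  omega

/-- **`|F| ∈ {2⁵, 2⁷}`** -/
theorem card_F [Finite G] (hT : SymT x z) (hF : SymF z F) (hw : ∃ n : ℕ, 1 ≤ n ∧ Nat.card ↥F = 2 ^ (2 * n + 1)) :
    Nat.card ↥F = 32 ∨ Nat.card ↥F = 2 ^ 7 := by
  obtain ⟨n, hn, hc⟩ := hw
  have h1 := hT.card_F_lt hF
  have h2 : n < 4 := by
    by_contra h4
    have : 2 ^ 9 ≤ 2 ^ (2 * n + 1) := Nat.pow_le_pow_right (by norm_num) (by omega)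
    omega
  interval_cases n
  · exact (hT.card_F_ne hF hc).elim
  · left; exact hc
  · right; exact hc

end SymT

end Cfsg.Agent.OddHalf.D5.SixAut

private theorem dce_251af8c78322 : _root_.True := by
  try have : _root_.True := by simp only [_root_.Cfsg.Agent.OddHalf.D5.SixAut.SymF.PP.congr_simp]
  exact _root_.True.intro
end

-- part: OddHalf/D5/SixAut/SymSpl
section
set_option linter.all false
open scoped Cfsg.Agent.FastGrp

/-!
# ODD D5, `n = 6`, `C_G(x)/⟨x⟩ = Aut(A_6)`: the case "symplectic type", part 2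

`SymHyp z`: `F*(C(z))` is a 2-group and every elementary abelian normal subgroup of `C(z)` is `≤ ⟨z⟩`. Then `F*(C(z))`
is of symplectic type (`SymHyp.sympl`), and if it is extraspecial then it satisfies `SymF` (`SymHyp.symF`).
-/

set_option autoImplicit false

namespace Cfsg.Agent.OddHalf.D5.SixAut

open Subgroup Cfsg

/-- **SYM**: `F*(C(z))` is a 2-group, every elementary abelian normal subgroup of `C(z)` is `≤ ⟨z⟩` -/
def SymHyp {G : Type*} [Group G] (z : G) : Prop :=
  IsPGroup 2 ↥(generalizedFittingSubgroup ↥(centralizer ({z} : Set G))) ∧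
  ∀ A : Subgroup ↥(centralizer ({z} : Set G)), A.Normal → (∀ a ∈ A, a * a = 1) → ∀ a ∈ A, (a : G) = 1 ∨ (a : G) = z

namespace SymSpl

/-- a commutative 2-group with at most one involution is cyclic -/
theorem isCyclic_of {A : Type*} [Group A] [Finite A] (h2 : IsPGroup 2 A) (hc : ∀ a b : A, a * b = b * a) {f : A}
    (hf : ∀ a : A, a * a = 1 → a = 1 ∨ a = f) : IsCyclic A := by
  classical
  have := Fintype.ofFinite A
  have key : ∀ k : ℕ, (Finset.univ.filter fun a : A => a ^ 2 ^ k = 1).card ≤ 2 ^ k := by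
    intro k
    induction k with
    | zero =>
      have h1 : (Finset.univ.filter fun a : A => a ^ 2 ^ 0 = 1) ⊆ {1} := by
        intro a ha
        have h2 := (Finset.mem_filter.1 ha).2
        rw [pow_zero, pow_one] at h2
        rw [Finset.mem_singleton]; exact h2
      exact (Finset.card_le_card h1).trans (by rw [Finset.card_singleton, pow_zero])
    | succ k ih =>
      have h1 := Finset.card_le_mul_card_image (f := fun a : A => a * a)
        (Finset.univ.filter fun a : A => a ^ 2 ^ (k + 1) = 1) 2 (by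
          intro b hb
          obtain ⟨c, -, hc'⟩ := Finset.mem_image.1 hb
          have h3 : ((Finset.univ.filter fun a : A => a ^ 2 ^ (k + 1) = 1).filter fun a => a * a = b) ⊆ {c, f * c} := by
            intro a ha
            have h4 : a * a = b := (Finset.mem_filter.1 ha).2
            have h5 : (a * c⁻¹) * (a * c⁻¹) = 1 := by
              have h6 : c⁻¹ * a = a * c⁻¹ := hc _ _
              have hc'' : c * c = b := hc'
              calc (a * c⁻¹) * (a * c⁻¹) = a * (c⁻¹ * a) * c⁻¹ := by group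
                _ = (a * a) * (c * c)⁻¹ := by rw [h6]; group
                _ = 1 := by rw [h4, hc'', mul_inv_cancel]
            rw [Finset.mem_insert, Finset.mem_singleton]
            rcases hf _ h5 with e | e
            · left; exact mul_inv_eq_one.1 e
            · right; exact mul_inv_eq_iff_eq_mul.1 e
          exact (Finset.card_le_card h3).trans Finset.card_le_two)
      have h3 : (Finset.univ.filter fun a : A => a ^ 2 ^ (k + 1) = 1).image (fun a : A => a * a) ⊆
          Finset.univ.filter fun a : A => a ^ 2 ^ k = 1 := by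
        intro b hb
        obtain ⟨c, hc1, hc2⟩ := Finset.mem_image.1 hb
        have hc3 := (Finset.mem_filter.1 hc1).2
        rw [Finset.mem_filter]
        refine ⟨Finset.mem_univ _, ?_⟩
        rw [← hc2]
        show (c * c) ^ 2 ^ k = 1
        rw [← pow_two, ← pow_mul, ← pow_succ']
        exact hc3
      calc _ ≤ _ := h1
        _ ≤ 2 * 2 ^ k := Nat.mul_le_mul_left _ ((Finset.card_le_card h3).trans ih)
        _ = 2 ^ (k + 1) := (pow_succ' _ _).symm
  obtain ⟨m, hm⟩ := IsPGroup.iff_card.1 h2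
  refine isCyclic_of_card_pow_eq_one_le ?_
  intro n hn
  obtain ⟨k, -, hk⟩ := (Nat.dvd_prime_pow Nat.prime_two).1 (Nat.gcd_dvd_right n (2 ^ m))
  have h1 : (Finset.univ.filter fun a : A => a ^ n = 1) ⊆ Finset.univ.filter fun a : A => a ^ 2 ^ k = 1 := by
    intro a ha
    rw [Finset.mem_filter] at ha ⊢
    refine ⟨ha.1, ?_⟩
    rw [← hk]
    have h3 : a ^ 2 ^ m = 1 := by rw [← hm]; exact pow_card_eq_one'
    have h4 := orderOf_dvd_of_pow_eq_one ha.2
    have h5 := orderOf_dvd_of_pow_eq_one h3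
    exact orderOf_dvd_iff_pow_eq_one.1 (Nat.dvd_gcd h4 h5)
  refine (Finset.card_le_card h1).trans ((key k).trans ?_)
  rw [← hk]
  exact Nat.gcd_le_left _ hn

/-- symplectic type -/
theorem sympl_of {C : Type*} [Group C] [Finite C] (hP : IsPGroup 2 ↥(generalizedFittingSubgroup C)) (z0 : C)
    (h : ∀ A : Subgroup C, A.Normal → (∀ a ∈ A, a * a = 1) → ∀ a ∈ A, a = 1 ∨ a = z0) :
    IsOfSymplecticType ↥(generalizedFittingSubgroup C) := by
  have : Fact (Nat.Prime 2) := ⟨Nat.prime_two⟩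
  have hN : (generalizedFittingSubgroup C).Normal := ClassificationK.GF2Basics.genFitting_normal_of_isPGroup hP
  refine ⟨hP, ?_⟩
  intro A hA hcomm
  have hc : ∀ a b : ↥A, a * b = b * a := fun a b => hcomm.is_comm.comm a b
  -- the elements of order at most two
  let Ω : Subgroup C :=
    { carrier := {c | ∃ hc : c ∈ generalizedFittingSubgroup C, (⟨c, hc⟩ : ↥(generalizedFittingSubgroup C)) ∈ A ∧ c * c = 1}
      one_mem' := ⟨one_mem _, A.one_mem, by group⟩
      mul_mem' := by
        rintro a b ⟨ha, haA, ha2⟩ ⟨hb, hbA, hb2⟩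
        refine ⟨mul_mem ha hb, A.mul_mem haA hbA, ?_⟩
        have e : a * b = b * a := by
          have := congrArg (fun t : ↥A => ((t : ↥(generalizedFittingSubgroup C)) : C)) (hc ⟨_, haA⟩ ⟨_, hbA⟩)
          exact this
        calc a * b * (a * b) = a * (b * a) * b := by group
          _ = (a * a) * (b * b) := by rw [← e]; group
          _ = 1 := by rw [ha2, hb2, one_mul]
      inv_mem' := by
        rintro a ⟨ha, haA, ha2⟩
        refine ⟨inv_mem ha, A.inv_mem haA, ?_⟩
        rw [← mul_inv_rev, ha2, inv_one] }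
  have hΩ : Ω.Normal := by
    refine ⟨?_⟩
    rintro a ⟨ha, haA, ha2⟩ c
    refine ⟨hN.conj_mem a ha c, ?_, ?_⟩
    · have h1 := (characteristic_iff_map_le.mp hA) (MulAut.conjNormal c)
      exact h1 ⟨⟨a, ha⟩, haA, Subtype.ext (MulAut.conjNormal_apply _ _)⟩
    · calc c * a * c⁻¹ * (c * a * c⁻¹) = c * (a * a) * c⁻¹ := by group
        _ = 1 := by rw [ha2]; group
  have hΩ2 : ∀ a ∈ Ω, a * a = 1 := by
    rintro a ⟨-, -, ha2⟩
    exact ha2
  have h3 := h Ω hΩ hΩ2
  -- conclusion
  by_cases hf : ∃ f : ↥A, f * f = 1 ∧ f ≠ 1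
  · obtain ⟨f, hf2, hf1⟩ := hf
    have hval : ∀ a : ↥A, a * a = 1 → a = 1 ∨ (((a : ↥(generalizedFittingSubgroup C)) : C)) = z0 := by
      intro a ha
      have h4 : (((a : ↥(generalizedFittingSubgroup C)) : C)) * ((a : ↥(generalizedFittingSubgroup C)) : C) = 1 :=
        congrArg (fun t : ↥A => ((t : ↥(generalizedFittingSubgroup C)) : C)) ha
      rcases h3 _ ⟨(a : ↥(generalizedFittingSubgroup C)).2, a.2, h4⟩ with e | e
      · left
        exact Subtype.ext (Subtype.ext e)
      · right; exact e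
    refine isCyclic_of (hP.to_subgroup A) hc (f := f) ?_
    intro a ha
    rcases hval a ha with e | e
    · exact Or.inl e
    · right
      rcases hval f hf2 with e' | e'
      · exact absurd e' hf1
      · exact Subtype.ext (Subtype.ext (e.trans e'.symm))
  · push Not at hf
    exact isCyclic_of (hP.to_subgroup A) hc (f := 1) (fun a ha => Or.inl (hf a ha))

end SymSpl

namespace SymHyp

variable {G : Type*} [Group G] [Finite G] {z : G}

theorem sympl (h : SymHyp z) :
    IsOfSymplecticType ↥(generalizedFittingSubgroup ↥(centralizer ({z} : Set G))) := by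
  refine SymSpl.sympl_of h.1 ⟨z, mem_centralizer_singleton_iff.2 rfl⟩ ?_
  intro A hA h2 a ha
  rcases h.2 A hA h2 a ha with e | e
  · left; exact Subtype.ext e
  · right; exact Subtype.ext e

/-- `F*(C(z))` as a subgroup of `G` -/
abbrev FF (z : G) : Subgroup G :=
  (generalizedFittingSubgroup ↥(centralizer ({z} : Set G))).map (centralizer ({z} : Set G)).subtype

omit [Finite G] in
theorem card_FF (z : G) : Nat.card ↥(FF z) = Nat.card ↥(generalizedFittingSubgroup ↥(centralizer ({z} : Set G))) :=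
  Nat.card_congr ((generalizedFittingSubgroup ↥(centralizer ({z} : Set G))).equivMapOfInjective _
    (centralizer ({z} : Set G)).subtype_injective).toEquiv.symm

/-- the extraspecial case -/
theorem symF (h : SymHyp z) (hz1 : z ≠ 1)
    (hE : IsExtraspecial 2 ↥(generalizedFittingSubgroup ↥(centralizer ({z} : Set G)))) : SymF z (FF z) := by
  have : Fact (Nat.Prime 2) := ⟨Nat.prime_two⟩
  set C := centralizer ({z} : Set G) with hC
  set F := generalizedFittingSubgroup ↥C with hF
  have hN : F.Normal := ClassificationK.GF2Basics.genFitting_normal_of_isPGroup h.1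
  have hzC : z ∈ C := mem_centralizer_singleton_iff.2 rfl
  set zc : ↥C := ⟨z, hzC⟩ with hzc
  have hzcen : zc ∈ center ↥C := ClassificationK.GF2Basics.mem_center_centralizer z
  have hzF : zc ∈ F := ClassificationK.GF2Basics.center_le_genFitting ↥C hzcen
  set zf : ↥F := ⟨zc, hzF⟩ with hzf
  have hzf1 : zf ≠ 1 := by
    intro e
    apply hz1
    exact congrArg (fun t : ↥F => ((t : ↥C) : G)) e
  have hzfc : zf ∈ center ↥F := by
    rw [mem_center_iff]
    intro g
    exact Subtype.ext ((mem_center_iff.1 hzcen) g)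
  -- the center is `{1, z}`
  have hcen : ∀ a : ↥F, a ∈ center ↥F → a = 1 ∨ a = zf := by
    intro a ha
    by_contra hno
    push Not at hno
    have h2 : Nat.card ↥(center ↥F) = 2 := hE.2
    have hfin : Finite ↥(center ↥F) := inferInstance
    have := Fintype.ofFinite ↥(center ↥F)
    have hlt : 2 < Fintype.card ↥(center ↥F) := by
      rw [Fintype.two_lt_card_iff]
      exact ⟨⟨a, ha⟩, ⟨zf, hzfc⟩, 1, fun e => hno.2 (congrArg Subtype.val e), fun e => hno.1 (congrArg Subtype.val e),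
        fun e => hzf1 (congrArg Subtype.val e)⟩
    rw [Nat.card_eq_fintype_card] at h2
    omega
  have hmem : ∀ {a : G}, a ∈ FF z → ∃ b : ↥F, ((b : ↥C) : G) = a := by
    rintro _ ⟨b, hb, rfl⟩
    exact ⟨⟨b, hb⟩, rfl⟩
  have hmem' : ∀ b : ↥F, ((b : ↥C) : G) ∈ FF z := fun b => ⟨b, b.2, rfl⟩
  refine ⟨hmem' zf, ?_, ?_, ?_, ?_, ?_, ?_⟩
  · intro a ha
    obtain ⟨b, rfl⟩ := hmem ha
    exact mem_centralizer_singleton_iff.1 (b : ↥C).2
  · intro a ha b hb
    obtain ⟨a, rfl⟩ := hmem ha
    obtain ⟨b, rfl⟩ := hmem hb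
    rcases hcen _ (Transfer.Extraspecial.comm_mem_center hE a b) with e | e
    · left
      rw [commutatorElement_eq_one_iff_mul_comm] at e
      exact congrArg (fun t : ↥F => ((t : ↥C) : G)) e
    · right
      have e1 : a * b = zf * (b * a) := by
        rw [← e, commutatorElement_def]; group
      exact congrArg (fun t : ↥F => ((t : ↥C) : G)) e1
  · intro a ha
    obtain ⟨a, rfl⟩ := hmem ha
    rcases hcen _ (Transfer.Extraspecial.pow_mem_center hE a) with e | e
    · left
      rw [pow_two] at e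
      exact congrArg (fun t : ↥F => ((t : ↥C) : G)) e
    · right
      rw [pow_two] at e
      exact congrArg (fun t : ↥F => ((t : ↥C) : G)) e
  · intro a ha hb
    obtain ⟨a, rfl⟩ := hmem ha
    have h1 : a ∈ center ↥F := by
      rw [mem_center_iff]
      intro g
      exact Subtype.ext (Subtype.ext (hb _ (hmem' g)).symm)
    rcases hcen a h1 with e | e
    · left; exact congrArg (fun t : ↥F => ((t : ↥C) : G)) e
    · right; exact congrArg (fun t : ↥F => ((t : ↥C) : G)) e
  · intro g hg a ha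
    obtain ⟨a, rfl⟩ := hmem ha
    have hgC : g ∈ C := mem_centralizer_singleton_iff.2 hg
    exact ⟨_, hN.conj_mem a a.2 ⟨g, hgC⟩, rfl⟩
  · intro g hg
    have hgC : g ∈ C := mem_centralizer_singleton_iff.2 (hg _ (hmem' zf))
    have h1 : (⟨g, hgC⟩ : ↥C) ∈ centralizer (F : Set ↥C) := by
      rw [mem_centralizer_iff]
      intro c hc
      exact Subtype.ext (hg _ (hmem' ⟨c, hc⟩)).symm
    have h2 := Lib.GenFitting.centralizer_genFitting_le h1
    exact ⟨_, h2, rfl⟩

end SymHyp

end Cfsg.Agent.OddHalf.D5.SixAut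
end

-- part: OddHalf/Small/J3
section
set_option linter.all false
open scoped Cfsg.Agent.FastGrp

/-!
# `J3` is of characteristic 2 type

One class of involutions, `C(z) = 2^{1+4}_-.A₅` (helper206's `KFacts.J3.exists_facts`).
-/

set_option autoImplicit false

namespace Cfsg.Agent.OddHalf.Small.J3

open Subgroup Cfsg Cfsg.Agent.OddHalf.Small.Crit Cfsg.Agent.J2Type.Model Cfsg.Agent.J3Type.OneClass

theorem good {K : Type*} [Group K] {z : K} {Q : Subgroup (centralizer ({z} : Set K))}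
    {v : Fin 5 → centralizer ({z} : Set K)} {ρ : centralizer ({z} : Set K) →* SP} (M : IsModel Q (zc z) v ρ) :
    Good z := by
  have hC : ∀ {g : K}, g * z = z * g → g ∈ centralizer ({z} : Set K) := fun h => mem_centralizer_singleton_iff.2 h
  have hz2 : z * z = 1 := congrArg Subtype.val M.z_sq
  refine ⟨Q.map (centralizer ({z} : Set K)).subtype, ?_, ?_, ?_⟩
  · refine IsPGroup.map ?_ _
    intro q
    refine ⟨2, Subtype.ext ?_⟩
    have h1 : (ρ (q : centralizer ({z} : Set K))).σ = 1 := (M.mem_Q _).1 q.2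
    have h2 : ρ ((q : centralizer ({z} : Set K)) * q) = 1 := by
      rw [map_mul]
      apply SP.ext
      · rw [mul_σ, h1, mul_one, one_σ]
      · funext i
        rw [mul_s, h1, one_s]
        exact CharTwo.add_self_eq_zero _
    have h3 : (q : centralizer ({z} : Set K)) ^ 2 = 1 ∨ (q : centralizer ({z} : Set K)) ^ 2 = zc z := by
      rw [pow_two]; exact (M.ker _).1 h2
    show ((q : centralizer ({z} : Set K)) ^ 2 ^ 2) = 1
    rw [show (2 : ℕ) ^ 2 = 2 * 2 by norm_num, pow_mul]
    rcases h3 with h | h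
    · rw [h, one_pow]
    · rw [h, pow_two]; exact M.z_sq
  · rintro g hg _ ⟨x, hx, rfl⟩
    refine ⟨⟨g, hC hg⟩ * x * ⟨g, hC hg⟩⁻¹, ?_, rfl⟩
    show _ ∈ Q
    rw [M.mem_Q, map_mul, map_mul, mul_σ, mul_σ, (M.mem_Q _).1 hx, mul_one, ← mul_σ, ← map_mul, mul_inv_cancel,
      map_one, one_σ]
  · intro y hy hyQ ho
    set c : centralizer ({z} : Set K) := ⟨y, hC hy⟩ with hc
    have h1 : ∀ i, 0 = (ρ c).s i ∧ i = (ρ c).σ i := by
      intro i
      have e : c * v i = v i * c := Subtype.ext (hyQ _ ⟨v i, M.v_mem i, rfl⟩)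
      have e2 := M.conj c i
      rw [e, mul_inv_cancel_right] at e2
      refine M.v_inj 0 _ i _ ?_
      rw [zp_zero, one_mul]
      exact e2
    have h2 : ρ c = 1 := by
      apply SP.ext
      · ext i
        rw [← (h1 i).2]; rfl
      · funext i
        exact (h1 i).1.symm
    rcases (M.ker c).1 h2 with h | h
    · exact congrArg Subtype.val h
    · exfalso
      have h3 : y = z := congrArg Subtype.val h
      have h4 : z ≠ 1 := fun e => M.z_ne (Subtype.ext e)
      have h5 : orderOf y = 2 := by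
        rw [h3]
        exact orderOf_eq_prime (by rw [pow_two, hz2]) h4
      rw [h5] at ho
      exact absurd ho (by decide)

/-- **`J3` is of characteristic 2 type.** -/
theorem j3 (G : Type*) [Group G] [Finite G] (h : Spor.IsoJ3 G) : IsCharacteristicTwoType G := by
  obtain ⟨-, z, Q, v, ρ, n, u, F⟩ := KFacts.J3.exists_facts h
  refine isCharacteristicTwoType ?_ fun t ht => ?_
  · rw [F.card_K]; decide
  · have ht1 : t ≠ 1 := by
      rintro rfl
      simp at ht
    have ht2 : t * t = 1 := by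
      rw [← pow_two, ← ht]; exact pow_orderOf_eq_one t
    obtain ⟨g, hg⟩ := F.one t ht1 ht2
    rw [← hg]
    exact good_conj (good F.model) g

end Cfsg.Agent.OddHalf.Small.J3
end

-- part: OddHalf/D4/Sp2/Cases
section
prune_inst 0x4303071647d22020000180010e2001c66fa0001920048800019e00d060dcfde6129462861feb00f1080328cd468340068171811042220000000000800411d05a18029d2049358ad04160009803886000000000000000000000000000000041000200000000
set_option linter.all false
open scoped Cfsg.Agent.FastGrp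

-- merged: Cfsg.Agent.OddHalf.D4.Sp2.Model
section

/-!
# D4 for `Sp_2n(2)`: the model

A group acting faithfully on a symplectic space over `F₂` and containing all transvections; identities between
transvections.
-/

set_option autoImplicit false

namespace Cfsg.Agent.OddHalf.D4.Sp2.Model

/-- A faithful symplectic module over `F₂` for a group generated by all transvections. -/
structure Mod (K V : Type*) [Group K] [AddCommGroup V] [Module (ZMod 2) V] where
  ρ : K →* (V ≃ₗ[ZMod 2] V)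
  inj : Function.Injective ρ
  B : V → V → ZMod 2
  addl : ∀ x y z, B (x + y) z = B x z + B y z
  symm : ∀ x y, B x y = B y x
  alt : ∀ x, B x x = 0
  inv : ∀ k x y, B (ρ k x) (ρ k y) = B x y
  sep : ∀ (U : Submodule (ZMod 2) V) (x : V), x ∉ U → ∃ b, (∀ u ∈ U, B u b = 0) ∧ B x b = 1
  t : V → K
  t_apply : ∀ v x, ρ (t v) x = x + B x v • v
  gen : Subgroup.closure (Set.range t) = ⊤

variable {K V : Type*} [Group K] [AddCommGroup V] [Module (ZMod 2) V]

theorem z2 (c : ZMod 2) : c = 0 ∨ c = 1 := by revert c; decide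

theorem z2_ne {c : ZMod 2} (h : c ≠ 0) : c = 1 := by revert c; decide

omit [Module (ZMod 2) V] in
theorem two_self [Module (ZMod 2) V] (v : V) : v + v = 0 := by
  have : (2 : ZMod 2) • v = v + v := two_smul _ v
  rw [← this, show (2 : ZMod 2) = 0 from rfl, zero_smul]

theorem eq_of_add_eq_zero {v w : V} (h : v + w = 0) : v = w := by
  have := two_self w
  calc v = v + (w + w) := by rw [this, add_zero]
    _ = (v + w) + w := by abel
    _ = w := by rw [h, zero_add]

namespace Mod

variable (M : Mod K V)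

theorem addr (x y z : V) : M.B x (y + z) = M.B x y + M.B x z := by
  rw [M.symm, M.addl, M.symm y, M.symm z]

theorem zerol (x : V) : M.B 0 x = 0 := by
  have h := M.addl 0 0 x
  rw [add_zero] at h
  exact left_eq_add.mp h

theorem zeror (x : V) : M.B x 0 = 0 := by rw [M.symm, M.zerol]

theorem smull (c : ZMod 2) (x y : V) : M.B (c • x) y = c * M.B x y := by
  rcases z2 c with rfl | rfl
  · rw [zero_smul, zero_mul, M.zerol]
  · rw [one_smul, one_mul]

theorem smulr (c : ZMod 2) (x y : V) : M.B x (c • y) = c * M.B x y := by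
  rw [M.symm, M.smull, M.symm]

theorem mul_apply (k l : K) (v : V) : M.ρ (k * l) v = M.ρ k (M.ρ l v) := by
  rw [map_mul]; rfl

theorem one_apply (v : V) : M.ρ 1 v = v := by
  rw [map_one]; rfl

theorem inv_apply (k : K) (v : V) : M.ρ k⁻¹ (M.ρ k v) = v := by
  rw [← M.mul_apply, inv_mul_cancel, M.one_apply]

theorem apply_inv (k : K) (v : V) : M.ρ k (M.ρ k⁻¹ v) = v := by
  rw [← M.mul_apply, mul_inv_cancel, M.one_apply]

theorem ext {k l : K} (h : ∀ v, M.ρ k v = M.ρ l v) : k = l :=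
  M.inj (LinearEquiv.ext h)

theorem nondeg {x : V} (h : ∀ b, M.B x b = 0) : x = 0 := by
  by_contra hx
  obtain ⟨b, -, hb⟩ := M.sep ⊥ x (by simpa using hx)
  rw [h b] at hb
  exact absurd hb (by decide)

theorem sep0 {x : V} (hx : x ≠ 0) : ∃ b, M.B x b = 1 := by
  obtain ⟨b, -, hb⟩ := M.sep ⊥ x (by simpa using hx)
  exact ⟨b, hb⟩

theorem mem_span1 {x u : V} (h : x ∈ Submodule.span (ZMod 2) {u}) : x = 0 ∨ x = u := by
  rw [Submodule.mem_span_singleton] at h
  obtain ⟨c, rfl⟩ := h
  rcases z2 c with rfl | rfl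
  · left; rw [zero_smul]
  · right; rw [one_smul]

theorem mem_span2 {x u v : V} (h : x ∈ Submodule.span (ZMod 2) {u, v}) :
    x = 0 ∨ x = u ∨ x = v ∨ x = u + v := by
  rw [Submodule.mem_span_pair] at h
  obtain ⟨a, b, rfl⟩ := h
  rcases z2 a with rfl | rfl <;> rcases z2 b with rfl | rfl <;> simp

theorem sep1 {x u : V} (hx : x ≠ 0) (hu : x ≠ u) : ∃ b, M.B u b = 0 ∧ M.B x b = 1 := by
  obtain ⟨b, h1, hb⟩ := M.sep (Submodule.span (ZMod 2) {u}) x (by
    intro h
    rcases mem_span1 h with h | h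
    · exact hx h
    · exact hu h)
  exact ⟨b, h1 u (Submodule.subset_span (by simp)), hb⟩

theorem sep2 {x u v : V} (hx : x ≠ 0) (hu : x ≠ u) (hv : x ≠ v) (huv : x ≠ u + v) :
    ∃ b, M.B u b = 0 ∧ M.B v b = 0 ∧ M.B x b = 1 := by
  obtain ⟨b, h1, hb⟩ := M.sep (Submodule.span (ZMod 2) {u, v}) x (by
    intro h
    rcases mem_span2 h with h | h | h | h
    · exact hx h
    · exact hu h
    · exact hv h
    · exact huv h)
  exact ⟨b, h1 u (Submodule.subset_span (by simp)), h1 v (Submodule.subset_span (by simp)), hb⟩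

/-! ### Transvections -/

theorem t_zero : M.t 0 = 1 := by
  apply M.ext
  intro v
  rw [M.t_apply, M.one_apply, smul_zero, add_zero]

theorem t_mul_self (v : V) : M.t v * M.t v = 1 := by
  apply M.ext
  intro x
  rw [M.mul_apply, M.one_apply]
  simp only [M.t_apply, M.addl, M.smull, M.alt]
  match_scalars <;> (generalize M.B x v = α; revert α; decide)

theorem t_inv (v : V) : (M.t v)⁻¹ = M.t v :=
  inv_eq_of_mul_eq_one_left (M.t_mul_self v)

theorem conj_t (k : K) (v : V) : k * M.t v * k⁻¹ = M.t (M.ρ k v) := by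
  apply M.ext
  intro x
  rw [M.mul_apply, M.mul_apply, M.t_apply, M.t_apply, map_add, map_smul, M.apply_inv]
  congr 2
  rw [← M.inv k, M.apply_inv]

theorem t_inj {v w : V} (h : M.t v = M.t w) : v = w := by
  by_cases hv : v = 0
  · by_contra hw
    have hw0 : w ≠ 0 := fun h' => hw (hv.trans h'.symm)
    obtain ⟨b, hb⟩ := M.sep0 hw0
    have h1 : M.ρ (M.t v) b = M.ρ (M.t w) b := by rw [h]
    rw [M.t_apply, M.t_apply, hv, smul_zero, add_zero, M.symm, hb, one_smul] at h1
    exact hw0 (left_eq_add.mp h1)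
  · obtain ⟨b, hb⟩ := M.sep0 hv
    have h1 : M.ρ (M.t v) b = M.ρ (M.t w) b := by rw [h]
    rw [M.t_apply, M.t_apply, M.symm b v, hb, one_smul] at h1
    have h2 := add_left_cancel h1
    rcases z2 (M.B b w) with h3 | h3
    · rw [h3, zero_smul] at h2
      exact absurd h2 hv
    · rw [h3, one_smul] at h2
      exact h2

theorem t_eq_one {v : V} (h : M.t v = 1) : v = 0 := M.t_inj (h.trans M.t_zero.symm)

theorem comm_t {k : K} {v : V} : k * M.t v = M.t v * k ↔ M.ρ k v = v := by
  rw [← mul_inv_eq_iff_eq_mul, M.conj_t]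
  exact ⟨fun h => M.t_inj h, fun h => by rw [h]⟩

theorem t_fix {v w : V} (h : M.B v w = 0) : M.ρ (M.t w) v = v := by
  rw [M.t_apply, h, zero_smul, add_zero]

theorem t_move {v w : V} (h : M.B v w = 1) : M.ρ (M.t w) v = v + w := by
  rw [M.t_apply, h, one_smul]

theorem t_comm {v w : V} (h : M.B v w = 0) : M.t v * M.t w = M.t w * M.t v := by
  rw [M.comm_t]
  exact M.t_fix (by rw [M.symm]; exact h)

/-- `s(a,r)`, for orthogonal `a`, `r`. -/
def s (a r : V) : K := M.t a * M.t r * M.t (a + r)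

theorem s_apply {a r : V} (h : M.B a r = 0) (x : V) :
    M.ρ (M.s a r) x = x + M.B x a • r + M.B x r • a := by
  have h' : M.B r a = 0 := by rw [M.symm]; exact h
  unfold s
  rw [M.mul_apply, M.mul_apply]
  simp only [M.t_apply, M.addl, M.addr, M.smull, M.alt, h, h']
  match_scalars <;> (generalize M.B x a = α; generalize M.B x r = β; revert α β; decide)

theorem conj_s (k : K) (a r : V) : k * M.s a r * k⁻¹ = M.s (M.ρ k a) (M.ρ k r) := by
  unfold s
  rw [← map_add, ← M.conj_t, ← M.conj_t, ← M.conj_t]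
  group

theorem s_symm {a r : V} (h : M.B a r = 0) : M.s a r = M.s r a := by
  unfold s
  rw [M.t_comm h, add_comm a r]

theorem s_mul_self {a r : V} (h : M.B a r = 0) : M.s a r * M.s a r = 1 := by
  have h' : M.B r a = 0 := by rw [M.symm]; exact h
  apply M.ext
  intro x
  rw [M.mul_apply, M.s_apply h, M.s_apply h, M.one_apply]
  simp only [M.addl, M.addr, M.smull, M.alt, h, h']
  match_scalars <;> (generalize M.B x a = α; generalize M.B x r = β; revert α β; decide)

theorem tt_eq {v r : V} (h : M.B v r = 0) : M.t r * M.s v r = M.t v * M.t (v + r) := by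
  have h' : M.B r v = 0 := by rw [M.symm]; exact h
  apply M.ext
  intro x
  simp only [s, M.mul_apply, M.t_apply, M.addl, M.addr, M.smull, M.alt, h, h']
  match_scalars <;> (generalize M.B x v = α; generalize M.B x r = β; revert α β; decide)

theorem r1 {v v' r : V} (h : M.B v v' = 0) (h1 : M.B v r = 0) (h2 : M.B v' r = 0) :
    M.t v * M.t (v + r) * (M.t v' * M.t (v' + r)) = M.t (v + v') * M.t r * M.t (v + v' + r) := by
  have h' : M.B v' v = 0 := by rw [M.symm]; exact h
  have h1' : M.B r v = 0 := by rw [M.symm]; exact h1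
  have h2' : M.B r v' = 0 := by rw [M.symm]; exact h2
  apply M.ext
  intro x
  simp only [M.mul_apply, M.t_apply, M.addl, M.addr, M.smull, M.alt, h, h', h1, h1', h2, h2']
  match_scalars <;>
    (generalize M.B x v = α; generalize M.B x r = β; generalize M.B x v' = γ; revert α β γ; decide)

theorem r2 {v v' r : V} (h : M.B v v' = 1) (h1 : M.B v r = 0) (h2 : M.B v' r = 0) :
    M.t v' * M.t v * (M.t (v + r) * M.t (v' + r)) = M.t v * M.t (v + r) := by
  have h' : M.B v' v = 1 := by rw [M.symm]; exact h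
  have h1' : M.B r v = 0 := by rw [M.symm]; exact h1
  have h2' : M.B r v' = 0 := by rw [M.symm]; exact h2
  apply M.ext
  intro x
  simp only [M.mul_apply, M.t_apply, M.addl, M.addr, M.smull, M.alt, h, h', h1, h1', h2, h2']
  match_scalars <;>
    (generalize M.B x v = α; generalize M.B x r = β; generalize M.B x v' = γ; revert α β γ; decide)

/-- four transvections -/
theorem r3 {v r r' : V} (h1 : M.B v r = 0) (h2 : M.B v r' = 0) (h3 : M.B r r' = 0) :
    M.t v * M.t (v + r) * (M.t (v + r') * M.t (v + r' + r)) = M.s r r' := by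
  have h1' : M.B r v = 0 := by rw [M.symm]; exact h1
  have h2' : M.B r' v = 0 := by rw [M.symm]; exact h2
  have h3' : M.B r' r = 0 := by rw [M.symm]; exact h3
  apply M.ext
  intro x
  simp only [s, M.mul_apply, M.t_apply, M.addl, M.addr, M.smull, M.alt, h1, h1', h2, h2', h3, h3']
  match_scalars <;>
    (generalize M.B x v = α; generalize M.B x r = β; generalize M.B x r' = γ; revert α β γ; decide)

theorem i5_zero {a σ z : V} (h1 : M.B a σ = 0) (h2 : M.B σ z = 0) (h3 : M.B a z = 0) :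
    M.t (a + z) * M.t (a + σ + z) * (M.t (a + σ) * M.t a) = M.s σ z := by
  have h1' : M.B σ a = 0 := by rw [M.symm]; exact h1
  have h2' : M.B z σ = 0 := by rw [M.symm]; exact h2
  have h3' : M.B z a = 0 := by rw [M.symm]; exact h3
  apply M.ext
  intro x
  simp only [s, M.mul_apply, M.t_apply, M.addl, M.addr, M.smull, M.alt, h1, h1', h2, h2', h3, h3']
  match_scalars <;>
    (generalize M.B x a = α; generalize M.B x σ = β; generalize M.B x z = γ; revert α β γ; decide)

theorem i5_one {a σ z : V} (h1 : M.B a σ = 0) (h2 : M.B σ z = 0) (h3 : M.B a z = 1) :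
    M.t (a + z) * M.t (a + σ + z) * (M.t (a + σ) * M.t a) = M.t z * M.t (z + σ) := by
  have h1' : M.B σ a = 0 := by rw [M.symm]; exact h1
  have h2' : M.B z σ = 0 := by rw [M.symm]; exact h2
  have h3' : M.B z a = 1 := by rw [M.symm]; exact h3
  apply M.ext
  intro x
  simp only [M.mul_apply, M.t_apply, M.addl, M.addr, M.smull, M.alt, h1, h1', h2, h2', h3, h3']
  match_scalars <;>
    (generalize M.B x a = α; generalize M.B x σ = β; generalize M.B x z = γ; revert α β γ; decide)

end Mod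

end Cfsg.Agent.OddHalf.D4.Sp2.Model

end

-- merged: Cfsg.Agent.OddHalf.D4.Sp2.Cases
section

/-!
# D4 for `Sp_2n(2)`: linear algebra lemmas and the cases
-/

set_option autoImplicit false

namespace Cfsg.Agent.OddHalf.D4.Sp2.Model

namespace Mod

variable {K V : Type*} [Group K] [AddCommGroup V] [Module (ZMod 2) V] (M : Mod K V)

/-- `uz + z` is orthogonal to the fixed space of `u` -/
theorem diff_perp {u : K} {z v : V} (hv : M.ρ u v = v) : M.B (M.ρ u z + z) v = 0 := by
  rw [M.addl]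
  have h : M.B (M.ρ u z) v = M.B z v := by
    conv_lhs => rw [← hv]
    exact M.inv u z v
  rw [h]
  generalize M.B z v = c
  revert c
  decide

theorem diff_fixed {u : K} (hu : u * u = 1) (z : V) : M.ρ u (M.ρ u z + z) = M.ρ u z + z := by
  rw [map_add, ← M.mul_apply, hu, M.one_apply, add_comm]

/-- a vector orthogonal to the fixed space of an involution is fixed -/
theorem perp_fixed {u : K} (hu : u * u = 1) {y : V} (h : ∀ v, M.ρ u v = v → M.B y v = 0) : M.ρ u y = y := by
  apply eq_of_add_eq_zero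
  apply M.nondeg
  intro z
  have h1 : M.B (M.ρ u y) z = M.B y (M.ρ u z) := by
    rw [← M.inv u (M.ρ u y) z, ← M.mul_apply, hu, M.one_apply]
  rw [M.addl, h1, ← M.addr]
  exact h _ (M.diff_fixed hu z)

/-- an element trivial on the fixed space of an involution has square one -/
theorem sq_of_fix {u y : K} (hu : u * u = 1) (h : ∀ v, M.ρ u v = v → M.ρ y v = v) : y * y = 1 := by
  apply M.ext
  intro z
  have h1 : ∀ v, M.ρ u v = v → M.B (M.ρ y z + z) v = 0 := fun v hv => M.diff_perp (h v hv)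
  have h2 := h _ (M.perp_fixed hu h1)
  rw [map_add, ← M.mul_apply] at h2
  rw [M.one_apply]
  have h3 : M.ρ (y * y) z = (M.ρ (y * y) z + M.ρ y z) + M.ρ y z := by
    rw [add_assoc, two_self, add_zero]
  rw [h3, h2]
  rw [add_comm (M.ρ y z) z, add_assoc, two_self, add_zero]

/-- an element fixing a hyperplane is a transvection -/
theorem fix_ker {x : K} {q : V → ZMod 2} (hq : ∀ a b, q (a + b) = q a + q b)
    (h : ∀ v, q v = 0 → M.ρ x v = v) : x = 1 ∨ ∃ z, z ≠ 0 ∧ x = M.t z := by
  by_cases h0 : ∀ v, q v = 0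
  · left
    apply M.ext
    intro v
    rw [h v (h0 v), M.one_apply]
  · push Not at h0
    obtain ⟨b, hb⟩ := h0
    have hb1 := z2_ne hb
    have key : ∀ v, q v = 1 → q (v + b) = 0 := by
      intro v hv
      rw [hq, hv, hb1]; decide
    have hx : ∀ v, q v = 1 → M.ρ x v = v + (M.ρ x b + b) := by
      intro v hv
      have h1 := h _ (key v hv)
      rw [map_add] at h1
      calc M.ρ x v = M.ρ x v + (M.ρ x b + M.ρ x b) := by rw [two_self, add_zero]
        _ = (M.ρ x v + M.ρ x b) + M.ρ x b := by abel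
        _ = v + b + M.ρ x b := by rw [h1]
        _ = _ := by abel
    by_cases hz : M.ρ x b + b = 0
    · left
      apply M.ext
      intro v
      rw [M.one_apply]
      rcases z2 (q v) with h1 | h1
      · exact h v h1
      · rw [hx v h1, hz, add_zero]
    · right
      refine ⟨M.ρ x b + b, hz, ?_⟩
      have hzv : ∀ v, q v = 0 → M.B (M.ρ x b + b) v = 0 := fun v hv => M.diff_perp (h v hv)
      have hzb : M.B (M.ρ x b + b) b = 1 := by
        apply z2_ne
        intro h1
        apply hz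
        apply M.nondeg
        intro v
        rcases z2 (q v) with h2 | h2
        · exact hzv v h2
        · have h3 := hzv _ (key v h2)
          rw [M.addr, h1, add_zero] at h3
          exact h3
      apply M.ext
      intro v
      rw [M.t_apply]
      rcases z2 (q v) with h1 | h1
      · rw [h v h1, M.symm, hzv v h1, zero_smul, add_zero]
      · have h3 := hzv _ (key v h1)
        rw [M.addr, hzb] at h3
        have h4 : M.B (M.ρ x b + b) v = 1 := by
          revert h3
          generalize M.B (M.ρ x b + b) v = c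
          revert c
          decide
        rw [hx v h1, M.symm, h4, one_smul]

theorem fix_perp {x : K} {e : V} (h : ∀ v, M.B v e = 0 → M.ρ x v = v) : x = 1 ∨ x = M.t e := by
  rcases M.fix_ker (q := fun v => M.B v e) (fun a b => M.addl a b e) h with h1 | ⟨z, hz, rfl⟩
  · left; exact h1
  · right
    congr 1
    by_contra hne
    obtain ⟨b, h1, h2⟩ := M.sep1 hz hne
    have h3 := h b (by rw [M.symm]; exact h1)
    rw [M.t_move (by rw [M.symm]; exact h2)] at h3
    exact hz (left_eq_add.mp h3.symm)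

theorem tt_ne_t {a b c : V} (ha : a ≠ 0) (hb : b ≠ 0) (hab : a ≠ b) : M.t a * M.t b ≠ M.t c := by
  intro h
  obtain ⟨x, h1, h2⟩ := M.sep1 ha hab
  have h3 : M.ρ (M.t a * M.t b) x = M.ρ (M.t c) x := by rw [h]
  rw [M.mul_apply, M.t_fix (v := x) (w := b) (by rw [M.symm]; exact h1),
    M.t_move (v := x) (w := a) (by rw [M.symm]; exact h2), M.t_apply] at h3
  have h4 := add_left_cancel h3
  rcases z2 (M.B x c) with h5 | h5
  · rw [h5, zero_smul] at h4
    exact ha h4
  · rw [h5, one_smul] at h4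
    rw [← h4] at h
    have h6 : M.t b = 1 := by
      calc M.t b = (M.t a)⁻¹ * (M.t a * M.t b) := by group
        _ = 1 := by rw [h, inv_mul_cancel]
    exact hb (M.t_eq_one h6)

theorem tt_eq_s {v u e f : V} (hef : M.B e f = 0) (h : M.t v * M.t u = M.s e f) : v = u := by
  by_contra hne
  -- the alternating property
  have key : ∀ x, M.B x u * M.B x u + M.B x v * M.B x v + M.B x u * M.B u v * M.B x v = 0 := by
    intro x
    have h1 : M.B (M.ρ (M.s e f) x) x = 0 := by
      rw [M.s_apply hef]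
      simp only [M.addl, M.smull, M.alt]
      rw [M.symm f x, M.symm e x]
      generalize M.B x e = α
      generalize M.B x f = β
      revert α β
      decide
    rw [← h, M.mul_apply] at h1
    simp only [M.t_apply, M.addl, M.smull, M.alt] at h1
    rw [M.symm u x, M.symm v x] at h1
    revert h1
    generalize M.B x u = α
    generalize M.B x v = β
    generalize M.B u v = γ
    revert α β γ
    decide
  by_cases hv : v = 0
  · have hu : u ≠ 0 := fun h' => hne (hv.trans h'.symm)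
    obtain ⟨x, hx⟩ := M.sep0 hu
    have h1 := key x
    rw [M.symm x u, hx, hv, M.zeror, M.zeror] at h1
    revert h1; decide
  · obtain ⟨x, h1, h2⟩ := M.sep1 hv hne
    have h3 := key x
    rw [M.symm x u, h1, M.symm x v, h2] at h3
    revert h3
    generalize M.B u v = γ
    revert γ
    decide

/-! ### Commutator control -/

/-- `[C(w), y] ≤ N` -/
def Ctl (N : Subgroup K) (w y : K) : Prop := ∀ d, d * w = w * d → d * (y * d⁻¹ * y⁻¹) ∈ N

variable {N : Subgroup K} {w y : K}

theorem hash (h : Ctl N w y) {v : V} (hv : M.ρ w v = v) : M.t v * M.t (M.ρ y v) ∈ N := by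
  have h1 := h (M.t v) (M.comm_t.mpr hv).symm
  rwa [M.t_inv, M.conj_t] at h1

theorem conj_tt (g : K) (a b : V) : g * (M.t a * M.t b) * g⁻¹ = M.t (M.ρ g a) * M.t (M.ρ g b) := by
  rw [← M.conj_t, ← M.conj_t]; group

/-- `s(r,b)` commutes with `w` if `b` is fixed and `r` is orthogonal to the fixed space... (the version used: `w`
commutes if both are fixed) -/
theorem comm_s {a r : V} (ha : M.ρ w a = a) (hr : M.ρ w r = r) : M.s a r * w = w * M.s a r := by
  have h := M.conj_s w a r
  rw [ha, hr] at h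
  rw [mul_inv_eq_iff_eq_mul] at h
  exact h.symm

/-- `im(w - 1)` -/
def Im (w : K) : Submodule (ZMod 2) V := LinearMap.range (((M.ρ w : V ≃ₗ[ZMod 2] V) : V →ₗ[ZMod 2] V) + LinearMap.id)

theorem mem_Im {r : V} : r ∈ M.Im w ↔ ∃ z, M.ρ w z + z = r := by
  unfold Im
  rw [LinearMap.mem_range]
  rfl

theorem Im_fixed (hw : w * w = 1) {r : V} (hr : r ∈ M.Im w) : M.ρ w r = r := by
  obtain ⟨z, rfl⟩ := M.mem_Im.mp hr
  exact M.diff_fixed hw z

theorem Im_perp {r v : V} (hr : r ∈ M.Im w) (hv : M.ρ w v = v) : M.B r v = 0 := by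
  obtain ⟨z, rfl⟩ := M.mem_Im.mp hr
  exact M.diff_perp hv

theorem Im_map {y : K} (hyw : y * w = w * y) {r : V} (hr : r ∈ M.Im w) : M.ρ y r ∈ M.Im w := by
  obtain ⟨z, rfl⟩ := M.mem_Im.mp hr
  rw [M.mem_Im]
  refine ⟨M.ρ y z, ?_⟩
  rw [map_add, ← M.mul_apply, ← M.mul_apply, hyw]

theorem fixed_of_perp (hw : w * w = 1) {b : V} (h : ∀ r ∈ M.Im w, M.B r b = 0) : M.ρ w b = b := by
  apply eq_of_add_eq_zero
  apply M.nondeg
  intro z
  have h1 : M.B (M.ρ w b) z = M.B b (M.ρ w z) := by
    rw [← M.inv w (M.ρ w b) z, ← M.mul_apply, hw, M.one_apply]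
  rw [M.addl, h1, ← M.addr, M.symm]
  exact h _ (M.mem_Im.mpr ⟨z, rfl⟩)

theorem map_fixed {y : K} (hyw : y * w = w * y) {v : V} (hv : M.ρ w v = v) : M.ρ w (M.ρ y v) = M.ρ y v := by
  rw [← M.mul_apply, ← hyw, M.mul_apply, hv]

/-- the common step: an element `y` commuting with `w`, `[C(w), y] ≤ N`, moving a fixed vector `v` of `w` outside
`im(w-1)` produces `t_v t_{v+r}` in `N`. -/
theorem step (hww : w * w = 1) (hN : ∀ d, d * w = w * d → ∀ n ∈ N, d * n * d⁻¹ ∈ N) (hyw : y * w = w * y)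
    (hy : Ctl N w y) {r₀ : V} (hr₀ : r₀ ∈ M.Im w) (hr₀0 : r₀ ≠ 0) (hr₀y : M.ρ y r₀ = r₀)
    {v : V} (hv : M.ρ w v = v) (hvE : v ∉ M.Im w) (hmv : M.ρ y v ≠ v) :
    ∃ v' r, M.ρ w v' = v' ∧ v' ∉ M.Im w ∧ r ∈ M.Im w ∧ r ≠ 0 ∧ M.t v' * M.t (v' + r) ∈ N := by
  have hyv : M.ρ w (M.ρ y v) = M.ρ y v := M.map_fixed hyw hv
  have h1 := M.hash hy hv
  have hyvE : M.ρ y v ∉ M.Im w := by
    intro hmem
    have h2 := M.Im_map (y := y⁻¹) (by
      calc y⁻¹ * w = y⁻¹ * (w * y) * y⁻¹ := by group
        _ = y⁻¹ * (y * w) * y⁻¹ := by rw [hyw]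
        _ = w * y⁻¹ := by group) hmem
    rw [M.inv_apply] at h2
    exact hvE h2
  by_cases hd : M.ρ y v + v ∈ M.Im w
  · refine ⟨v, M.ρ y v + v, hv, hvE, hd, fun h2 => hmv (eq_of_add_eq_zero h2), ?_⟩
    have : v + (M.ρ y v + v) = M.ρ y v := by
      rw [add_comm (M.ρ y v) v, ← add_assoc, two_self, zero_add]
    rw [this]
    exact h1
  · rcases z2 (M.B v (M.ρ y v)) with h2 | h2
    · -- orthogonal
      obtain ⟨b, hb1, hb2⟩ := M.sep (M.Im w ⊔ Submodule.span (ZMod 2) {v}) (M.ρ y v) (by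
        intro hmem
        obtain ⟨r, hr, z, hz, hrz⟩ := Submodule.mem_sup.mp hmem
        rcases mem_span1 hz with rfl | rfl
        · rw [add_zero] at hrz
          rw [hrz] at hr
          exact hyvE hr
        · apply hd
          rw [← hrz, add_assoc, two_self, add_zero]
          exact hr)
      have hbE : ∀ r ∈ M.Im w, M.B r b = 0 := fun r hr => hb1 r (Submodule.mem_sup_left hr)
      have hbv : M.B v b = 0 := hb1 v (Submodule.mem_sup_right (Submodule.mem_span_singleton_self v))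
      have hwb : M.ρ w b = b := M.fixed_of_perp hww hbE
      have hrb : M.B r₀ b = 0 := hbE r₀ hr₀
      have hg := hN _ (M.comm_s (a := r₀) (r := b) (M.Im_fixed hww hr₀) hwb) _ h1
      rw [M.conj_tt, M.s_apply hrb, M.s_apply hrb, M.symm v r₀, M.Im_perp hr₀ hv, hbv, M.symm _ r₀,
        M.Im_perp hr₀ hyv, hb2] at hg
      simp only [zero_smul, one_smul, add_zero] at hg
      refine ⟨M.ρ y v, r₀, hyv, hyvE, hr₀, hr₀0, ?_⟩
      have h3 := N.mul_mem (N.inv_mem h1) hg
      have h4 : (M.t v * M.t (M.ρ y v))⁻¹ * (M.t v * M.t (M.ρ y v + r₀)) =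
          M.t (M.ρ y v) * M.t (M.ρ y v + r₀) := by
        rw [mul_inv_rev, M.t_inv, M.t_inv]
        calc _ = M.t (M.ρ y v) * (M.t v * M.t v) * M.t (M.ρ y v + r₀) := by group
          _ = _ := by rw [M.t_mul_self, mul_one]
      rw [h4] at h3
      exact h3
    · refine ⟨v, r₀, hv, hvE, hr₀, hr₀0, ?_⟩
      have hv' : M.ρ w (v + r₀) = v + r₀ := by rw [map_add, hv, M.Im_fixed hww hr₀]
      have h3 := M.hash hy hv'
      rw [map_add, hr₀y] at h3
      have h4 := N.mul_mem (N.inv_mem h1) h3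
      rw [mul_inv_rev, M.t_inv, M.t_inv, M.r2 h2 (by rw [M.symm]; exact M.Im_perp hr₀ hv)
        (by rw [M.symm]; exact M.Im_perp hr₀ hyv)] at h4
      exact h4

/-- consequence of `step` -/
theorem fix_of_no_step (hww : w * w = 1) (hN : ∀ d, d * w = w * d → ∀ n ∈ N, d * n * d⁻¹ ∈ N)
    (hyw : y * w = w * y) (hy : Ctl N w y) {r₀ : V} (hr₀ : r₀ ∈ M.Im w) (hr₀0 : r₀ ≠ 0) (hr₀y : M.ρ y r₀ = r₀)
    (hne : ∃ v, M.ρ w v = v ∧ v ∉ M.Im w)
    (hno : ∀ v' r, M.ρ w v' = v' → v' ∉ M.Im w → r ∈ M.Im w → r ≠ 0 → M.t v' * M.t (v' + r) ∉ N) :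
    ∀ v, M.ρ w v = v → M.ρ y v = v := by
  have key : ∀ v, M.ρ w v = v → v ∉ M.Im w → M.ρ y v = v := by
    intro v hv hvE
    by_contra hmv
    obtain ⟨v', r, h1, h2, h3, h4, h5⟩ := M.step hww hN hyw hy hr₀ hr₀0 hr₀y hv hvE hmv
    exact hno v' r h1 h2 h3 h4 h5
  intro v hv
  by_cases hvE : v ∈ M.Im w
  · obtain ⟨u, hu, huE⟩ := hne
    have h1 := key u hu huE
    have h2 := key (u + v) (by rw [map_add, hu, hv]) (fun h => huE (by
      have := (M.Im w).add_mem h hvE
      rwa [add_assoc, two_self, add_zero] at this))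
    rw [map_add, h1] at h2
    exact add_left_cancel h2
  · exact key v hv hvE

/-- **the orbit argument**: `t_a t_{a+r} ∈ N` gives `t_r ∈ N` -/
theorem orbit (hww : w * w = 1) (hN : ∀ d, d * w = w * d → ∀ n ∈ N, d * n * d⁻¹ ∈ N) {a r : V}
    (ha : M.ρ w a = a) (haE : a ∉ M.Im w) (hr : r ∈ M.Im w) (h : M.t a * M.t (a + r) ∈ N)
    (hb : ∃ b, M.ρ w b = b ∧ M.B a b = 0 ∧ b ∉ M.Im w ⊔ Submodule.span (ZMod 2) {a}) : M.t r ∈ N := by
  -- one step
  have st : ∀ x c, M.ρ w x = x → M.ρ w c = c → M.B x c = 1 → M.t x * M.t (x + r) ∈ N →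
      M.t (x + c) * M.t (x + c + r) ∈ N := by
    intro x c hx hc hxc hmem
    have h1 := hN (M.t c) (M.comm_t.mpr hc).symm _ hmem
    rw [M.conj_tt, map_add, M.t_move hxc, M.t_fix (M.Im_perp hr hc)] at h1
    exact h1
  -- two steps
  have st2 : ∀ b, M.ρ w b = b → M.B a b = 0 → a ∉ M.Im w ⊔ Submodule.span (ZMod 2) {a + b} →
      M.t b * M.t (b + r) ∈ N := by
    intro b hwb hab hnot
    obtain ⟨c, hc1, hc2⟩ := M.sep _ a hnot
    have hcE : ∀ r ∈ M.Im w, M.B r c = 0 := fun r hr => hc1 r (Submodule.mem_sup_left hr)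
    have hcab : M.B (a + b) c = 0 := hc1 _ (Submodule.mem_sup_right (Submodule.mem_span_singleton_self _))
    have hwc : M.ρ w c = c := M.fixed_of_perp hww hcE
    have hbc : M.B b c = 1 := by
      rw [M.addl, hc2] at hcab
      revert hcab
      generalize M.B b c = γ
      revert γ
      decide
    have h1 := st a c ha hwc hc2 h
    have h2 := st (a + c) (a + b + c) (by rw [map_add, ha, hwc]) (by rw [map_add, map_add, ha, hwb, hwc])
      (by
        simp only [M.addl, M.addr, M.alt]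
        rw [M.symm c a, M.symm c b, hab, hc2, hbc]
        decide) h1
    have h3 : a + c + (a + b + c) = b := by
      calc a + c + (a + b + c) = (a + a) + (c + c) + b := by abel
        _ = b := by rw [two_self, two_self, zero_add, zero_add]
    rwa [h3] at h2
  obtain ⟨b, hwb, hab, hbE⟩ := hb
  have mem : ∀ {x z : V}, x ∈ M.Im w ⊔ Submodule.span (ZMod 2) {z} → x ∈ M.Im w ∨ x + z ∈ M.Im w := by
    intro x z hmem
    obtain ⟨r, hr, z', hz, hrz⟩ := Submodule.mem_sup.mp hmem
    rcases mem_span1 hz with rfl | rfl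
    · left
      rw [add_zero] at hrz
      rwa [hrz] at hr
    · right
      rw [← hrz, add_assoc, two_self, add_zero]
      exact hr
  have hb1 := st2 b hwb hab (by
    intro hmem
    rcases mem hmem with h1 | h1
    · exact haE h1
    · rw [← add_assoc, two_self, zero_add] at h1
      exact hbE (Submodule.mem_sup_left h1))
  have hb2 := st2 (a + b) (by rw [map_add, ha, hwb]) (by rw [M.addr, M.alt, hab, add_zero]) (by
    intro hmem
    rcases mem hmem with h1 | h1
    · exact haE h1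
    · rw [← add_assoc, ← add_assoc, two_self, zero_add] at h1
      apply hbE
      have h2 : b = (a + b) + a := by
        rw [add_comm a b, add_assoc, two_self, add_zero]
      rw [h2]
      exact Submodule.add_mem _ (Submodule.mem_sup_left h1)
        (Submodule.mem_sup_right (Submodule.mem_span_singleton_self _)))
  have h1 := N.mul_mem h hb1
  rw [M.r1 hab (by rw [M.symm]; exact M.Im_perp hr ha) (by rw [M.symm]; exact M.Im_perp hr hwb)] at h1
  have hcomm : M.t (a + b) * M.t r = M.t r * M.t (a + b) := M.t_comm (by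
    rw [M.symm, M.addr, M.Im_perp hr ha, M.Im_perp hr hwb, add_zero])
  rw [hcomm, mul_assoc] at h1
  have h2 := N.mul_mem h1 (N.inv_mem hb2)
  rwa [mul_inv_cancel_right] at h2

/-! ### The 8 elements trivial on `{e,f}^⊥` -/

theorem fix_two_perp {e f : V} (hef : M.B e f = 0) (he : e ≠ 0) (hf : f ≠ 0) (hne : e ≠ f) {x : K}
    (h : ∀ v, M.B v e = 0 → M.B v f = 0 → M.ρ x v = v) :
    x = 1 ∨ x = M.t e ∨ x = M.t f ∨ x = M.t (e + f) ∨ x = M.t e * M.t f ∨ x = M.t e * M.t (e + f) ∨
      x = M.t f * M.t (e + f) ∨ x = M.s e f := by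
  have hfe : M.B f e = 0 := by rw [M.symm]; exact hef
  obtain ⟨b, hfb, heb⟩ := M.sep1 he hne
  obtain ⟨c, hec, hfc⟩ := M.sep1 hf (Ne.symm hne)
  -- the images of `b` and `c`
  have im : ∀ z, ∃ α β : ZMod 2, M.ρ x z + z = α • e + β • f := by
    intro z
    have h1 : ∀ v, M.B v e = 0 → M.B v f = 0 → M.B (M.ρ x z + z) v = 0 := fun v h1 h2 => M.diff_perp (h v h1 h2)
    by_contra hcon
    push Not at hcon
    obtain ⟨v, h2, h3, h4⟩ := M.sep2 (x := M.ρ x z + z) (u := e) (v := f)
      (by have := hcon 0 0; rwa [zero_smul, zero_smul, add_zero] at this)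
      (by have := hcon 1 0; rwa [one_smul, zero_smul, add_zero] at this)
      (by have := hcon 0 1; rwa [zero_smul, one_smul, zero_add] at this)
      (by have := hcon 1 1; rwa [one_smul, one_smul] at this)
    rw [h1 v (by rw [M.symm]; exact h2) (by rw [M.symm]; exact h3)] at h4
    exact absurd h4 (by decide)
  obtain ⟨α, β, hb⟩ := im b
  obtain ⟨γ, δ, hc⟩ := im c
  have hb' : M.ρ x b = b + (α • e + β • f) := by
    rw [← hb, add_comm (M.ρ x b) b, ← add_assoc, two_self, zero_add]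
  have hc' : M.ρ x c = c + (γ • e + δ • f) := by
    rw [← hc, add_comm (M.ρ x c) c, ← add_assoc, two_self, zero_add]
  have hβγ : β = γ := by
    have h1 := M.inv x b c
    rw [hb', hc'] at h1
    simp only [M.addl, M.addr, M.smull, M.smulr, M.alt, hef, hfe, hec, hfc] at h1
    rw [M.symm b e, heb, M.symm b f, hfb] at h1
    clear hb hc hb' hc'
    revert h1
    generalize M.B b c = κ
    revert α β γ δ κ
    decide
  subst hβγ
  have hx : ∀ v, M.ρ x v = v + (M.B v e • (α • e + β • f) + M.B v f • (β • e + δ • f)) := by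
    intro v
    have h1 := h (v + (M.B v e • b + M.B v f • c)) (by
      simp only [M.addl, M.smull]
      rw [M.symm b e, heb, M.symm c e, hec]
      generalize M.B v e = κ
      generalize M.B v f = μ
      revert κ μ; decide) (by
      simp only [M.addl, M.smull]
      rw [M.symm b f, hfb, M.symm c f, hfc]
      generalize M.B v e = κ
      generalize M.B v f = μ
      revert κ μ; decide)
    rw [map_add, map_add, map_smul, map_smul, hb', hc'] at h1
    have h2 := congrArg (fun z => z + (M.B v e • (b + (α • e + β • f)) + M.B v f • (c + (β • e + δ • f)))) h1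
    simp only [add_assoc, two_self, add_zero] at h2
    rw [h2]
    clear hb hc hb' hc' h1 h2
    match_scalars <;> (generalize M.B v e = κ; generalize M.B v f = μ; revert κ μ α β δ; decide)
  have fin : ∀ y : K, (∀ v, M.ρ y v = v + (M.B v e • (α • e + β • f) + M.B v f • (β • e + δ • f))) → x = y :=
    fun y hy => M.ext fun v => by rw [hx v, hy v]
  rcases z2 α with rfl | rfl <;> rcases z2 β with rfl | rfl <;> rcases z2 δ with rfl | rfl
  · left
    apply fin; intro v; rw [M.one_apply]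
    match_scalars <;> (generalize M.B v e = κ; generalize M.B v f = μ; revert κ μ; decide)
  · right; right; left
    apply fin; intro v; simp only [M.t_apply]
    match_scalars <;> (generalize M.B v e = κ; generalize M.B v f = μ; revert κ μ; decide)
  · iterate 7 right
    apply fin; intro v; rw [M.s_apply hef]
    match_scalars <;> (generalize M.B v e = κ; generalize M.B v f = μ; revert κ μ; decide)
  · iterate 5 right
    left
    apply fin; intro v
    simp only [M.mul_apply, M.t_apply, M.addl, M.addr, M.smull, M.alt, hef, hfe]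
    match_scalars <;> (generalize M.B v e = κ; generalize M.B v f = μ; revert κ μ; decide)
  · right; left
    apply fin; intro v; simp only [M.t_apply]
    match_scalars <;> (generalize M.B v e = κ; generalize M.B v f = μ; revert κ μ; decide)
  · iterate 4 right
    left
    apply fin; intro v
    simp only [M.mul_apply, M.t_apply, M.addl, M.addr, M.smull, M.alt, hef, hfe]
    match_scalars <;> (generalize M.B v e = κ; generalize M.B v f = μ; revert κ μ; decide)
  · iterate 6 right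
    left
    apply fin; intro v
    simp only [M.mul_apply, M.t_apply, M.addl, M.addr, M.smull, M.alt, hef, hfe]
    match_scalars <;> (generalize M.B v e = κ; generalize M.B v f = μ; revert κ μ; decide)
  · iterate 3 right
    left
    apply fin; intro v
    simp only [M.t_apply, M.addr]
    match_scalars <;> (generalize M.B v e = κ; generalize M.B v f = μ; revert κ μ; decide)

/-! ### The generic lemma -/

/-- no product of two commuting transvections in `N`: `y` is trivial on the fixed space of `w` -/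
theorem gen_fix (hww : w * w = 1) (hw1 : w ≠ 1) (hTT : ∀ a b, M.B a b = 0 → M.t a * M.t b ∈ N → a = b)
    (hyw : y * w = w * y) (hy : Ctl N w y) : ∀ v, M.ρ w v = v → M.ρ y v = v := by
  -- a nonzero vector of `im (w - 1)`
  obtain ⟨z, hz⟩ : ∃ z, M.ρ w z ≠ z := by
    by_contra hcon
    push Not at hcon
    exact hw1 (M.ext fun v => by rw [hcon v, M.one_apply])
  have hr : M.ρ w z + z ∈ M.Im w := M.mem_Im.mpr ⟨z, rfl⟩
  have hr0 : M.ρ w z + z ≠ 0 := fun h => hz (eq_of_add_eq_zero h)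
  set r := M.ρ w z + z with hrdef
  have hwr := M.Im_fixed hww hr
  have hyr : M.ρ y r = r := by
    have h1 := M.hash hy hwr
    have h2 := M.Im_perp (M.Im_map hyw hr) hwr
    exact (hTT _ _ (by rw [M.symm]; exact h2) h1).symm
  intro v hv
  have h1 := M.hash hy hv
  rcases z2 (M.B v (M.ρ y v)) with h2 | h2
  · exact (hTT _ _ h2 h1).symm
  · exfalso
    have hv' : M.ρ w (v + r) = v + r := by rw [map_add, hv, hwr]
    have h3 := M.hash hy hv'
    rw [map_add, hyr] at h3
    have h4 := N.mul_mem (N.inv_mem h1) h3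
    have hvr : M.B v r = 0 := by rw [M.symm]; exact M.Im_perp hr hv
    rw [mul_inv_rev, M.t_inv, M.t_inv, M.r2 h2 hvr
      (by rw [M.symm]; exact M.Im_perp hr (M.map_fixed hyw hv))] at h4
    have h5 := hTT _ _ (by rw [M.addr, M.alt, hvr, add_zero]) h4
    exact hr0 (left_eq_add.mp h5)

theorem gen_four (hww : w * w = 1) (hw1 : w ≠ 1) (hTT : ∀ a b, M.B a b = 0 → M.t a * M.t b ∈ N → a = b)
    (hS : ∀ a b, M.B a b = 0 → M.s a b ∈ N → a = 0 ∨ b = 0 ∨ a = b)
    (hyw : y * w = w * y) (hy : Ctl N w y) :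
    y = 1 ∨ y = w ∨ ∃ z, z ≠ 0 ∧ (y = M.t z ∨ y = w * M.t z) := by
  have hfix := M.gen_fix hww hw1 hTT hyw hy
  have hwinv : ∀ a, M.ρ w (M.ρ w a) = a := fun a => by rw [← M.mul_apply, hww, M.one_apply]
  -- the hyperplane
  have main : ∀ a, M.B a (M.ρ w a) = 0 → M.ρ y a = a ∨ M.ρ y a = M.ρ w a := by
    intro a ha
    have hσ : M.ρ w a + a ∈ M.Im w := M.mem_Im.mpr ⟨a, rfl⟩
    set σ := M.ρ w a + a with hσdef
    have hwa : M.ρ w a = a + σ := by
      rw [hσdef, add_comm (M.ρ w a) a, ← add_assoc, two_self, zero_add]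
    by_cases hσ0 : σ = 0
    · left
      apply hfix
      rw [hwa, hσ0, add_zero]
    -- `z = ya + a`
    have hzp : ∀ v, M.ρ w v = v → M.B (M.ρ y a + a) v = 0 := fun v hv => M.diff_perp (hfix v hv)
    have hzfix : M.ρ w (M.ρ y a + a) = M.ρ y a + a := M.perp_fixed hww hzp
    set z := M.ρ y a + a with hzdef
    have hya : M.ρ y a = a + z := by
      rw [hzdef, add_comm (M.ρ y a) a, ← add_assoc, two_self, zero_add]
    have hyσ : M.ρ y σ = σ := hfix _ (M.Im_fixed hww hσ)
    have haσ : M.B a σ = 0 := by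
      have h1 := M.addr a (M.ρ w a) a
      rw [ha, M.alt, add_zero] at h1
      exact h1
    have hσz : M.B σ z = 0 := M.Im_perp hσ hzfix
    -- `g = t_a t_{wa}` commutes with `w`
    have hg : M.t a * M.t (M.ρ w a) * w = w * (M.t a * M.t (M.ρ w a)) := by
      have h1 := M.conj_tt w a (M.ρ w a)
      rw [hwinv] at h1
      rw [M.t_comm ha]
      rw [M.t_comm ha] at h1
      have h2 : w * (M.t (M.ρ w a) * M.t a) = (M.t (M.ρ w a) * M.t a) * w := by
        rw [← mul_inv_eq_iff_eq_mul, h1, ← M.t_comm ha]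
      exact h2.symm
    have h1 := hy _ hg
    have h2 : y * (M.t a * M.t (M.ρ w a))⁻¹ * y⁻¹ = M.t (a + σ + z) * M.t (a + z) := by
      rw [mul_inv_rev, M.t_inv, M.t_inv, M.conj_tt, hya, hwa, map_add, hya, hyσ]
      congr 2
      abel
    rw [h2] at h1
    have h3 := N.inv_mem h1
    have h4 : (M.t a * M.t (M.ρ w a) * (M.t (a + σ + z) * M.t (a + z)))⁻¹ =
        M.t (a + z) * M.t (a + σ + z) * (M.t (a + σ) * M.t a) := by
      rw [hwa]
      simp only [mul_inv_rev, M.t_inv]
    rw [h4] at h3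
    rcases z2 (M.B a z) with h5 | h5
    · rw [M.i5_zero haσ hσz h5] at h3
      rcases hS _ _ hσz h3 with h6 | h6 | h6
      · exact absurd h6 hσ0
      · left
        rw [hya, h6, add_zero]
      · right
        rw [hya, hwa, h6]
    · rw [M.i5_one haσ hσz h5] at h3
      have h6 := hTT _ _ (by rw [M.addr, M.alt, zero_add, M.symm]; exact hσz) h3
      exact absurd (left_eq_add.mp h6) hσ0
  have hq : ∀ a b, M.B (a + b) (M.ρ w (a + b)) = M.B a (M.ρ w a) + M.B b (M.ρ w b) := by
    intro a b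
    rw [map_add, M.addl, M.addr, M.addr]
    have h1 : M.B b (M.ρ w a) = M.B a (M.ρ w b) := by
      rw [← M.inv w b (M.ρ w a), hwinv, M.symm]
    rw [h1]
    generalize M.B a (M.ρ w b) = κ
    generalize M.B a (M.ρ w a) = μ
    generalize M.B b (M.ρ w b) = ν
    revert κ μ ν
    decide
  have split : (∀ a, M.B a (M.ρ w a) = 0 → M.ρ y a = a) ∨
      (∀ a, M.B a (M.ρ w a) = 0 → M.ρ y a = M.ρ w a) := by
    by_contra hcon
    push Not at hcon
    obtain ⟨⟨a, ha, ha'⟩, b, hb, hb'⟩ := hcon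
    have h1 := (main a ha).resolve_left ha'
    have h2 := (main b hb).resolve_right hb'
    have h3 : M.B (a + b) (M.ρ w (a + b)) = 0 := by rw [hq, ha, hb, add_zero]
    rcases main _ h3 with h4 | h4
    · rw [map_add, h2] at h4
      exact ha' (add_right_cancel h4)
    · rw [map_add, map_add, h1] at h4
      exact hb' (add_left_cancel h4)
  rcases split with h | h
  · rcases M.fix_ker (x := y) (q := fun a => M.B a (M.ρ w a)) hq h with h1 | ⟨z, hz, h1⟩
    · left; exact h1
    · right; right; exact ⟨z, hz, Or.inl h1⟩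
  · have h' : ∀ a, M.B a (M.ρ w a) = 0 → M.ρ (w * y) a = a := by
      intro a ha
      rw [M.mul_apply, h a ha, hwinv]
    have hcalc : y = w * (w * y) := by rw [← mul_assoc, hww, one_mul]
    rcases M.fix_ker (x := w * y) (q := fun a => M.B a (M.ρ w a)) hq h' with h1 | ⟨z, hz, h1⟩
    · right; left
      rw [hcalc, h1, mul_one]
    · right; right
      exact ⟨z, hz, Or.inr (by rw [hcalc, h1])⟩

end Mod

end Cfsg.Agent.OddHalf.D4.Sp2.Model

end

private theorem dce_ace34c6930e6 : _root_.True := by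
  try have : _root_.True := by simp only [_root_.Cfsg.Agent.OddHalf.D4.Sp2.Model.Mod.s.eq_1]
  exact _root_.True.intro
end

-- part: OddHalf/D4/Sp2/Inst
section
set_option linter.all false
open scoped Cfsg.Agent.FastGrp

/-!
# D4 for `Sp_2n(2)`: the concrete model
-/

set_option autoImplicit false

open Cfsg
open scoped Matrix

namespace Cfsg.Agent.OddHalf.D4.Sp2.Inst

open Cfsg.Agent.OddHalf.D4.Sp2.Model Cfsg.Agent.ClassicalGeometry.SympBasic

/-- `Sp_2m(2)` -/
abbrev X (m : ℕ) := Matrix.symplecticGroup (Fin m) (ZMod 2)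

/-- the space -/
abbrev W (m : ℕ) := Fin m ⊕ Fin m → ZMod 2

variable {m : ℕ}

/-- the action of a matrix -/
def act (A : X m) : W m ≃ₗ[ZMod 2] W m where
  toFun v := (A : Matrix (Fin m ⊕ Fin m) (Fin m ⊕ Fin m) (ZMod 2)) *ᵥ v
  invFun v := ((A⁻¹ : X m) : Matrix (Fin m ⊕ Fin m) (Fin m ⊕ Fin m) (ZMod 2)) *ᵥ v
  map_add' := Matrix.mulVec_add _
  map_smul' c v := by rw [Matrix.mulVec_smul]; rfl
  left_inv v := by
    show ((A⁻¹ : X m) : Matrix (Fin m ⊕ Fin m) (Fin m ⊕ Fin m) (ZMod 2)) *ᵥ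
      ((A : Matrix (Fin m ⊕ Fin m) (Fin m ⊕ Fin m) (ZMod 2)) *ᵥ v) = v
    rw [← coe_mul_mulVec, inv_mul_cancel]
    simp
  right_inv v := by
    show (A : Matrix (Fin m ⊕ Fin m) (Fin m ⊕ Fin m) (ZMod 2)) *ᵥ
      (((A⁻¹ : X m) : Matrix (Fin m ⊕ Fin m) (Fin m ⊕ Fin m) (ZMod 2)) *ᵥ v) = v
    rw [← coe_mul_mulVec, mul_inv_cancel]
    simp

theorem act_apply (A : X m) (v : W m) : act A v = (A : Matrix (Fin m ⊕ Fin m) (Fin m ⊕ Fin m) (ZMod 2)) *ᵥ v := rfl

theorem sep (U : Submodule (ZMod 2) (W m)) (x : W m) (hx : x ∉ U) :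
    ∃ b, (∀ u ∈ U, sympForm m (ZMod 2) u b = 0) ∧ sympForm m (ZMod 2) x b = 1 := by
  have h1 := LinearMap.BilinForm.orthogonal_orthogonal (B := sympBilin m (ZMod 2)) sympBilin_nondegenerate
    (sympBilin_isAlt (m := m) (F := ZMod 2)).isRefl U
  have h2 : x ∉ LinearMap.BilinForm.orthogonal (sympBilin m (ZMod 2))
      (LinearMap.BilinForm.orthogonal (sympBilin m (ZMod 2)) U) := by rw [h1]; exact hx
  rw [LinearMap.BilinForm.mem_orthogonal_iff] at h2
  push Not at h2
  obtain ⟨b, hb, hbx⟩ := h2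
  rw [LinearMap.BilinForm.mem_orthogonal_iff] at hb
  refine ⟨b, fun u hu => hb u hu, ?_⟩
  apply z2_ne
  intro h
  apply hbx
  show sympForm m (ZMod 2) b x = 0
  rw [sympForm_swap, h, neg_zero]

/-- the model -/
def modX (m : ℕ) : Mod (X m) (W m) where
  ρ :=
    { toFun := act
      map_one' := by
        apply LinearEquiv.ext
        intro v
        rw [act_apply]
        simp
      map_mul' := by
        intro A B
        apply LinearEquiv.ext
        intro v
        rw [act_apply, coe_mul_mulVec]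
        rfl }
  inj := by
    intro A B h
    apply Subtype.ext
    rw [← Matrix.mulVec_injective.eq_iff]
    funext v
    have h1 : act A v = act B v := congrArg (fun f : W m ≃ₗ[ZMod 2] W m => f v) h
    exact h1
  B := sympForm m (ZMod 2)
  addl := sympForm_add_left
  symm := by
    intro x y
    rw [sympForm_swap]
    generalize sympForm m (ZMod 2) y x = c
    revert c
    decide
  alt := sympForm_self
  inv := by
    intro k x y
    exact sympForm_mulVec k.2 x y
  sep := sep
  t v := transv v 1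
  t_apply := by
    intro v x
    show act (transv v 1) x = _
    rw [act_apply, coe_transv, sympTransvection_mulVec, one_mul]
  gen := by
    have h1 := Cfsg.Agent.S0765.result (F := ZMod 2) m
    rw [eq_top_iff, ← h1, Subgroup.closure_le]
    rintro A ⟨w, c, hA⟩
    rcases z2 c with rfl | rfl
    · have : A = 1 := by
        apply Subtype.ext
        rw [hA, sympTransvection_zero]
        rfl
      rw [this]
      exact one_mem _
    · apply Subgroup.subset_closure
      exact ⟨w, Subtype.ext (by rw [coe_transv, hA])⟩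

theorem big (hm : 4 ≤ m) (a b c : W m) : ∃ x, (modX m).B x a = 0 ∧ (modX m).B x b = 0 ∧ (modX m).B x c = 0 ∧
    x ∉ Submodule.span (ZMod 2) {a, b, c} := by
  classical
  by_contra hcon
  push Not at hcon
  -- the kernel of `x ↦ (B x a, B x b, B x c)`
  let f : W m →ₗ[ZMod 2] (Fin 3 → ZMod 2) :=
    { toFun := fun x => ![sympForm m (ZMod 2) x a, sympForm m (ZMod 2) x b, sympForm m (ZMod 2) x c]
      map_add' := by
        intro x y
        ext i
        fin_cases i <;> simp [sympForm_add_left]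
      map_smul' := by
        intro r x
        ext i
        fin_cases i <;> simp [sympForm_smul_left] }
  have hker : LinearMap.ker f ≤ Submodule.span (ZMod 2) {a, b, c} := by
    intro x hx
    rw [LinearMap.mem_ker] at hx
    have h1 := congrFun hx 0
    have h2 := congrFun hx 1
    have h3 := congrFun hx 2
    exact hcon x h1 h2 h3
  have h1 := LinearMap.finrank_range_add_finrank_ker f
  have h2 : Module.finrank (ZMod 2) (W m) = m + m := by
    rw [Module.finrank_fintype_fun_eq_card, Fintype.card_sum, Fintype.card_fin]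
  have h3 : Module.finrank (ZMod 2) (LinearMap.range f) ≤ 3 := by
    have := Submodule.finrank_le (LinearMap.range f)
    rwa [Module.finrank_fintype_fun_eq_card, Fintype.card_fin] at this
  have h4 : Module.finrank (ZMod 2) (LinearMap.ker f) ≤ 3 := by
    refine (Submodule.finrank_mono hker).trans ?_
    refine (finrank_span_le_card _).trans ?_
    rw [Set.toFinset_card]
    have : Fintype.card ({a, b, c} : Set (W m)) ≤ 3 := by
      rw [← Nat.card_eq_fintype_card, Nat.card_coe_set_eq]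
      refine (Set.ncard_insert_le _ _).trans ?_
      have h5 := Set.ncard_insert_le b ({c} : Set (W m))
      rw [Set.ncard_singleton] at h5
      omega
    exact this
  omega

/-- transport of a model -/
def congr {K K' V : Type*} [Group K] [Group K'] [AddCommGroup V] [Module (ZMod 2) V] (M : Mod K V)
    (e : K' ≃* K) : Mod K' V where
  ρ := M.ρ.comp e.toMonoidHom
  inj := M.inj.comp e.injective
  B := M.B
  addl := M.addl
  symm := M.symm
  alt := M.alt
  inv k x y := M.inv (e k) x y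
  sep := M.sep
  t v := e.symm (M.t v)
  t_apply := by
    intro v x
    show M.ρ (e (e.symm (M.t v))) x = _
    rw [e.apply_symm_apply, M.t_apply]
  gen := by
    have h1 : Set.range (fun v => e.symm (M.t v)) = e.symm.toMonoidHom '' Set.range M.t := by
      ext x
      simp
    rw [h1, ← MonoidHom.map_closure, M.gen, ← MonoidHom.range_eq_map, MonoidHom.range_eq_top]
    exact e.symm.surjective

/-! ### Automorphisms -/

theorem center_eq_bot (hm : 1 ≤ m) : Subgroup.center (X m) = ⊥ := by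
  rw [Subgroup.eq_bot_iff_card, Cfsg.Agent.LieClassical.SympCenter.card_center hm, ZMod.card]
  norm_num

theorem exists_equiv₀ (hm : 1 ≤ m) : Nonempty (Cfsg.PSp m (ZMod 2) ≃* X m) :=
  ⟨(QuotientGroup.quotientMulEquivOfEq (center_eq_bot hm)).trans QuotientGroup.quotientBot⟩

theorem exists_equiv (hm : 1 ≤ m) {F : Type*} [Field F] [Fintype F] (hF : Fintype.card F = 2) :
    Nonempty (Cfsg.PSp m F ≃* X m) := by
  have h : Fintype.card F = Fintype.card (ZMod 2) := by rw [hF, ZMod.card]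
  obtain ⟨e'⟩ := exists_equiv₀ hm
  exact ⟨(Cfsg.Agent.LieClassical.FieldTransfer.pspCongr m (FiniteField.ringEquivOfCardEq h)).trans e'⟩

theorem card_mulAut (hm : 3 ≤ m) : Nat.card (MulAut (X m)) = Nat.card (X m) := by
  obtain ⟨e⟩ := exists_equiv₀ (m := m) (by omega)
  have h := Cfsg.Agent.S0814.result (F := ZMod 2) 2 1 le_rfl (by rw [ZMod.card, pow_one]) m (by omega)
    (fun h => absurd h (by omega))
  rw [if_neg (by omega), Nat.card_congr e.toEquiv] at h
  rw [← Nat.card_congr (MulAut.congr e).toEquiv, h]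
  norm_num

theorem inner (hm : 3 ≤ m) (α : MulAut (X m)) : ∃ x, α = MulAut.conj x := by
  have hinj : Function.Injective (MulAut.conj : X m →* MulAut (X m)) := by
    rw [← MonoidHom.ker_eq_bot_iff, eq_bot_iff, ← center_eq_bot (m := m) (by omega)]
    intro x hx
    rw [Subgroup.mem_center_iff]
    intro g
    have h : x * g * x⁻¹ = g := by
      rw [← MulAut.conj_apply, MonoidHom.mem_ker.1 hx]
      rfl
    rw [mul_inv_eq_iff_eq_mul] at h
    exact h.symm
  have hfin : Finite (MulAut (X m)) := inferInstance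
  have hbij : Function.Bijective (MulAut.conj : X m →* MulAut (X m)) :=
    (Nat.bijective_iff_injective_and_card _).2 ⟨hinj, (card_mulAut hm).symm⟩
  obtain ⟨x, hx⟩ := hbij.2 α
  exact ⟨x, hx.symm⟩

theorem inner_of_equiv (hm : 3 ≤ m) {Q : Type*} [Group Q] (e : Q ≃* X m) (α : MulAut Q) :
    ∃ x, α = MulAut.conj x := by
  obtain ⟨y, hy⟩ := inner hm (MulAut.congr e α)
  refine ⟨e.symm y, ?_⟩
  ext q
  have h := DFunLike.congr_fun hy (e q)
  simp only [MulAut.congr_apply, MulEquiv.trans_apply, MulEquiv.symm_apply_apply, MulAut.conj_apply] at h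
  apply e.injective
  rw [h]
  simp

end Cfsg.Agent.OddHalf.D4.Sp2.Inst
end

-- part: OddHalf/D9/LemmaW
section
set_option linter.all false
open scoped Cfsg.Agent.FastGrp

/-!
# LEMMA W

A four-group `Z` which is TI and contains in its normaliser the centralisers of its
involutions: either `Z` is weakly closed in the centraliser of each of its involutions
(so that S1179 applies), or `Z` commutes with a conjugate `U ≠ Z`, and then every subgroup
normalised by ... satisfies `C_K(u) ≤ N_K(U)` for all `u ∈ U#`.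
-/

set_option autoImplicit false
open Cfsg

namespace Cfsg.Agent.OddHalf.D9.LemmaW

universe u

/-- A TI four-group containing in its normaliser the centralisers of its involutions. -/
structure Four {G : Type*} [Group G] (Z : Subgroup G) : Prop where
  el : ∀ x ∈ Z, x * x = 1
  card : Nat.card Z = 4
  cent : ∀ x ∈ Z, x ≠ 1 → Subgroup.centralizer ({x} : Set G) ≤ Subgroup.normalizer (Z : Set G)
  ti : ∀ g : G, ∀ x ∈ Z, x ≠ 1 → g * x * g⁻¹ ∈ Z → g ∈ Subgroup.normalizer (Z : Set G)

variable {G : Type*} [Group G]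

theorem mem_conj {Z : Subgroup G} {g x : G} :
    x ∈ Z.map (MulAut.conj g).toMonoidHom ↔ ∃ z ∈ Z, g * z * g⁻¹ = x := by
  simp [Subgroup.mem_map, MulAut.conj_apply]

theorem conj_eq_of_mem_normalizer {Z : Subgroup G} {g : G}
    (h : g ∈ Subgroup.normalizer (Z : Set G)) : Z.map (MulAut.conj g).toMonoidHom = Z := by
  ext x
  rw [mem_conj]
  rw [Subgroup.mem_normalizer_iff] at h
  constructor
  · rintro ⟨z, hz, rfl⟩
    exact (h z).mp hz
  · intro hx
    refine ⟨g⁻¹ * x * g, ?_, by group⟩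
    rw [h]
    have : g * (g⁻¹ * x * g) * g⁻¹ = x := by group
    rwa [this]

namespace Four

variable {Z : Subgroup G}

/-- `Four` is invariant under conjugation. -/
theorem conj (h : Four Z) (g : G) : Four (Z.map (MulAut.conj g).toMonoidHom) := by
  have hn : ∀ n : G, g⁻¹ * n * g ∈ Subgroup.normalizer (Z : Set G) →
      n ∈ Subgroup.normalizer ((Z.map (MulAut.conj g).toMonoidHom : Subgroup G) : Set G) := by
    intro n hn
    rw [Subgroup.mem_normalizer_iff] at hn ⊢
    have key : ∀ y : G, y ∈ Z.map (MulAut.conj g).toMonoidHom ↔ g⁻¹ * y * g ∈ Z := by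
      intro y
      rw [mem_conj]
      constructor
      · rintro ⟨z, hz, rfl⟩
        have : g⁻¹ * (g * z * g⁻¹) * g = z := by group
        rwa [this]
      · intro hy
        exact ⟨_, hy, by group⟩
    intro y
    show y ∈ Z.map (MulAut.conj g).toMonoidHom ↔ n * y * n⁻¹ ∈ Z.map (MulAut.conj g).toMonoidHom
    rw [key, key, hn]
    have : g⁻¹ * n * g * (g⁻¹ * y * g) * (g⁻¹ * n * g)⁻¹ = g⁻¹ * (n * y * n⁻¹) * g := by group
    rw [this]
  refine ⟨?_, ?_, ?_, ?_⟩
  · intro x hx
    obtain ⟨z, hz, rfl⟩ := mem_conj.mp hx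
    have := h.el z hz
    have h2 : g * z * g⁻¹ * (g * z * g⁻¹) = g * (z * z) * g⁻¹ := by group
    rw [h2, this]; group
  · rw [← h.card]
    exact Subgroup.card_map_of_injective (MulAut.conj g).injective
  · intro x hx hx1 c hc
    obtain ⟨z, hz, rfl⟩ := mem_conj.mp hx
    apply hn
    apply h.cent z hz (by rintro rfl; apply hx1; group)
    rw [Subgroup.mem_centralizer_singleton_iff] at hc ⊢
    have h1 : c * (g * z * g⁻¹) = g * z * g⁻¹ * c := hc
    calc g⁻¹ * c * g * z = g⁻¹ * (c * (g * z * g⁻¹)) * g := by group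
      _ = g⁻¹ * (g * z * g⁻¹ * c) * g := by rw [h1]
      _ = z * (g⁻¹ * c * g) := by group
  · intro c x hx hx1 hcx
    obtain ⟨z, hz, rfl⟩ := mem_conj.mp hx
    obtain ⟨z', hz', h'⟩ := mem_conj.mp hcx
    apply hn
    apply h.ti _ z hz (by rintro rfl; apply hx1; group)
    have : g⁻¹ * c * g * z * (g⁻¹ * c * g)⁻¹ = z' := by
      calc g⁻¹ * c * g * z * (g⁻¹ * c * g)⁻¹ = g⁻¹ * (c * (g * z * g⁻¹) * c⁻¹) * g := by group
        _ = g⁻¹ * (g * z' * g⁻¹) * g := by rw [h']
        _ = z' := by group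
    rwa [this]

/-- LEMMA W, the alternative to weak closure. -/
theorem alt (h : Four Z) {x : G} (hx : x ∈ Z) (hx1 : x ≠ 1) {g : G}
    (hg : Z.map (MulAut.conj g).toMonoidHom ≤ Subgroup.centralizer ({x} : Set G))
    (hne : Z.map (MulAut.conj g).toMonoidHom ≠ Z) :
    Z ⊓ Z.map (MulAut.conj g).toMonoidHom = ⊥ ∧
      ∀ u ∈ Z.map (MulAut.conj g).toMonoidHom, ∀ z ∈ Z, u * z = z * u := by
  set U : Subgroup G := Z.map (MulAut.conj g).toMonoidHom with hU
  have hUf : Four U := h.conj g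
  have hbot : Z ⊓ U = ⊥ := by
    rw [eq_bot_iff]
    rintro w ⟨hw1, hw2⟩
    rw [Subgroup.mem_bot]
    by_contra hw
    obtain ⟨z, hz, hzw⟩ := mem_conj.mp hw2
    apply hne
    apply conj_eq_of_mem_normalizer
    apply h.ti g z hz
    · rintro rfl
      apply hw
      rw [← hzw]; group
    · rw [hzw]; exact hw1
  refine ⟨hbot, ?_⟩
  have hfin : Finite Z := Nat.finite_of_card_ne_zero (by rw [h.card]; norm_num)
  have hfinU : Finite U := Nat.finite_of_card_ne_zero (by rw [hUf.card]; norm_num)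
  have hUN : U ≤ Subgroup.normalizer (Z : Set G) := le_trans hg (h.cent x hx hx1)
  -- an element `y` of `Z` outside `{1, x}`
  have hfour : ∀ {W : Subgroup G}, Nat.card W = 4 → ∀ a : G, ∃ y ∈ W, y ≠ 1 ∧ y ≠ a := by
    intro W hW a
    by_contra hcon
    push Not at hcon
    have hsub : (W : Set G) ⊆ ({1, a} : Set G) := by
      intro y hy
      by_cases h1 : y = 1
      · simp [h1]
      · simp [hcon y hy h1]
    have hle : (W : Set G).ncard ≤ ({1, a} : Set G).ncard :=
      Set.ncard_le_ncard hsub (Set.toFinite _)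
    have h2 : ({1, a} : Set G).ncard ≤ 2 := Set.ncard_insert_le _ _ |>.trans (by simp)
    have h3 : (W : Set G).ncard = 4 := by rw [← hW]; rfl
    omega
  obtain ⟨y, hy, hy1, hyx⟩ := hfour h.card x
  have hxy1 : x * y ≠ 1 := by
    intro hc
    apply hyx
    have : x * x = x * y := by rw [h.el x hx, hc]
    exact (mul_left_cancel this).symm
  have hall : ∀ z ∈ Z, z = 1 ∨ z = x ∨ z = y ∨ z = x * y := by
    intro z hz
    by_contra hcon
    push Not at hcon
    obtain ⟨h1, h2, h3, h4⟩ := hcon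
    have hsub : ({1, x, y, x * y, z} : Set G) ⊆ (Z : Set G) := by
      intro w hw
      simp only [Set.mem_insert_iff, Set.mem_singleton_iff] at hw
      rcases hw with rfl | rfl | rfl | rfl | rfl
      · exact Z.one_mem
      · exact hx
      · exact hy
      · exact Z.mul_mem hx hy
      · exact hz
    have hle := Set.ncard_le_ncard hsub (Set.toFinite _)
    have h5 : ({1, x, y, x * y, z} : Set G).ncard = 5 := by
      rw [Set.ncard_insert_of_notMem, Set.ncard_insert_of_notMem, Set.ncard_insert_of_notMem,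
        Set.ncard_insert_of_notMem, Set.ncard_singleton]
      · simpa using fun hc => h4 hc.symm
      · simp only [Set.mem_insert_iff, Set.mem_singleton_iff, not_or]
        refine ⟨fun hc => hx1 ?_, fun hc => h3 hc.symm⟩
        have : 1 * y = x * y := by rw [one_mul]; exact hc
        exact (mul_right_cancel this).symm
      · simp only [Set.mem_insert_iff, Set.mem_singleton_iff, not_or]
        refine ⟨fun hc => hyx hc.symm, fun hc => hy1 ?_, fun hc => h2 hc.symm⟩
        have : x * 1 = x * y := by rw [mul_one]; exact hc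
        exact (mul_left_cancel this).symm
      · simp only [Set.mem_insert_iff, Set.mem_singleton_iff, not_or]
        exact ⟨fun hc => hx1 hc.symm, fun hc => hy1 hc.symm, fun hc => hxy1 hc.symm,
          fun hc => h1 hc.symm⟩
    have h6 : (Z : Set G).ncard = 4 := by rw [← h.card]; rfl
    omega
  -- conjugation of `y` by elements of `U`
  have hcx : ∀ u ∈ U, u * x = x * u := by
    intro u hu
    have := hg hu
    rw [Subgroup.mem_centralizer_singleton_iff] at this
    exact this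
  have hconj : ∀ u ∈ U, u * y * u⁻¹ = y ∨ u * y * u⁻¹ = x * y := by
    intro u hu
    have hmem : u * y * u⁻¹ ∈ Z := by
      have := hUN hu
      rw [Subgroup.mem_normalizer_iff] at this
      exact (this y).mp hy
    rcases hall _ hmem with h1 | h1 | h1 | h1
    · exfalso; apply hy1
      calc y = u⁻¹ * (u * y * u⁻¹) * u := by group
        _ = 1 := by rw [h1]; group
    · exfalso; apply hyx
      calc y = u⁻¹ * (u * y * u⁻¹) * u := by group
        _ = u⁻¹ * x * u := by rw [h1]
        _ = u⁻¹ * (x * u) := by group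
        _ = u⁻¹ * (u * x) := by rw [hcx u hu]
        _ = x := by group
    · exact Or.inl h1
    · exact Or.inr h1
  -- some nontrivial `u ∈ U` commutes with `y`
  obtain ⟨u₁, hu₁, hu₁1, -⟩ := hfour hUf.card 1
  obtain ⟨u₂, hu₂, hu₂1, hu₁₂⟩ := hfour hUf.card u₁
  have hexu : ∃ u ∈ U, u ≠ 1 ∧ u * y * u⁻¹ = y := by
    rcases hconj u₁ hu₁ with h1 | h1
    · exact ⟨u₁, hu₁, hu₁1, h1⟩
    rcases hconj u₂ hu₂ with h2 | h2
    · exact ⟨u₂, hu₂, hu₂1, h2⟩
    refine ⟨u₁ * u₂, U.mul_mem hu₁ hu₂, ?_, ?_⟩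
    · intro hc
      apply hu₁₂
      have h3 : u₁ * u₁ = u₁ * u₂ := by rw [hUf.el u₁ hu₁, hc]
      exact (mul_left_cancel h3).symm
    · calc u₁ * u₂ * y * (u₁ * u₂)⁻¹ = u₁ * (u₂ * y * u₂⁻¹) * u₁⁻¹ := by group
        _ = u₁ * (x * y) * u₁⁻¹ := by rw [h2]
        _ = (u₁ * x) * y * u₁⁻¹ := by group
        _ = (x * u₁) * y * u₁⁻¹ := by rw [hcx u₁ hu₁]
        _ = x * (u₁ * y * u₁⁻¹) := by group
        _ = x * (x * y) := by rw [h1]
        _ = (x * x) * y := by group
        _ = y := by rw [h.el x hx, one_mul]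
  obtain ⟨v, hv, hv1, hvy⟩ := hexu
  have hvy' : v * y = y * v := by
    calc v * y = (v * y * v⁻¹) * v := by group
      _ = y * v := by rw [hvy]
  have hvZ : ∀ z ∈ Z, v * z = z * v := by
    intro z hz
    rcases hall z hz with rfl | rfl | rfl | rfl
    · group
    · exact hcx v hv
    · exact hvy'
    · calc v * (x * y) = (v * x) * y := by group
        _ = x * v * y := by rw [hcx v hv]
        _ = x * (v * y) := by group
        _ = x * y * v := by rw [hvy']; group
  have hZN : Z ≤ Subgroup.normalizer (U : Set G) := by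
    intro z hz
    apply hUf.cent v hv hv1
    rw [Subgroup.mem_centralizer_singleton_iff]
    exact (hvZ z hz).symm
  intro u hu z hz
  have hZ' : u * z * u⁻¹ ∈ Z := by
    have := hUN hu
    rw [Subgroup.mem_normalizer_iff] at this
    exact (this z).mp hz
  have hU' : z * u⁻¹ * z⁻¹ ∈ U := by
    have := hZN hz
    rw [Subgroup.mem_normalizer_iff] at this
    exact (this u⁻¹).mp (U.inv_mem hu)
  have hcomm : u * z * u⁻¹ * z⁻¹ ∈ Z ⊓ U :=
    ⟨Z.mul_mem hZ' (Z.inv_mem hz), by
      have : u * z * u⁻¹ * z⁻¹ = u * (z * u⁻¹ * z⁻¹) := by group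
      rw [this]
      exact U.mul_mem hu hU'⟩
  rw [hbot, Subgroup.mem_bot] at hcomm
  calc u * z = (u * z * u⁻¹ * z⁻¹) * (z * u) := by group
    _ = z * u := by rw [hcomm, one_mul]

end Four

/-- The list of S1179. -/
def List1179 (G : Type*) [Group G] : Prop :=
  (∃ (n : ℕ) (F : Type) (_ : Field F) (_ : Fintype F), 2 ≤ n ∧ CharP F 2 ∧
      Nonempty (G ≃* Matrix.ProjectiveSpecialLinearGroup (Fin n) F)) ∨
    Cfsg.IsSuzuki G ∨
    (∃ (F : Type) (_ : Field F) (_ : Fintype F) (q : ℕ), Fintype.card F = q ^ 2 ∧ Even q ∧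
      4 ≤ q ∧ Nonempty (G ≃* Cfsg.PSU 3 F q)) ∨
    (∃ n : ℕ, 6 ≤ n ∧ n ≤ 9 ∧ Nonempty (G ≃* alternatingGroup (Fin n))) ∨
    Cfsg.IsM22 G ∨ Cfsg.IsM23 G ∨ Cfsg.IsM24 G ∨ Cfsg.IsHe G

/-- S1179 as a hypothesis. -/
def H1179 : Prop :=
  ∀ (G : Type u) [Group G] [Finite G] [IsSimpleGroup G], ¬ IsMulCommutative G →
    ∀ A : Subgroup G, Cfsg.IsElementaryAbelian 2 A → A ≠ ⊥ →
      (∀ a ∈ A, a ≠ 1 → ∀ g : G, A.map (MulAut.conj g).toMonoidHom ≤
        Subgroup.centralizer ({a} : Set G) → A.map (MulAut.conj g).toMonoidHom = A) → List1179 G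


/-- LEMMA W and S1179: a TI four-group `Z` with `C_G(x) ≤ N_G(Z)` for `x ∈ Z#` in a simple group
which is not in the list of S1179 commutes with another conjugate `U` of it. -/
theorem Four.list {G : Type u} [Group G] [Finite G] [IsSimpleGroup G] (h1179 : H1179.{u})
    (hna : ¬ IsMulCommutative G) {Z : Subgroup G} (h : Four Z)
    (hG : ∀ U : Subgroup G, Four U → (∃ g : G, U = Z.map (MulAut.conj g).toMonoidHom) →
      Z ⊓ U = ⊥ → (∀ u ∈ U, ∀ z ∈ Z, u * z = z * u) → False) : List1179 G := by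
  apply h1179 G hna Z
  · refine ⟨⟨⟨fun a b => ?_⟩⟩, fun a ha => by rw [pow_two]; exact h.el a ha⟩
    ext
    have ha := h.el a a.2
    have hb := h.el b b.2
    have hab := h.el (a * b) (Z.mul_mem a.2 b.2)
    show (a : G) * b = b * a
    have hai : (a : G)⁻¹ = a := inv_eq_of_mul_eq_one_left ha
    have hbi : (b : G)⁻¹ = b := inv_eq_of_mul_eq_one_left hb
    have habi : ((a : G) * b)⁻¹ = a * b := inv_eq_of_mul_eq_one_left hab
    calc (a : G) * b = ((a : G) * b)⁻¹ := habi.symm
      _ = (b : G)⁻¹ * (a : G)⁻¹ := mul_inv_rev _ _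
      _ = b * a := by rw [hai, hbi]
  · rintro rfl
    have := h.card
    simp at this
  · intro a ha ha1 g hg
    by_contra hne
    obtain ⟨h1, h2⟩ := h.alt ha ha1 hg hne
    exact hG _ (h.conj g) ⟨g, rfl⟩ h1 h2

/-- The centre of order four of a standard subgroup is a TI four-group as in LEMMA W. -/
theorem four_of_standard {G : Type*} [Group G] [Finite G] {K Z : Subgroup G}
    (hK : Cfsg.IsStandardSubgroup K) (hZc : Z ≤ Subgroup.centralizer (K : Set G))
    (hZn : Subgroup.normalizer (K : Set G) ≤ Subgroup.normalizer (Z : Set G))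
    (hel : ∀ x ∈ Z, x * x = 1) (hcard : Nat.card Z = 4) : Four Z := by
  refine ⟨hel, hcard, ?_, ?_⟩
  · intro x hx hx1
    have hord : orderOf x = 2 := orderOf_eq_prime (by rw [pow_two]; exact hel x hx) hx1
    exact le_trans (Cfsg.Agent.S1754.result K hK x hord (hZc hx)).1 hZn
  · intro g x hx hx1 hgx
    apply hZn
    by_contra hg
    rw [hK.2.2.2] at hg
    have hodd := hK.2.1.2 g hg
    have hmem : g * x * g⁻¹ ∈ Subgroup.centralizer (K : Set G) ⊓
        (Subgroup.centralizer (K : Set G)).map (MulAut.conj g).toMonoidHom :=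
      ⟨hZc hgx, mem_conj.mpr ⟨x, hZc hx, rfl⟩⟩
    have hord : orderOf (g * x * g⁻¹) = 2 := by
      apply orderOf_eq_prime
      · rw [pow_two]; exact hel _ hgx
      · intro hc
        apply hx1
        calc x = g⁻¹ * (g * x * g⁻¹) * g := by group
          _ = 1 := by rw [hc]; group
    have hdvd : 2 ∣ Nat.card ↥(Subgroup.centralizer (K : Set G) ⊓
        (Subgroup.centralizer (K : Set G)).map (MulAut.conj g).toMonoidHom) := by
      rw [← hord]
      exact Subgroup.orderOf_dvd_natCard _ hmem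
    exact (Nat.not_even_iff_odd.mpr hodd) (even_iff_two_dvd.mpr hdvd)

end Cfsg.Agent.OddHalf.D9.LemmaW
end

-- part: OddHalf/D8/Fi23/Loc
section
set_option linter.all false
open scoped Cfsg.Agent.FastGrp

-- merged: Cfsg.Agent.OddHalf.D8.Fi23.Code
section

/-!
# The 2048 products of at most three of the 23 elements (helper907)

`Code A a`: `A` elementary abelian of order `2¹¹`, every element is a product of at most three `a i`. As
`1 + 23 + 253 + 1771 = 2¹¹`, all these products are different.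
-/

set_option autoImplicit false
set_option linter.style.haveILetI false
set_option linter.unusedVariables false

namespace Cfsg.Agent.OddHalf.D8.Fi23

open Subgroup

/-- the hypotheses -/
structure Code {G : Type*} [Group G] (A : Subgroup G) (a : Fin 23 → G) : Prop where
  sq : ∀ x ∈ A, x * x = 1
  cardA : Nat.card A = 2 ^ 11
  mem : ∀ i, a i ∈ A
  shape : ∀ x ∈ A, x = 1 ∨ (∃ i, x = a i) ∨ (∃ i j, x = a i * a j) ∨ ∃ i j k, x = a i * a j * a k

namespace Code

variable {G : Type*} [Group G] {A : Subgroup G} {a : Fin 23 → G}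

theorem inv_eq (C : Code A a) {x : G} (hx : x ∈ A) : x⁻¹ = x := inv_eq_of_mul_eq_one_left (C.sq x hx)

theorem comm (C : Code A a) {x y : G} (hx : x ∈ A) (hy : y ∈ A) : x * y = y * x := by
  have h := C.inv_eq (A.mul_mem hx hy)
  rw [mul_inv_rev, C.inv_eq hx, C.inv_eq hy] at h
  exact h.symm

/-- the commutative group -/
noncomputable abbrev cg (C : Code A a) : CommGroup A :=
  { (inferInstance : Group A) with mul_comm := fun x y => Subtype.ext (C.comm x.2 y.2) }

/-- product over a set of indices -/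
noncomputable def pr (C : Code A a) (s : Finset (Fin 23)) : G :=
  ((@Finset.prod _ _ C.cg.toCommMonoid s (fun i => (⟨a i, C.mem i⟩ : A)) : A) : G)

theorem pr_mem (C : Code A a) (s : Finset (Fin 23)) : C.pr s ∈ A := Subtype.property _

theorem pr_empty (C : Code A a) : C.pr ∅ = 1 := by
  letI := C.cg
  show ((∏ i ∈ (∅ : Finset (Fin 23)), (⟨a i, C.mem i⟩ : A) : A) : G) = 1
  rw [Finset.prod_empty]; rfl

theorem pr_insert (C : Code A a) {i : Fin 23} {s : Finset (Fin 23)} (hi : i ∉ s) :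
    C.pr (insert i s) = a i * C.pr s := by
  letI := C.cg
  show ((∏ i ∈ insert i s, (⟨a i, C.mem i⟩ : A) : A) : G) = _
  rw [Finset.prod_insert hi]; rfl

theorem pr_singleton (C : Code A a) (i : Fin 23) : C.pr {i} = a i := by
  have h := C.pr_insert (i := i) (s := ∅) (by simp)
  rw [C.pr_empty, mul_one] at h
  rw [← h]; congr 1

theorem pr_pair (C : Code A a) {i j : Fin 23} (h : i ≠ j) : C.pr {i, j} = a i * a j := by
  rw [C.pr_insert (by simpa using h), C.pr_singleton]

theorem pr_triple (C : Code A a) {i j k : Fin 23} (h1 : i ≠ j) (h2 : i ≠ k) (h3 : j ≠ k) :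
    C.pr {i, j, k} = a i * a j * a k := by
  rw [C.pr_insert (by simp [h1, h2]), C.pr_pair h3, mul_assoc]

theorem card_small : Nat.card {s : Finset (Fin 23) // s.card ≤ 3} = 2048 := by
  classical
  rw [Nat.card_eq_fintype_card, Fintype.card_subtype]
  have h : (Finset.univ.filter (fun s : Finset (Fin 23) => s.card ≤ 3)) =
      (Finset.range 4).biUnion (fun k => Finset.powersetCard k Finset.univ) := by
    ext s
    simp only [Finset.mem_filter, Finset.mem_univ, true_and, Finset.mem_biUnion, Finset.mem_range,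
      Finset.mem_powersetCard, Finset.subset_univ]
    constructor
    · intro hs; exact ⟨s.card, by omega, rfl⟩
    · rintro ⟨k, hk, rfl⟩; omega
  rw [h, Finset.card_biUnion]
  · simp only [Finset.card_powersetCard, Finset.card_univ, Fintype.card_fin]
    decide
  · intro i _ j _ hij
    rw [Function.onFun, Finset.disjoint_left]
    intro s h1 h2
    rw [Finset.mem_powersetCard] at h1 h2
    exact hij (h1.2.symm.trans h2.2)

theorem surj (C : Code A a) {x : G} (hx : x ∈ A) : ∃ s : Finset (Fin 23), s.card ≤ 3 ∧ C.pr s = x := by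
  have one : ∃ s : Finset (Fin 23), s.card ≤ 3 ∧ C.pr s = 1 := ⟨∅, by simp, C.pr_empty⟩
  have single : ∀ i, ∃ s : Finset (Fin 23), s.card ≤ 3 ∧ C.pr s = a i :=
    fun i => ⟨{i}, by simp, C.pr_singleton i⟩
  have hsq : ∀ i, a i * a i = 1 := fun i => C.sq _ (C.mem i)
  rcases C.shape x hx with h | ⟨i, h⟩ | ⟨i, j, h⟩ | ⟨i, j, k, h⟩
  · rw [h]; exact one
  · rw [h]; exact single i
  · by_cases hij : i = j
    · rw [h, hij, hsq]; exact one
    · exact ⟨{i, j}, by rw [Finset.card_pair hij]; decide, by rw [h, C.pr_pair hij]⟩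
  · by_cases hij : i = j
    · rw [h, hij, hsq, one_mul]; exact single k
    by_cases hik : i = k
    · rw [h, hik, C.comm (C.mem k) (C.mem j), mul_assoc, hsq, mul_one]; exact single j
    by_cases hjk : j = k
    · rw [h, hjk, mul_assoc, hsq, mul_one]; exact single i
    refine ⟨{i, j, k}, ?_, by rw [h, C.pr_triple hij hik hjk]⟩
    rw [Finset.card_insert_of_notMem (by simp [hij, hik]), Finset.card_pair hjk]

theorem inj (C : Code A a) {s s' : Finset (Fin 23)} (hs : s.card ≤ 3) (hs' : s'.card ≤ 3)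
    (h : C.pr s = C.pr s') : s = s' := by
  let F : {s : Finset (Fin 23) // s.card ≤ 3} → A := fun s => ⟨C.pr s.1, C.pr_mem s.1⟩
  have hF : Function.Surjective F := by
    rintro ⟨x, hx⟩
    obtain ⟨s, h1, h2⟩ := C.surj hx
    exact ⟨⟨s, h1⟩, Subtype.ext h2⟩
  have hb : Function.Bijective F := by
    apply hF.bijective_of_nat_card_le
    rw [card_small, C.cardA]; norm_num
  have := hb.1 (a₁ := ⟨s, hs⟩) (a₂ := ⟨s', hs'⟩) (Subtype.ext h)
  exact congrArg Subtype.val this

theorem a_ne_one (C : Code A a) (i : Fin 23) : a i ≠ 1 := by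
  intro h
  have := C.inj (s := {i}) (s' := ∅) (by simp) (by simp) (by rw [C.pr_singleton, C.pr_empty, h])
  simp at this

theorem a_inj (C : Code A a) {i j : Fin 23} (h : a i = a j) : i = j := by
  have := C.inj (s := {i}) (s' := {j}) (by simp) (by simp) (by rw [C.pr_singleton, C.pr_singleton, h])
  simpa using this

theorem pair_ne_one (C : Code A a) {i j : Fin 23} (hij : i ≠ j) : a i * a j ≠ 1 := by
  intro h
  apply hij
  apply C.a_inj
  rw [mul_eq_one_iff_eq_inv, C.inv_eq (C.mem j)] at h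
  exact h

theorem card_pair_le {i j : Fin 23} : ({i, j} : Finset (Fin 23)).card ≤ 3 :=
  (Finset.card_le_two).trans (by norm_num)

theorem card_triple_le {i j k : Fin 23} : ({i, j, k} : Finset (Fin 23)).card ≤ 3 := Finset.card_le_three

theorem pair_ne_a (C : Code A a) {i j k : Fin 23} (hij : i ≠ j) : a i * a j ≠ a k := by
  intro h
  have h1 := C.inj (s := {i, j}) (s' := {k}) card_pair_le (by simp)
    (by rw [C.pr_pair hij, C.pr_singleton, h])
  have h2 := congrArg Finset.card h1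
  rw [Finset.card_pair hij, Finset.card_singleton] at h2
  omega

theorem pair_eq (C : Code A a) {i j k l : Fin 23} (hij : i ≠ j) (hkl : k ≠ l)
    (h : a i * a j = a k * a l) : (i = k ∧ j = l) ∨ (i = l ∧ j = k) := by
  have h1 := C.inj (s := {i, j}) (s' := {k, l}) card_pair_le card_pair_le
    (by rw [C.pr_pair hij, C.pr_pair hkl, h])
  have hi : i ∈ ({k, l} : Finset (Fin 23)) := by rw [← h1]; simp
  have hj : j ∈ ({k, l} : Finset (Fin 23)) := by rw [← h1]; simp
  simp only [Finset.mem_insert, Finset.mem_singleton] at hi hj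
  rcases hi with rfl | rfl <;> rcases hj with rfl | rfl
  · exact absurd rfl hij
  · exact Or.inl ⟨rfl, rfl⟩
  · exact Or.inr ⟨rfl, rfl⟩
  · exact absurd rfl hij

theorem triple_ne_one (C : Code A a) {i j k : Fin 23} (h1 : i ≠ j) (h2 : i ≠ k) (h3 : j ≠ k) :
    a i * a j * a k ≠ 1 := by
  intro h
  rw [mul_eq_one_iff_eq_inv, C.inv_eq (C.mem k)] at h
  exact C.pair_ne_a h1 h

theorem card_triple {i j k : Fin 23} (h1 : i ≠ j) (h2 : i ≠ k) (h3 : j ≠ k) :
    ({i, j, k} : Finset (Fin 23)).card = 3 := by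
  rw [Finset.card_insert_of_notMem (by simp [h1, h2]), Finset.card_pair h3]

/-- the elements of weight `k` -/
def P (C : Code A a) (k : ℕ) : Set G := {x | ∃ s : Finset (Fin 23), s.card = k ∧ x = C.pr s}

theorem ncard_P (C : Code A a) {k : ℕ} (hk : k ≤ 3) : (C.P k).ncard = Nat.choose 23 k := by
  classical
  have h : C.P k = (fun s => C.pr s) '' (↑(Finset.powersetCard k (Finset.univ : Finset (Fin 23))) :
      Set (Finset (Fin 23))) := by
    ext x
    constructor
    · rintro ⟨s, h1, h2⟩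
      exact ⟨s, by simp [h1], h2.symm⟩
    · rintro ⟨s, h1, h2⟩
      exact ⟨s, (Finset.mem_powersetCard.1 (Finset.mem_coe.1 h1)).2, h2.symm⟩
  rw [h, Set.ncard_image_of_injOn, Set.ncard_coe_finset, Finset.card_powersetCard, Finset.card_univ,
    Fintype.card_fin]
  intro s hs s' hs' e
  have h1 := (Finset.mem_powersetCard.1 (Finset.mem_coe.1 hs)).2
  have h2 := (Finset.mem_powersetCard.1 (Finset.mem_coe.1 hs')).2
  exact C.inj (by omega) (by omega) e

theorem disj_P (C : Code A a) {k l : ℕ} (hk : k ≤ 3) (hl : l ≤ 3) (hkl : k ≠ l) :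
    Disjoint (C.P k) (C.P l) := by
  rw [Set.disjoint_left]
  rintro x ⟨s, h1, h2⟩ ⟨s', h3, h4⟩
  have := C.inj (s := s) (s' := s') (by omega) (by omega) (by rw [← h2, ← h4])
  subst this
  omega

theorem mem_P_of_mem (C : Code A a) {x : G} (hx : x ∈ A) :
    x ∈ C.P 0 ∨ x ∈ C.P 1 ∨ x ∈ C.P 2 ∨ x ∈ C.P 3 := by
  obtain ⟨s, h1, h2⟩ := C.surj hx
  have : s.card = 0 ∨ s.card = 1 ∨ s.card = 2 ∨ s.card = 3 := by omega
  rcases this with h | h | h | h
  · exact Or.inl ⟨s, h, h2.symm⟩
  · exact Or.inr (Or.inl ⟨s, h, h2.symm⟩)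
  · exact Or.inr (Or.inr (Or.inl ⟨s, h, h2.symm⟩))
  · exact Or.inr (Or.inr (Or.inr ⟨s, h, h2.symm⟩))

theorem mem_P_zero (C : Code A a) {x : G} : x ∈ C.P 0 ↔ x = 1 := by
  constructor
  · rintro ⟨s, h1, rfl⟩
    rw [Finset.card_eq_zero.1 h1, C.pr_empty]
  · rintro rfl
    exact ⟨∅, rfl, C.pr_empty.symm⟩

theorem mem_P_one (C : Code A a) {x : G} : x ∈ C.P 1 ↔ ∃ i, x = a i := by
  constructor
  · rintro ⟨s, h1, rfl⟩
    obtain ⟨i, rfl⟩ := Finset.card_eq_one.1 h1
    exact ⟨i, C.pr_singleton i⟩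
  · rintro ⟨i, rfl⟩
    exact ⟨{i}, by simp, (C.pr_singleton i).symm⟩

theorem mem_P_two (C : Code A a) {x : G} : x ∈ C.P 2 ↔ ∃ i j, i ≠ j ∧ x = a i * a j := by
  constructor
  · rintro ⟨s, h1, rfl⟩
    obtain ⟨i, j, hij, rfl⟩ := Finset.card_eq_two.1 h1
    exact ⟨i, j, hij, C.pr_pair hij⟩
  · rintro ⟨i, j, hij, rfl⟩
    exact ⟨{i, j}, Finset.card_pair hij, (C.pr_pair hij).symm⟩

theorem mem_P_three (C : Code A a) {x : G} :
    x ∈ C.P 3 ↔ ∃ i j k, i ≠ j ∧ i ≠ k ∧ j ≠ k ∧ x = a i * a j * a k := by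
  constructor
  · rintro ⟨s, h0, rfl⟩
    obtain ⟨i, j, k, h1, h2, h3, rfl⟩ := Finset.card_eq_three.1 h0
    exact ⟨i, j, k, h1, h2, h3, C.pr_triple h1 h2 h3⟩
  · rintro ⟨i, j, k, h1, h2, h3, rfl⟩
    exact ⟨{i, j, k}, card_triple h1 h2 h3, (C.pr_triple h1 h2 h3).symm⟩

end Code

end Cfsg.Agent.OddHalf.D8.Fi23

end

-- merged: Cfsg.Agent.OddHalf.D8.Fi23.Loc
section

/-!
# The facts on `K = Fi₂₃` for a subgroup `K` of `G` (helper907)

`Loc K A S a`: the facts of `Sheet`, for subgroups `A ≤ S ≤ K` of a group `G` and for all indices. `Loc.of_sheet`: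
`Sheet ↥K A S a` implies `Loc`.
-/

set_option autoImplicit false

namespace Cfsg.Agent.OddHalf.D8.Fi23

open Subgroup Cfsg

/-- the facts inside `G` -/
structure Loc {G : Type*} [Group G] (K A S : Subgroup G) (a : Fin 23 → G) : Prop extends Code A a where
  AS : A ≤ S
  SK : S ≤ K
  pS : IsPGroup 2 S
  sylow : ∀ P : Subgroup G, P ≤ K → IsPGroup 2 P → ∃ k ∈ K, ∀ x ∈ P, k * x * k⁻¹ ∈ S
  self : ∀ x ∈ K, (∀ y ∈ A, x * y = y * x) → x ∈ A
  perm : ∀ n ∈ K, n ∈ normalizer (A : Set G) → ∀ i, ∃ j, n * a i * n⁻¹ = a j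
  three : ∀ i j k i' j' k' : Fin 23, i ≠ j → i ≠ k → j ≠ k → i' ≠ j' → i' ≠ k' → j' ≠ k' →
    ∃ n ∈ K, n ∈ normalizer (A : Set G) ∧ n * a i * n⁻¹ = a i' ∧ n * a j * n⁻¹ = a j' ∧
      n * a k * n⁻¹ = a k'
  fix : ∀ n ∈ K, n ∈ normalizer (A : Set G) → 8 ≤ {i | n * a i = a i * n}.ncard → n ∈ A
  cardN : Nat.card ↥(K ⊓ normalizer (A : Set G)) = 2 ^ 11 * 10200960
  cardS : Nat.card S = 2 ^ 18
  uniq : ∀ B : Subgroup G, B ≤ S → (∀ x ∈ B, x * x = 1) → 2 ^ 11 ≤ Nat.card B → B = A
  inv : ∀ x ∈ K, x * x = 1 → x ≠ 1 → ∃ k ∈ K, k * x * k⁻¹ ∈ A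
  der : ∀ x ∈ K, x * x = 1 → x ≠ 1 → x ∈ ⁅K ⊓ centralizer ({x} : Set G), K ⊓ centralizer ({x} : Set G)⁆
  qs : ∀ i, IsQuasisimple ↥(K ⊓ centralizer ({a i} : Set G))
  cen : ∀ i, ∀ x ∈ K, (∀ y ∈ K, y * a i = a i * y → x * y = y * x) → x = 1 ∨ x = a i
  thirteen : ∀ i, 13 ∣ Nat.card ↥(K ⊓ centralizer ({a i} : Set G))
  gen : ∀ i j, i ≠ j → K ≤ (K ⊓ centralizer ({a i} : Set G)) ⊔ (K ⊓ centralizer ({a j} : Set G))
  c2 : ∀ i j, i ≠ j → ¬ 13 ∣ Nat.card ↥(K ⊓ centralizer ({a i * a j} : Set G))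
  c3 : ∀ i j k, i ≠ j → i ≠ k → j ≠ k → ¬ 13 ∣ Nat.card ↥(K ⊓ centralizer ({a i * a j * a k} : Set G))

section Index

theorem exists_two (i : Fin 23) : ∃ j k, i ≠ j ∧ i ≠ k ∧ j ≠ k := by
  revert i; decide +kernel

theorem exists_third (i j : Fin 23) : ∃ k, i ≠ k ∧ j ≠ k := by
  revert i j; decide +kernel

end Index

namespace Sheet

variable {K : Type*} [Group K] {A : Subgroup K} {S : Sylow 2 K} {a : Fin 23 → K}

theorem code (h : Sheet K A S a) : Code A a := ⟨h.sq, h.cardA, h.mem, h.shape⟩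

theorem two (h : Sheet K A S a) {i j i' j' : Fin 23} (h1 : i ≠ j) (h2 : i' ≠ j') :
    ∃ n ∈ normalizer (A : Set K), n * a i * n⁻¹ = a i' ∧ n * a j * n⁻¹ = a j' := by
  obtain ⟨k, h3, h4⟩ := exists_third i j
  obtain ⟨k', h5, h6⟩ := exists_third i' j'
  obtain ⟨n, hn, e1, e2, -⟩ := h.three i j k i' j' k' h1 h3 h4 h2 h5 h6
  exact ⟨n, hn, e1, e2⟩

theorem one (h : Sheet K A S a) (i i' : Fin 23) : ∃ n ∈ normalizer (A : Set K), n * a i * n⁻¹ = a i' := by
  obtain ⟨j, -, h1, -⟩ := exists_two i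
  obtain ⟨j', -, h2, -⟩ := exists_two i'
  obtain ⟨n, hn, e1, -⟩ := h.two h1 h2
  exact ⟨n, hn, e1⟩

/-- conjugation of centralizers -/
theorem map_centralizer (n x : K) : (centralizer ({x} : Set K)).map (MulAut.conj n).toMonoidHom =
    centralizer ({n * x * n⁻¹} : Set K) := by
  ext y
  rw [mem_map, mem_centralizer_singleton_iff]
  constructor
  · rintro ⟨z, hz, rfl⟩
    rw [mem_centralizer_singleton_iff] at hz
    show n * z * n⁻¹ * (n * x * n⁻¹) = n * x * n⁻¹ * (n * z * n⁻¹)
    calc n * z * n⁻¹ * (n * x * n⁻¹) = n * (z * x) * n⁻¹ := by group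
      _ = n * (x * z) * n⁻¹ := by rw [hz]
      _ = n * x * n⁻¹ * (n * z * n⁻¹) := by group
  · intro hy
    refine ⟨n⁻¹ * y * n, ?_, ?_⟩
    · rw [mem_centralizer_singleton_iff]
      calc n⁻¹ * y * n * x = n⁻¹ * (y * (n * x * n⁻¹)) * n := by group
        _ = n⁻¹ * (n * x * n⁻¹ * y) * n := by rw [hy]
        _ = x * (n⁻¹ * y * n) := by group
    · show n * (n⁻¹ * y * n) * n⁻¹ = y
      group

theorem card_centralizer (n x : K) : Nat.card (centralizer ({n * x * n⁻¹} : Set K)) =
    Nat.card (centralizer ({x} : Set K)) := by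
  rw [← map_centralizer]
  exact (Nat.card_congr ((centralizer ({x} : Set K)).equivMapOfInjective _
    (MulAut.conj n).injective).toEquiv).symm

theorem mem_der (n x : K) (hx : x ∈ ⁅centralizer ({x} : Set K), centralizer ({x} : Set K)⁆) :
    n * x * n⁻¹ ∈ ⁅centralizer ({n * x * n⁻¹} : Set K), centralizer ({n * x * n⁻¹} : Set K)⁆ := by
  rw [← map_centralizer, ← Subgroup.map_commutator]
  exact ⟨x, hx, rfl⟩

theorem qs' (h : Sheet K A S a) (i : Fin 23) : IsQuasisimple (centralizer ({a i} : Set K)) := by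
  obtain ⟨n, -, hn⟩ := h.one 0 i
  rw [← hn, ← map_centralizer]
  exact Cfsg.Agent.SignalizersComponents.Components.isQuasisimple_of_mulEquiv
    ((centralizer ({a 0} : Set K)).equivMapOfInjective _ (MulAut.conj n).injective) h.qs

theorem perf (h : Sheet K A S a) (i : Fin 23) :
    ⁅centralizer ({a i} : Set K), centralizer ({a i} : Set K)⁆ = centralizer ({a i} : Set K) := by
  have := (h.qs' i).1
  exact Subgroup.commutator_eq_self

theorem der (h : Sheet K A S a) {x : K} (hx : x * x = 1) (hx1 : x ≠ 1) :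
    x ∈ ⁅centralizer ({x} : Set K), centralizer ({x} : Set K)⁆ := by
  have key : ∀ y : K, IsConj x y → y ∈ ⁅centralizer ({y} : Set K), centralizer ({y} : Set K)⁆ →
      x ∈ ⁅centralizer ({x} : Set K), centralizer ({x} : Set K)⁆ := by
    intro y hy hd
    obtain ⟨n, hn⟩ := isConj_iff.1 hy.symm
    rw [← hn]
    exact mem_der n y hd
  rcases h.inv x hx hx1 with h1 | h1 | h1
  · refine key _ h1 ?_
    rw [h.perf 0]
    exact mem_centralizer_singleton_iff.2 rfl
  · exact key _ h1 h.der2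
  · exact key _ h1 h.der3

theorem cen' (h : Sheet K A S a) (i : Fin 23) {x : K} (hx : ∀ y : K, y * a i = a i * y → x * y = y * x) :
    x = 1 ∨ x = a i := by
  obtain ⟨n, -, hn⟩ := h.one i 0
  have h1 : ∀ y : K, y * a 0 = a 0 * y → (n * x * n⁻¹) * y = y * (n * x * n⁻¹) := by
    intro y hy
    have h2 : (n⁻¹ * y * n) * a i = a i * (n⁻¹ * y * n) := by
      calc (n⁻¹ * y * n) * a i = n⁻¹ * (y * (n * a i * n⁻¹)) * n := by group
        _ = n⁻¹ * (y * a 0) * n := by rw [hn]
        _ = n⁻¹ * (a 0 * y) * n := by rw [hy]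
        _ = n⁻¹ * ((n * a i * n⁻¹) * y) * n := by rw [hn]
        _ = a i * (n⁻¹ * y * n) := by group
    have h3 := hx _ h2
    calc (n * x * n⁻¹) * y = n * (x * (n⁻¹ * y * n)) * n⁻¹ := by group
      _ = n * ((n⁻¹ * y * n) * x) * n⁻¹ := by rw [h3]
      _ = y * (n * x * n⁻¹) := by group
  rcases h.cen _ h1 with h2 | h2
  · left
    rw [mul_inv_eq_one] at h2
    exact mul_eq_left.1 h2
  · right
    rw [← hn] at h2
    exact mul_left_cancel (mul_right_cancel h2)

theorem thirteen' (h : Sheet K A S a) (i : Fin 23) : 13 ∣ Nat.card (centralizer ({a i} : Set K)) := by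
  obtain ⟨n, -, hn⟩ := h.one 0 i
  rw [← hn, card_centralizer]
  exact h.thirteen

theorem gen' (h : Sheet K A S a) {i j : Fin 23} (hij : i ≠ j) :
    centralizer ({a i} : Set K) ⊔ centralizer ({a j} : Set K) = ⊤ := by
  obtain ⟨n, -, h1, h2⟩ := h.two (i := 0) (j := 1) (by decide) hij
  rw [← h1, ← h2, ← map_centralizer, ← map_centralizer, ← Subgroup.map_sup, h.gen]
  exact Subgroup.map_top_of_surjective _ (MulAut.conj n).surjective

theorem c2' (h : Sheet K A S a) {i j : Fin 23} (hij : i ≠ j) :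
    ¬ 13 ∣ Nat.card (centralizer ({a i * a j} : Set K)) := by
  obtain ⟨n, -, h1, h2⟩ := h.two (i := 0) (j := 1) (by decide) hij
  have e : a i * a j = n * (a 0 * a 1) * n⁻¹ := by rw [← h1, ← h2]; group
  rw [e, card_centralizer]
  exact h.c2

theorem c3' (h : Sheet K A S a) {i j k : Fin 23} (hij : i ≠ j) (hik : i ≠ k) (hjk : j ≠ k) :
    ¬ 13 ∣ Nat.card (centralizer ({a i * a j * a k} : Set K)) := by
  obtain ⟨n, -, h1, h2, h3⟩ := h.three 0 1 2 i j k (by decide) (by decide) (by decide) hij hik hjk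
  have e : a i * a j * a k = n * (a 0 * a 1 * a 2) * n⁻¹ := by rw [← h1, ← h2, ← h3]; group
  rw [e, card_centralizer]
  exact h.c3

end Sheet

section Transport

variable {G : Type*} [Group G] {K : Subgroup G}

theorem map_cen (x : K) : (centralizer ({x} : Set K)).map K.subtype = K ⊓ centralizer ({(x : G)} : Set G) := by
  ext y
  rw [mem_map, mem_inf, mem_centralizer_singleton_iff]
  constructor
  · rintro ⟨z, hz, rfl⟩
    exact ⟨z.2, congrArg Subtype.val (mem_centralizer_singleton_iff.1 hz)⟩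
  · rintro ⟨h1, h2⟩
    exact ⟨⟨y, h1⟩, mem_centralizer_singleton_iff.2 (Subtype.ext h2), rfl⟩

theorem card_map_subtype (H : Subgroup K) : Nat.card (H.map K.subtype) = Nat.card H :=
  (Nat.card_congr (H.equivMapOfInjective _ K.subtype_injective).toEquiv).symm

theorem mem_norm {A : Subgroup K} (n : K) :
    (n : G) ∈ normalizer ((A.map K.subtype : Subgroup G) : Set G) ↔ n ∈ normalizer (A : Set K) := by
  have hm : ∀ x : K, (x : G) ∈ A.map K.subtype ↔ x ∈ A := by
    intro x
    constructor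
    · rintro ⟨y, hy, hxy⟩
      have : y = x := Subtype.ext hxy
      rwa [← this]
    · intro hx; exact ⟨x, hx, rfl⟩
  rw [mem_normalizer_iff, mem_normalizer_iff]
  constructor
  · intro h x
    rw [← hm x, ← hm]
    exact h x
  · intro h x
    constructor
    · rintro ⟨y, hy, rfl⟩
      exact (hm _).2 ((h y).1 hy)
    · intro hx
      have hxK : x ∈ K := by
        obtain ⟨y, hy, hxy⟩ := hx
        have e : x = (n : G)⁻¹ * (y : G) * n := by
          have : (y : G) = n * x * (n : G)⁻¹ := hxy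
          rw [this]; group
        rw [e]
        exact K.mul_mem (K.mul_mem (K.inv_mem n.2) y.2) n.2
      have h1 : n * ⟨x, hxK⟩ * n⁻¹ ∈ A := (hm _).1 hx
      exact (hm ⟨x, hxK⟩).2 ((h _).2 h1)

theorem Loc.of_sheet [Finite G] {A : Subgroup K} {S : Sylow 2 K} {a : Fin 23 → K} (h : Sheet K A S a) :
    Loc K (A.map K.subtype) ((S : Subgroup K).map K.subtype) (fun i => (a i : G)) where
  sq := by
    rintro _ ⟨x, hx, rfl⟩
    exact congrArg Subtype.val (h.sq x hx)
  cardA := by rw [card_map_subtype, h.cardA]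
  mem := fun i => ⟨a i, h.mem i, rfl⟩
  shape := by
    rintro _ ⟨x, hx, rfl⟩
    rcases h.shape x hx with h1 | ⟨i, h1⟩ | ⟨i, j, h1⟩ | ⟨i, j, k, h1⟩
    · exact Or.inl (congrArg Subtype.val h1)
    · exact Or.inr (Or.inl ⟨i, congrArg Subtype.val h1⟩)
    · exact Or.inr (Or.inr (Or.inl ⟨i, j, congrArg Subtype.val h1⟩))
    · exact Or.inr (Or.inr (Or.inr ⟨i, j, k, congrArg Subtype.val h1⟩))
  AS := map_mono h.AS
  SK := map_subtype_le _
  pS := S.isPGroup'.map _
  sylow := by
    intro P hP hpP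
    obtain ⟨Q, hQ⟩ := (hpP.comap_of_injective K.subtype K.subtype_injective).exists_le_sylow
    obtain ⟨k, hk⟩ := MulAction.exists_smul_eq K Q S
    refine ⟨k, k.2, fun x hx => ?_⟩
    have h1 : (⟨x, hP hx⟩ : K) ∈ (Q : Subgroup K) := hQ hx
    have h2 : MulAut.conj k (⟨x, hP hx⟩ : K) ∈ (S : Subgroup K) := by
      rw [← hk]
      exact Subgroup.smul_mem_pointwise_smul _ (MulAut.conj k) (Q : Subgroup K) h1
    exact ⟨_, h2, rfl⟩
  self := by
    intro x hx hc
    refine ⟨⟨x, hx⟩, h.self _ (fun y hy => Subtype.ext (hc y ⟨y, hy, rfl⟩)), rfl⟩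
  perm := by
    intro n hn hN i
    obtain ⟨j, hj⟩ := h.perm ⟨n, hn⟩ ((mem_norm ⟨n, hn⟩).1 hN) i
    exact ⟨j, congrArg Subtype.val hj⟩
  three := by
    intro i j k i' j' k' h1 h2 h3 h4 h5 h6
    obtain ⟨n, hn, e1, e2, e3⟩ := h.three i j k i' j' k' h1 h2 h3 h4 h5 h6
    exact ⟨n, n.2, (mem_norm n).2 hn, congrArg Subtype.val e1, congrArg Subtype.val e2,
      congrArg Subtype.val e3⟩
  fix := by
    intro n hn hN h8
    have h1 : {i | n * (a i : G) = (a i : G) * n} = {i | (⟨n, hn⟩ : K) * a i = a i * ⟨n, hn⟩} := by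
      ext i
      constructor
      · intro hi; exact Subtype.ext hi
      · intro hi; exact congrArg Subtype.val hi
    rw [h1] at h8
    exact ⟨⟨n, hn⟩, h.fix _ ((mem_norm ⟨n, hn⟩).1 hN) h8, rfl⟩
  cardN := by
    rw [← h.cardN, ← card_map_subtype (K := K)]
    congr 1
    have : K ⊓ normalizer ((A.map K.subtype : Subgroup G) : Set G) =
        (normalizer (A : Set K)).map K.subtype := by
      ext x
      rw [mem_inf, mem_map]
      constructor
      · rintro ⟨h1, h2⟩
        exact ⟨⟨x, h1⟩, (mem_norm ⟨x, h1⟩).1 h2, rfl⟩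
      · rintro ⟨y, hy, rfl⟩
        exact ⟨y.2, (mem_norm y).2 hy⟩
    rw [this]
  cardS := by rw [card_map_subtype, h.cardS]
  uniq := by
    intro B hB hsq hc
    have hBK : B ≤ K := hB.trans (map_subtype_le _)
    have e : (B.subgroupOf K).map K.subtype = B := by
      rw [subgroupOf_map_subtype, inf_eq_left.2 hBK]
    have h1 : B.subgroupOf K = A := by
      apply h.uniq
      · intro x hx
        obtain ⟨y, hy, hxy⟩ := hB (show (x : G) ∈ B from hx)
        have : y = x := Subtype.ext hxy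
        rwa [← this]
      · intro x hx
        exact Subtype.ext (hsq x hx)
      · rw [← card_map_subtype, e]; exact hc
    rw [← e, h1]
  inv := by
    intro x hx hsq hx1
    have hA : ∀ y : K, IsConj (⟨x, hx⟩ : K) y → y ∈ A → ∃ k ∈ K, k * x * k⁻¹ ∈ A.map K.subtype := by
      intro y hy hyA
      obtain ⟨k, hk⟩ := isConj_iff.1 hy
      refine ⟨k, k.2, y, hyA, ?_⟩
      rw [← hk]; rfl
    rcases h.inv ⟨x, hx⟩ (Subtype.ext hsq) (fun e => hx1 (congrArg Subtype.val e)) with h1 | h1 | h1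
    · exact hA _ h1 (h.mem 0)
    · exact hA _ h1 (A.mul_mem (h.mem 0) (h.mem 1))
    · exact hA _ h1 (A.mul_mem (A.mul_mem (h.mem 0) (h.mem 1)) (h.mem 2))
  der := by
    intro x hx hsq hx1
    have h1 := h.der (x := ⟨x, hx⟩) (Subtype.ext hsq) (fun e => hx1 (congrArg Subtype.val e))
    rw [← map_cen ⟨x, hx⟩, ← Subgroup.map_commutator]
    exact ⟨_, h1, rfl⟩
  qs := by
    intro i
    rw [← map_cen (a i)]
    exact Cfsg.Agent.SignalizersComponents.Components.isQuasisimple_of_mulEquiv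
      ((centralizer ({a i} : Set K)).equivMapOfInjective _ K.subtype_injective) (h.qs' i)
  cen := by
    intro i x hx hc
    rcases h.cen' i (x := ⟨x, hx⟩) (fun y hy => Subtype.ext (hc y y.2 (congrArg Subtype.val hy))) with h1 | h1
    · exact Or.inl (congrArg Subtype.val h1)
    · exact Or.inr (congrArg Subtype.val h1)
  thirteen := by
    intro i
    rw [← map_cen (a i), card_map_subtype]
    exact h.thirteen' i
  gen := by
    intro i j hij
    rw [← map_cen (a i), ← map_cen (a j), ← Subgroup.map_sup, h.gen' hij, ← MonoidHom.range_eq_map,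
      Subgroup.range_subtype]
  c2 := by
    intro i j hij
    have h1 := h.c2' hij
    rwa [← card_map_subtype, map_cen (a i * a j)] at h1
  c3 := by
    intro i j k h1 h2 h3
    have h4 := h.c3' h1 h2 h3
    rwa [← card_map_subtype, map_cen (a i * a j * a k)] at h4

end Transport

end Cfsg.Agent.OddHalf.D8.Fi23

end
end

-- part: KFacts/FiTTh/Gam
section
prune_inst 0x4203030646900020000000592e1003c66de000192006b800199e00f06068fdf6109022f61fea01f00112aa224003e0068131800d90010000020000200411d05a1802af2c49348b10427000980f887180c00000000000000000000000000041004200000000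
set_option linter.all false
open scoped Cfsg.Agent.FastGrp

-- merged: Cfsg.Agent.KFacts.FiTTh.MvPt
section

/-!
# Moving points with M24 (helper8)

* `mv_five` : for `|F| ≤ 5`, `t ∉ F` some element of `M24` fixes `F` pointwise and moves `t`;
* `mv_six` : the same for `F = S ∪ {f}`, `|S| = 5`, unless `f`, `t` are both in the octad of `S`.
-/

set_option autoImplicit false

namespace Cfsg.Agent.KFacts.FiTTh.MvPt

open Cfsg Subgroup
open Cfsg.Agent.SporadicA.GolayBase Cfsg.Agent.SporadicStructure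
open Cfsg.Agent.KFacts.FiTTh.BasSheet
open scoped Pointwise

/-- frame maps: `S` five points of the octad `o`, `v, v' ∈ o \ S`, `q, q' ∉ o` -/
theorem frame {o S : Finset GolayPt} (ho : o ∈ octads) (hS : S ⊆ o) (h5 : S.card = 5) {v v' : GolayPt}
    (hv : v ∈ o) (hvS : v ∉ S) (hv' : v' ∈ o) (hvS' : v' ∉ S) {q q' : GolayPt} (hq : q ∉ o) (hq' : q' ∉ o) :
    ∃ g ∈ M24, (∀ x ∈ S, g x = x) ∧ g v = v' ∧ g q = q' := by
  classical
  let f : Fin 5 ≃ S := (Finset.equivFinOfCardEq h5).symm
  let a : GolayPt → Fin 6 → GolayPt := fun w => Fin.cons w (fun i => (f i : GolayPt))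
  have ha : ∀ {w : GolayPt}, w ∉ S → Function.Injective (a w) := by
    intro w hw
    rw [Fin.cons_injective_iff]
    refine ⟨?_, fun i j h => f.injective (Subtype.ext h)⟩
    rintro ⟨i, hi⟩
    apply hw
    rw [← hi]
    exact (f i).2
  have hao : ∀ {w : GolayPt}, w ∈ o → ∀ i, a w i ∈ o := by
    intro w hw i
    refine Fin.cases ?_ ?_ i
    · exact hw
    · intro j
      exact hS (f j).2
  obtain ⟨g, ⟨hg, hga, hgq⟩, -⟩ := M24Frame.exists_unique_frame_map ho ho (ha hvS) (ha hvS') (hao hv) (hao hv') hq hq'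
  refine ⟨g, hg, ?_, hga 0, hgq⟩
  intro x hx
  have h1 := hga (Fin.succ (f.symm ⟨x, hx⟩))
  have h2 : ∀ w, a w (Fin.succ (f.symm ⟨x, hx⟩)) = x := by
    intro w
    show ((f (f.symm ⟨x, hx⟩) : S) : GolayPt) = x
    rw [Equiv.apply_symm_apply]
  rwa [h2, h2] at h1

theorem exists_out {o : Finset GolayPt} (ho : o ∈ octads) (q : GolayPt) : ∃ q' : GolayPt, q' ∉ o ∧ q' ≠ q := by
  classical
  by_contra hcon
  push Not at hcon
  have h1 : (Finset.univ : Finset GolayPt) ⊆ insert q o := by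
    intro x _
    by_cases hx : x ∈ o
    · exact Finset.mem_insert_of_mem hx
    · rw [hcon x hx]; exact Finset.mem_insert_self _ _
  have h2 := Finset.card_le_card h1
  have h3 := Finset.card_insert_le q o
  rw [Finset.card_univ, octad_card ho] at *
  have h4 : Fintype.card GolayPt = 24 := MTwThree.card_pts
  omega

theorem exists_in {o S : Finset GolayPt} (ho : o ∈ octads) (hS : S ⊆ o) (h5 : S.card = 5) (q : GolayPt) :
    ∃ v ∈ o, v ∉ S ∧ v ≠ q := by
  classical
  by_contra hcon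
  push Not at hcon
  have h1 : o ⊆ insert q S := by
    intro x hx
    by_cases hxS : x ∈ S
    · exact Finset.mem_insert_of_mem hxS
    · rw [hcon x hx hxS]; exact Finset.mem_insert_self _ _
  have h2 := Finset.card_le_card h1
  have h3 := Finset.card_insert_le q S
  rw [octad_card ho] at h2
  omega

theorem mv_five {F : Finset GolayPt} (hF : F.card ≤ 5) {t : GolayPt} (ht : t ∉ F) :
    ∃ g ∈ M24, (∀ x ∈ F, g x = x) ∧ g t ≠ t := by
  classical
  obtain ⟨S, hFS, hSt, hS5⟩ : ∃ S : Finset GolayPt, F ⊆ S ∧ t ∉ S ∧ S.card = 5 := by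
    have h1 : F ⊆ Finset.univ.erase t := fun x hx => Finset.mem_erase.2 ⟨fun h => ht (h ▸ hx), Finset.mem_univ _⟩
    have h2 : (Finset.univ.erase t : Finset GolayPt).card = 23 := by
      rw [Finset.card_erase_of_mem (Finset.mem_univ _), Finset.card_univ, MTwThree.card_pts]
    obtain ⟨S, h3, h4, h5⟩ := Finset.exists_subsuperset_card_eq h1 hF (by omega : 5 ≤ (Finset.univ.erase t : Finset GolayPt).card)
    exact ⟨S, h3, fun h => Finset.notMem_erase _ _ (h4 h), h5⟩
  obtain ⟨o, ⟨ho, hSo⟩, -⟩ := Cfsg.Agent.S0363.result.2 S hS5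
  by_cases hto : t ∈ o
  · obtain ⟨v, hv, hvS, hvt⟩ := exists_in ho hSo hS5 t
    obtain ⟨q, hq, -⟩ := exists_out ho t
    obtain ⟨g, hg, h1, h2, -⟩ := frame ho hSo hS5 hto hSt hv hvS hq hq
    exact ⟨g, hg, fun x hx => h1 x (hFS hx), by rw [h2]; exact hvt⟩
  · obtain ⟨v, hv, hvS, -⟩ := exists_in ho hSo hS5 t
    obtain ⟨q, hq, hqt⟩ := exists_out ho t
    obtain ⟨g, hg, h1, -, h2⟩ := frame ho hSo hS5 hv hvS hv hvS hto hq
    exact ⟨g, hg, fun x hx => h1 x (hFS hx), by rw [h2]; exact hqt⟩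

theorem mv_six {o S : Finset GolayPt} (ho : o ∈ octads) (hS : S ⊆ o) (h5 : S.card = 5) {f t : GolayPt}
    (hf : f ∉ S) (ht : t ∉ S) (hft : f ≠ t) (hn : ¬ (f ∈ o ∧ t ∈ o)) :
    ∃ g ∈ M24, (∀ x ∈ S, g x = x) ∧ g f = f ∧ g t ≠ t := by
  classical
  by_cases hfo : f ∈ o
  · have hto : t ∉ o := fun h => hn ⟨hfo, h⟩
    obtain ⟨q, hq, hqt⟩ := exists_out ho t
    obtain ⟨g, hg, h1, h2, h3⟩ := frame ho hS h5 hfo hf hfo hf hto hq
    exact ⟨g, hg, h1, h2, by rw [h3]; exact hqt⟩
  · by_cases hto : t ∈ o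
    · obtain ⟨v, hv, hvS, hvt⟩ := exists_in ho hS h5 t
      obtain ⟨g, hg, h1, h2, h3⟩ := frame ho hS h5 hto ht hv hvS hfo hfo
      exact ⟨g, hg, h1, h3, by rw [h2]; exact hvt⟩
    · -- both outside: an element of order 3
      obtain ⟨v, hv, hvS, -⟩ := exists_in ho hS h5 t
      obtain ⟨v', hv', hvS', hvv⟩ := exists_in ho hS h5 v
      obtain ⟨g, hg, h1, h2, h3⟩ := frame ho hS h5 hv hvS hv' hvS' hfo hfo
      refine ⟨g, hg, h1, h3, fun hgt => ?_⟩
      have hg1 : g ≠ 1 := by
        intro h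
        rw [h] at h2
        exact hvv h2.symm
      have hgo : g • o = o := M24Frame.smul_octad_eq_of_five hg ho ho hS (by omega)
        (fun z hz => by rw [h1 z hz]; exact hS hz)
      have hinv : ∀ x ∈ o, g x ∈ o := by
        intro x hx
        have := Finset.smul_mem_smul_finset (a := g) hx
        rwa [hgo] at this
      have hnofix : ∀ x ∈ o, x ∉ S → g x ≠ x := by
        intro x hx hxS hgx
        apply hg1
        refine M24Frame.eq_one_of_fix_frame hg ho (s := insert x S) (Finset.insert_subset hx hS) ?_ ?_ hfo h3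
        · rw [Finset.card_insert_of_notMem hxS]; omega
        · intro z hz
          rcases Finset.mem_insert.1 hz with rfl | hz
          · exact hgx
          · exact h1 z hz
      have hinv' : ∀ x ∈ o \ S, g x ∈ o \ S := by
        intro x hx
        rw [Finset.mem_sdiff] at hx ⊢
        refine ⟨hinv x hx.1, fun h => ?_⟩
        have h4 := h1 _ h
        rw [g.injective h4] at h
        exact hx.2 h
      have hc : (o \ S).card = 3 := by rw [Finset.card_sdiff_of_subset hS, octad_card ho]; omega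
      -- `g ^ 3` fixes `o`
      have h33 : ∀ x ∈ o \ S, g (g (g x)) = x := by
        intro x hx
        have hx1 := hinv' x hx
        have hx2 := hinv' _ hx1
        have hx3 := hinv' _ hx2
        have n1 : g x ≠ x := hnofix x (Finset.mem_sdiff.1 hx).1 (Finset.mem_sdiff.1 hx).2
        have n2 : g (g x) ≠ g x := hnofix _ (Finset.mem_sdiff.1 hx1).1 (Finset.mem_sdiff.1 hx1).2
        have n3 : g (g (g x)) ≠ g (g x) := hnofix _ (Finset.mem_sdiff.1 hx2).1 (Finset.mem_sdiff.1 hx2).2
        by_cases n4 : g (g x) = x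
        · -- then the third point is fixed
          exfalso
          have h4 : ({x, g x} : Finset GolayPt) ⊆ o \ S := by
            intro y hy
            rw [Finset.mem_insert, Finset.mem_singleton] at hy
            rcases hy with rfl | rfl
            · exact hx
            · exact hx1
          have h6 : ({x, g x} : Finset GolayPt).card = 2 := Finset.card_pair (Ne.symm n1)
          obtain ⟨y, hy, hy'⟩ : ∃ y ∈ o \ S, y ∉ ({x, g x} : Finset GolayPt) := by
            by_contra hcon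
            push Not at hcon
            have := Finset.card_le_card (s := o \ S) hcon
            omega
          have hy1 := hinv' y hy
          have h7 : g y ∉ ({x, g x} : Finset GolayPt) := by
            intro h
            rw [Finset.mem_insert, Finset.mem_singleton] at h hy'
            rcases h with h | h
            · apply hy'
              right
              rw [← n4] at h
              exact g.injective h
            · apply hy'
              left
              exact g.injective h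
          have h8 : g y = y := by
            by_contra h9
            have h10 : ({x, g x, y, g y} : Finset GolayPt) ⊆ o \ S := by
              intro z hz
              simp only [Finset.mem_insert, Finset.mem_singleton] at hz
              rcases hz with rfl | rfl | rfl | rfl
              · exact hx
              · exact hx1
              · exact hy
              · exact hy1
            have h11 : ({x, g x, y, g y} : Finset GolayPt).card = 4 := by
              rw [Finset.mem_insert, Finset.mem_singleton] at h7 hy'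
              push Not at h7 hy'
              rw [Finset.card_insert_of_notMem, Finset.card_insert_of_notMem, Finset.card_pair (Ne.symm h9)]
              · simp only [Finset.mem_insert, Finset.mem_singleton]
                push Not
                exact ⟨Ne.symm hy'.2, Ne.symm h7.2⟩
              · simp only [Finset.mem_insert, Finset.mem_singleton]
                push Not
                exact ⟨Ne.symm n1, Ne.symm hy'.1, Ne.symm h7.1⟩
            have := Finset.card_le_card h10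
            omega
          exact hnofix y (Finset.mem_sdiff.1 hy).1 (Finset.mem_sdiff.1 hy).2 h8
        · by_contra n5
          have h10 : ({x, g x, g (g x), g (g (g x))} : Finset GolayPt) ⊆ o \ S := by
            intro z hz
            simp only [Finset.mem_insert, Finset.mem_singleton] at hz
            rcases hz with rfl | rfl | rfl | rfl
            · exact hx
            · exact hx1
            · exact hx2
            · exact hx3
          have n6 : g (g (g x)) ≠ g x := fun h => n4 (g.injective h)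
          have h11 : ({x, g x, g (g x), g (g (g x))} : Finset GolayPt).card = 4 := by
            rw [Finset.card_insert_of_notMem, Finset.card_insert_of_notMem, Finset.card_pair (Ne.symm n3)]
            · simp only [Finset.mem_insert, Finset.mem_singleton]
              push Not
              exact ⟨Ne.symm n2, Ne.symm n6⟩
            · simp only [Finset.mem_insert, Finset.mem_singleton]
              push Not
              exact ⟨Ne.symm n1, Ne.symm n4, Ne.symm n5⟩
          have := Finset.card_le_card h10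
          omega
      have hg3 : g ^ 3 = 1 := by
        have hM : g ^ 3 ∈ M24 := M24.pow_mem hg 3
        have e3 : ∀ x, (g ^ 3) x = g (g (g x)) := by
          intro x
          rw [pow_succ, pow_two]
          rfl
        refine M24Frame.eq_one_of_fix_frame hM ho (s := o) (Finset.Subset.refl _) (by rw [octad_card ho]; omega) ?_
          hfo (by rw [e3, h3, h3, h3])
        intro z hz
        rw [e3]
        by_cases hzS : z ∈ S
        · rw [h1 z hzS, h1 z hzS, h1 z hzS]
        · exact h33 z (Finset.mem_sdiff.2 ⟨hz, hzS⟩)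
      apply hg1
      have hfS : f ∉ S := hf
      refine seven_three hg hg3 (F := insert f (insert t S)) ?_ ?_ ?_
      · rw [Finset.card_insert_of_notMem (by rw [Finset.mem_insert]; push Not; exact ⟨hft, hf⟩),
          Finset.card_insert_of_notMem ht]
        omega
      · intro o' ho'
        by_contra hcon
        push Not at hcon
        have h4 : o = o' := by
          have h5' : 5 ≤ (o ∩ o').card := by
            rw [← h5]
            apply Finset.card_le_card
            intro x hx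
            rw [Finset.mem_inter]
            exact ⟨hS hx, hcon x (Finset.mem_insert_of_mem (Finset.mem_insert_of_mem hx))⟩
          rcases eq_octad_or ho ho' (by omega) with h | h
          · exact h
          · omega
        apply hfo
        rw [h4]
        exact hcon f (Finset.mem_insert_self _ _)
      · intro x hx
        rcases Finset.mem_insert.1 hx with rfl | hx
        · exact h3
        · rcases Finset.mem_insert.1 hx with rfl | hx
          · exact hgt
          · exact h1 x hx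

end Cfsg.Agent.KFacts.FiTTh.MvPt

end

-- merged: Cfsg.Agent.KFacts.FiTTh.GamCore
section

/-!
# Subgroups of `A = 2^11` closed under `N(A) ∩ C(u)`, `1 ≠ u ∈ U` (helper8)

`single` : such a subgroup `U` with at least two involutions contains one of the 23 transpositions `e p`.
-/

set_option autoImplicit false

namespace Cfsg.Agent.KFacts.FiTTh.GamCore

open Cfsg Subgroup
open Cfsg.Agent.SporadicA.GolayBase Cfsg.Agent.SporadicStructure
open Cfsg.Agent.KFacts.FiTTh.Uniq Cfsg.Agent.KFacts.FiTTh.MvPt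
open scoped Pointwise

variable {K : Type*} [Group K] {A : Subgroup K} {e : GolayPt → K} {pr : Finset GolayPt → K}
  {ind : ↥(normalizer (A : Set K)) →* ↥Spor.M23}

/-- the hypotheses -/
structure Hyp (A : Subgroup K) (e : GolayPt → K) (pr : Finset GolayPt → K)
    (ind : ↥(normalizer (A : Set K)) →* ↥Spor.M23) (U : Subgroup K) : Prop where
  loc : Loc A e pr ind
  zero : e none = 1
  oct : ∀ O ∈ octads, pr O = 1
  le : U ≤ A
  inv : ∀ u ∈ U, u ≠ 1 → ∀ n ∈ normalizer (A : Set K), n * u = u * n → ∀ v ∈ U, n * v * n⁻¹ ∈ U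

namespace Hyp

variable {U : Subgroup K} (h : Hyp A e pr ind U)

include h

theorem pr_ne_one {T : Finset GolayPt} (hn : none ∉ T) (hc : T.card ≤ 3) (hT : T.Nonempty) : pr T ≠ 1 := by
  intro h1
  rw [← h.loc.empty] at h1
  have := h.loc.inj T ∅ hn hc (Finset.notMem_empty _) (by rw [Finset.card_empty]; omega) h1
  rw [this] at hT
  exact Finset.not_nonempty_empty hT

/-- moving -/
theorem mv {X T : Finset GolayPt} (hX : pr X ∈ U) (hX1 : pr X ≠ 1) (hT : pr T ∈ U) {m : Equiv.Perm GolayPt}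
    (hm : m ∈ M24) (hmn : m none = none) (hmX : ∀ x ∈ X, m x = x) : pr (m • T) ∈ U := by
  obtain ⟨n, hn⟩ := h.loc.surj ⟨m, MTwThree.mem_M23.2 ⟨hm, hmn⟩⟩
  have h1 := h.loc.conj n T
  rw [hn] at h1
  have h2 := h.loc.conj n X
  rw [hn] at h2
  have h3 : (m • X : Finset GolayPt) = X := by
    ext x
    rw [Finset.mem_smul_finset]
    constructor
    · rintro ⟨y, hy, rfl⟩
      show m y ∈ X
      rw [hmX y hy]; exact hy
    · intro hx
      exact ⟨x, hx, hmX x hx⟩
  show pr (m • T) ∈ U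
  have h4 : (n : K) * pr X = pr X * n := by
    have h5 : (n : K) * pr X * (n : K)⁻¹ = pr X := by
      rw [h2]
      exact congrArg pr h3
    calc (n : K) * pr X = ((n : K) * pr X * (n : K)⁻¹) * n := by group
      _ = _ := by rw [h5]
  rw [← show (n : K) * pr T * (n : K)⁻¹ = pr (m • T) from h1]
  exact h.inv _ hX hX1 n n.2 h4 _ hT

/-- `m` fixes `none`, `X`, `T \ {t}` and moves `t ∈ T`: a pair -/
theorem pairof {X T : Finset GolayPt} (hX : pr X ∈ U) (hX1 : pr X ≠ 1) (hT : pr T ∈ U) {m : Equiv.Perm GolayPt}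
    (hm : m ∈ M24) (hmn : m none = none) (hmX : ∀ x ∈ X, m x = x) {t : GolayPt} (ht : t ∈ T)
    (hmT : ∀ x ∈ T, x ≠ t → m x = x) (hmt : m t ≠ t) : pr {t, m t} ∈ U := by
  classical
  have h1 := h.mv hX hX1 hT hm hmn hmX
  have h2 : symmDiff T (m • T) = {t, m t} := by
    have hmt' : m t ∉ T := by
      intro h3
      have h4 := hmT _ h3 hmt
      exact hmt (m.injective h4)
    ext x
    rw [Finset.mem_symmDiff, Finset.mem_insert, Finset.mem_singleton, Finset.mem_smul_finset]
    constructor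
    · rintro (⟨hx, hx'⟩ | ⟨⟨y, hy, rfl⟩, hx'⟩)
      · left
        by_contra hxt
        exact hx' ⟨x, hx, hmT x hx hxt⟩
      · right
        show m y = m t
        by_cases hyt : y = t
        · rw [hyt]
        · exfalso
          apply hx'
          show m y ∈ T
          rw [hmT y hy hyt]; exact hy
    · rintro (rfl | rfl)
      · left
        refine ⟨ht, ?_⟩
        rintro ⟨y, hy, hyx⟩
        have hyx' : m y = x := hyx
        by_cases hy' : y = x
        · rw [hy'] at hyx'; exact hmt hyx'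
        · rw [hmT y hy hy'] at hyx'
          exact hy' hyx'
      · right
        exact ⟨⟨t, ht, rfl⟩, hmt'⟩
  rw [← h2, h.loc.symm]
  exact U.mul_mem hT h1

/-- the elements `pr {p, r}` for fixed `p` -/
theorem pairs_all {p q r : GolayPt} (hp : p ≠ none) (hq : q ≠ none) (hr : r ≠ none) (hpq : p ≠ q) (hpr : p ≠ r)
    (hqr : q ≠ r) (h1 : pr {p, q} ∈ U) (h2 : pr {p, r} ∈ U) : ∀ r', r' ≠ none → e p * e r' ∈ U := by
  intro r' hr'
  by_cases hr'p : r' = p
  · rw [hr'p, h.loc.sq _ (by rw [← h.loc.single]; exact h.loc.mem _)]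
    exact U.one_mem
  by_cases hr'q : r' = q
  · rw [hr'q, ← h.loc.pair hpq]; exact h1
  obtain ⟨m, hm⟩ := BasCode.exists_map_emb (n := 4) (by norm_num)
    ⟨![none, p, q, r], by
      intro a b hab
      fin_cases a <;> fin_cases b <;>
        simp [hp, hq, hr, hpq, hpr, hqr, Ne.symm hp, Ne.symm hq, Ne.symm hr, Ne.symm hpq, Ne.symm hpr,
          Ne.symm hqr] at hab ⊢⟩
    ⟨![none, p, q, r'], by
      intro a b hab
      fin_cases a <;> fin_cases b <;>
        simp [hp, hq, hr', hpq, Ne.symm hp, Ne.symm hq, Ne.symm hr', Ne.symm hpq, hr'p, hr'q, Ne.symm hr'p,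
          Ne.symm hr'q] at hab ⊢⟩
  have m0 : (m : Equiv.Perm GolayPt) none = none := hm 0
  have m1 : (m : Equiv.Perm GolayPt) p = p := hm 1
  have m2 : (m : Equiv.Perm GolayPt) q = q := hm 2
  have m3 : (m : Equiv.Perm GolayPt) r = r' := hm 3
  have h3 := h.mv h1 (h.pr_ne_one (by simp [Ne.symm hp, Ne.symm hq]) (Finset.card_le_two.trans (by norm_num))
    ⟨p, by simp⟩) h2 m.2 m0 (by
      intro x hx
      rw [Finset.mem_insert, Finset.mem_singleton] at hx
      rcases hx with rfl | rfl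
      · exact m1
      · exact m2)
  rw [Loc.smul_pair, m1, m3, h.loc.pair (Ne.symm hr'p)] at h3
  exact h3

/-- two pairs with a common point -/
theorem of_overlap {p q r : GolayPt} (hp : p ≠ none) (hq : q ≠ none) (hr : r ≠ none) (hpq : p ≠ q) (hpr : p ≠ r)
    (hqr : q ≠ r) (h1 : pr {p, q} ∈ U) (h2 : pr {p, r} ∈ U) : ∃ p, p ≠ none ∧ e p ∈ U := by
  classical
  have hall := h.pairs_all hp hq hr hpq hpr hqr h1 h2
  have hmem : ∀ x, e x ∈ A := fun x => by rw [← h.loc.single]; exact h.loc.mem _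
  have key : ∀ T : Finset GolayPt, none ∉ T → pr T * e p ^ T.card ∈ U := by
    intro T
    induction T using Finset.induction_on with
    | empty =>
      intro _
      rw [h.loc.empty, Finset.card_empty, pow_zero, mul_one]
      exact U.one_mem
    | insert x T hx ih =>
      intro hn
      rw [Finset.mem_insert] at hn
      push Not at hn
      have h3 := hall x (Ne.symm hn.1)
      have h4 := ih hn.2
      rw [h.loc.insert_eq hx, Finset.card_insert_of_notMem hx, pow_succ]
      have h5 : e x * pr T * (e p ^ T.card * e p) = (e p * e x) * (pr T * e p ^ T.card) := by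
        have hpT : e p ^ T.card ∈ A := A.pow_mem (hmem p) _
        calc e x * pr T * (e p ^ T.card * e p) = (e x * (pr T * e p ^ T.card)) * e p := by group
          _ = e p * (e x * (pr T * e p ^ T.card)) :=
            h.loc.comm (A.mul_mem (hmem x) (A.mul_mem (h.loc.mem T) hpT)) (hmem p)
          _ = _ := by group
      rw [h5]
      exact U.mul_mem h3 h4
  obtain ⟨S, hS, hS5⟩ := Finset.exists_subset_card_eq (s := (Finset.univ : Finset GolayPt).erase none) (n := 4) (by
    rw [Finset.card_erase_of_mem (Finset.mem_univ _), Finset.card_univ, MTwThree.card_pts]; norm_num)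
  have hSn : none ∉ S := fun hn => Finset.notMem_erase _ _ (hS hn)
  obtain ⟨O, ⟨hO, hSO⟩, -⟩ := Cfsg.Agent.S0363.result.2 (insert none S) (by
    rw [Finset.card_insert_of_notMem hSn, hS5])
  have hnO : none ∈ O := hSO (Finset.mem_insert_self _ _)
  obtain ⟨x, hx⟩ : ∃ x, x ∈ S := by
    rw [← Finset.Nonempty, ← Finset.card_pos]; omega
  have hxO : x ∈ O := hSO (Finset.mem_insert_of_mem hx)
  have hxn : x ≠ none := fun h' => hSn (h' ▸ hx)
  set T := (O.erase none).erase x with hT
  have hxO' : x ∈ O.erase none := Finset.mem_erase.2 ⟨hxn, hxO⟩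
  have hc : T.card = 6 := by
    rw [hT, Finset.card_erase_of_mem hxO', Finset.card_erase_of_mem hnO, octad_card hO]
  have hnT : none ∉ T := fun h' => Finset.notMem_erase _ _ (Finset.mem_of_mem_erase h')
  have h3 := key T hnT
  have hsq : e p * e p = 1 := h.loc.sq _ (hmem p)
  have h6 : e p ^ 6 = 1 := by
    rw [show (6 : ℕ) = 2 * 3 from rfl, pow_mul, pow_two, hsq, one_pow]
  rw [hc, h6, mul_one] at h3
  have h7 : pr O = 1 := h.oct O hO
  rw [← Finset.insert_erase hnO, h.loc.insert_eq (Finset.notMem_erase _ _), h.zero, one_mul,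
    ← Finset.insert_erase hxO', h.loc.insert_eq (Finset.notMem_erase _ _)] at h7
  refine ⟨x, hxn, ?_⟩
  rw [eq_inv_of_mul_eq_one_left h7]
  exact U.inv_mem h3

omit h in
theorem card_le_five {X Y : Finset GolayPt} (hX : X.card ≤ 2) (hY : Y.card ≤ 2) :
    (insert none (X ∪ Y)).card ≤ 5 := by
  classical
  have h1 := Finset.card_insert_le none (X ∪ Y)
  have h2 := Finset.card_union_le X Y
  omega

/-- a pair and something else -/
theorem of_pair {X T : Finset GolayPt} (hX2 : X.card = 2) (hnX : none ∉ X) (hX : pr X ∈ U) (hT3 : T.card ≤ 3)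
    (hT0 : T.Nonempty) (hnT : none ∉ T) (hT : pr T ∈ U) (hne : T ≠ X) : ∃ p, p ≠ none ∧ e p ∈ U := by
  classical
  have hX1 : pr X ≠ 1 := h.pr_ne_one hnX (by omega) (Finset.card_pos.1 (by omega))
  by_cases hsub : T ⊆ X
  · -- a single point
    have h1 : T.card < 2 := by
      rw [← hX2]
      exact Finset.card_lt_card (Finset.ssubset_iff_subset_ne.2 ⟨hsub, hne⟩)
    have h2 : T.card = 1 := by
      have := Finset.card_pos.2 hT0
      omega
    obtain ⟨p, rfl⟩ := Finset.card_eq_one.1 h2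
    exact ⟨p, fun hp => hnT (by rw [hp]; exact Finset.mem_singleton_self _), by rw [← h.loc.single]; exact hT⟩
  · obtain ⟨t, ht, htX⟩ := Finset.not_subset.1 hsub
    have htn : t ≠ none := fun h' => hnT (h' ▸ ht)
    have hc1 : (T.erase t).card ≤ 2 := by rw [Finset.card_erase_of_mem ht]; omega
    obtain ⟨m, hm, hmF, hmt⟩ := mv_five (F := insert none (X ∪ T.erase t)) (t := t)
      (card_le_five (by omega) hc1) (by
        rw [Finset.mem_insert, Finset.mem_union]
        push Not
        exact ⟨htn, htX, Finset.notMem_erase _ _⟩)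
    have hmn : m none = none := hmF _ (Finset.mem_insert_self _ _)
    have hmX : ∀ x ∈ X, m x = x := fun x hx => hmF x (Finset.mem_insert_of_mem (Finset.mem_union_left _ hx))
    have h1 := h.pairof hX hX1 hT hm hmn hmX ht
      (fun x hx hxt => hmF x (Finset.mem_insert_of_mem (Finset.mem_union_right _ (Finset.mem_erase.2 ⟨hxt, hx⟩)))) hmt
    -- the pair `{t, t'}`, `t ∉ X`
    set t' := m t with ht'
    have ht'n : t' ≠ none := by
      intro h'
      rw [← hmn] at h'
      exact htn (m.injective h')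
    have htt : t ≠ t' := Ne.symm hmt
    have hc2 : ({t'} : Finset GolayPt).card ≤ 2 := by rw [Finset.card_singleton]; norm_num
    obtain ⟨m', hm', hmF', hmt'⟩ := mv_five (F := insert none (X ∪ {t'})) (t := t)
      (card_le_five (by omega) hc2) (by
        rw [Finset.mem_insert, Finset.mem_union, Finset.mem_singleton]
        push Not
        exact ⟨htn, htX, htt⟩)
    have hmn' : m' none = none := hmF' _ (Finset.mem_insert_self _ _)
    have hmX' : ∀ x ∈ X, m' x = x := fun x hx => hmF' x (Finset.mem_insert_of_mem (Finset.mem_union_left _ hx))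
    have hmt'' : m' t' = t' := hmF' t' (by simp)
    have h2 := h.mv hX hX1 h1 hm' hmn' hmX'
    rw [Loc.smul_pair, hmt''] at h2
    refine h.of_overlap (p := t') (q := t) (r := m' t) ht'n htn ?_ (Ne.symm htt) ?_ (Ne.symm hmt') ?_ ?_
    · intro h'
      rw [← hmn'] at h'
      exact htn (m'.injective h')
    · intro h'
      rw [← hmt''] at h'
      exact htt (m'.injective h').symm
    · rw [Finset.pair_comm]; exact h1
    · rw [Finset.pair_comm]; exact h2

omit h in
theorem bool_aux {W O N : Prop} (h1 : W → O) (h2 : N → O) (h3 : N → ¬ W) :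
    (W ∧ ¬ (N ∧ ¬ O ∨ O ∧ ¬ N) ∨ (N ∧ ¬ O ∨ O ∧ ¬ N) ∧ ¬ W) ↔ (O ∧ ¬ (N ∨ W)) := by
  by_cases hW : W <;> by_cases hO : O <;> by_cases hN : N <;> simp_all

set_option maxHeartbeats 1000000 in
theorem of_triple {X T : Finset GolayPt} (hX3 : X.card = 3) (hnX : none ∉ X) (hX : pr X ∈ U) (hT3 : T.card = 3)
    (hnT : none ∉ T) (hT : pr T ∈ U) (hne : T ≠ X) : ∃ p, p ≠ none ∧ e p ∈ U := by
  classical
  have hX1 : pr X ≠ 1 := h.pr_ne_one hnX (by omega) (Finset.card_pos.1 (by omega))
  have hXn : (insert none X : Finset GolayPt).card = 4 := by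
    rw [Finset.card_insert_of_notMem hnX]; omega
  -- the end of the argument: a pair
  have fin : ∀ m ∈ M24, m none = none → (∀ x ∈ X, m x = x) → ∀ t ∈ T, (∀ x ∈ T, x ≠ t → m x = x) → m t ≠ t →
      ∃ p, p ≠ none ∧ e p ∈ U := by
    intro m hm hmn hmX t ht hmT hmt
    have htn : t ≠ none := fun h' => hnT (h' ▸ ht)
    have h1 := h.pairof hX hX1 hT hm hmn hmX ht hmT hmt
    have hc : ({t, m t} : Finset GolayPt).card = 2 := Finset.card_pair (Ne.symm hmt)
    refine h.of_pair hc ?_ h1 (T := X) (by omega) (Finset.card_pos.1 (by omega)) hnX hX ?_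
    · rw [Finset.mem_insert, Finset.mem_singleton]
      rintro (h' | h')
      · exact htn h'.symm
      · rw [← hmn] at h'
        exact htn (m.injective h').symm
    · intro h'
      rw [← h'] at hc
      omega
  have hd : (T \ X).card + (T ∩ X).card = 3 := by
    rw [← hT3]; exact Finset.card_sdiff_add_card_inter T X
  have hd0 : (T \ X).Nonempty := by
    rw [Finset.sdiff_nonempty]
    intro hsub
    exact hne (Finset.eq_of_subset_of_card_le hsub (by omega))
  have hd1 := Finset.card_pos.2 hd0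
  by_cases h2 : (T \ X).card ≤ 2
  · obtain ⟨t, ht⟩ := hd0
    rw [Finset.mem_sdiff] at ht
    have htn : t ≠ none := fun h' => hnT (h' ▸ ht.1)
    obtain ⟨m, hm, hmF, hmt⟩ := mv_five (F := insert none X ∪ (T \ X).erase t) (t := t) (by
        have h3 := Finset.card_union_le (insert none X) ((T \ X).erase t)
        rw [Finset.card_erase_of_mem (Finset.mem_sdiff.2 ht)] at h3
        omega) (by
        rw [Finset.mem_union, Finset.mem_insert]
        push Not
        exact ⟨⟨htn, ht.2⟩, Finset.notMem_erase _ _⟩)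
    refine fin m hm (hmF _ (by simp)) (fun x hx => hmF x (by simp [hx])) t ht.1 ?_ hmt
    intro x hx hxt
    apply hmF
    rw [Finset.mem_union, Finset.mem_insert, Finset.mem_erase, Finset.mem_sdiff]
    by_cases hxX : x ∈ X
    · exact Or.inl (Or.inr hxX)
    · exact Or.inr ⟨hxt, hx, hxX⟩
  · -- disjoint
    have h3 : (T \ X).card = 3 := by omega
    have hTX : T \ X = T := Finset.eq_of_subset_of_card_le Finset.sdiff_subset (by omega)
    have hdis : ∀ x ∈ T, x ∉ X := fun x hx => by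
      rw [← hTX] at hx
      exact (Finset.mem_sdiff.1 hx).2
    obtain ⟨d, f, g, hdf, hdg, hfg, rfl⟩ := Finset.card_eq_three.1 hT3
    have hdT : d ∈ ({d, f, g} : Finset GolayPt) := by simp
    have hfT : f ∈ ({d, f, g} : Finset GolayPt) := by simp
    have hgT : g ∈ ({d, f, g} : Finset GolayPt) := by simp
    have hdn : d ≠ none := fun h' => hnT (h' ▸ hdT)
    have hfn : f ≠ none := fun h' => hnT (h' ▸ hfT)
    have hgn : g ≠ none := fun h' => hnT (h' ▸ hgT)
    have hdX := hdis d hdT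
    have hfX := hdis f hfT
    have hgX := hdis g hgT
    set S : Finset GolayPt := insert d (insert none X) with hS
    have hS5 : S.card = 5 := by
      rw [hS, Finset.card_insert_of_notMem, hXn]
      rw [Finset.mem_insert]
      push Not
      exact ⟨hdn, hdX⟩
    obtain ⟨o, ⟨ho, hSo⟩, -⟩ := Cfsg.Agent.S0363.result.2 S hS5
    have hfS : f ∉ S := by
      rw [hS, Finset.mem_insert, Finset.mem_insert]
      push Not
      exact ⟨Ne.symm hdf, hfn, hfX⟩
    have hgS : g ∉ S := by
      rw [hS, Finset.mem_insert, Finset.mem_insert]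
      push Not
      exact ⟨Ne.symm hdg, hgn, hgX⟩
    by_cases hboth : f ∈ o ∧ g ∈ o
    · -- the octad is `none, X, d, f, g, y`
      obtain ⟨hfo, hgo⟩ := hboth
      have hsub : insert none (X ∪ {d, f, g}) ⊆ o := by
        intro x hx
        rw [Finset.mem_insert, Finset.mem_union] at hx
        rcases hx with rfl | hx | hx
        · exact hSo (by rw [hS]; simp)
        · exact hSo (by rw [hS]; simp [hx])
        · simp only [Finset.mem_insert, Finset.mem_singleton] at hx
          rcases hx with rfl | rfl | rfl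
          · exact hSo (by rw [hS]; simp)
          · exact hfo
          · exact hgo
      have hdis' : Disjoint X ({d, f, g} : Finset GolayPt) := by
        rw [Finset.disjoint_left]
        intro x hx hx'
        exact hdis x hx' hx
      have hc7 : (insert none (X ∪ {d, f, g})).card = 7 := by
        rw [Finset.card_insert_of_notMem, Finset.card_union_of_disjoint hdis']
        · omega
        · rw [Finset.mem_union]
          push Not
          exact ⟨hnX, hnT⟩
      have hc1 : (o \ insert none (X ∪ {d, f, g})).card = 1 := by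
        rw [Finset.card_sdiff_of_subset hsub, octad_card ho, hc7]
      obtain ⟨y, hy⟩ := Finset.card_eq_one.1 hc1
      have hyn : y ≠ none := by
        rintro rfl
        have : none ∈ o \ insert none (X ∪ {d, f, g}) := by rw [hy]; simp
        rw [Finset.mem_sdiff] at this
        exact this.2 (Finset.mem_insert_self _ _)
      refine ⟨y, hyn, ?_⟩
      have h4 : symmDiff (symmDiff X {d, f, g}) (symmDiff {none} o) = {y} := by
        have hXT : symmDiff X {d, f, g} = X ∪ {d, f, g} := by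
          rw [hdis'.symmDiff_eq_sup]; rfl
        rw [hXT]
        ext x
        have hxy : x = y ↔ x ∈ o ∧ ¬ (x = none ∨ x ∈ X ∪ {d, f, g}) := by
          rw [← Finset.mem_singleton, ← hy, Finset.mem_sdiff, Finset.mem_insert]
        rw [Finset.mem_singleton, hxy, Finset.mem_symmDiff, Finset.mem_symmDiff, Finset.mem_singleton]
        have hno : (none : GolayPt) ∈ o := hsub (Finset.mem_insert_self _ _)
        have hnn : (none : GolayPt) ∉ X ∪ {d, f, g} := by
          rw [Finset.mem_union]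
          push Not
          exact ⟨hnX, hnT⟩
        have hx1 : x ∈ X ∪ {d, f, g} → x ∈ o := fun h' => hsub (Finset.mem_insert_of_mem h')
        have hx2 : x = none → x ∈ o := fun h' => h' ▸ hno
        have hx3 : x = none → x ∉ X ∪ {d, f, g} := fun h' => h' ▸ hnn
        exact bool_aux hx1 hx2 hx3
      rw [← h.loc.single, ← h4, h.loc.symm, h.loc.symm, h.loc.symm, h.loc.single, h.zero, h.oct o ho, mul_one, mul_one]
      exact U.mul_mem hX hT
    · obtain ⟨m, hm, hmS, hmf, hmg⟩ := mv_six ho hSo hS5 hfS hgS hfg hboth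
      refine fin m hm (hmS _ (by rw [hS]; simp)) (fun x hx => hmS x (by rw [hS]; simp [hx])) g hgT ?_ hmg
      intro x hx hxg
      simp only [Finset.mem_insert, Finset.mem_singleton] at hx
      rcases hx with rfl | rfl | rfl
      · exact hmS _ (by rw [hS]; simp)
      · exact hmf
      · exact absurd rfl hxg

/-- **main** -/
theorem single {x w : K} (hx : x ∈ U) (hx1 : x ≠ 1) (hw : w ∈ U) (hw1 : w ≠ 1) (hxw : x ≠ w) :
    ∃ p, p ≠ none ∧ e p ∈ U := by
  classical
  obtain ⟨X, hnX, hX3, rfl⟩ := h.loc.repr x (h.le hx)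
  obtain ⟨T, hnT, hT3, rfl⟩ := h.loc.repr w (h.le hw)
  have hX0 : X.Nonempty := by
    rw [Finset.nonempty_iff_ne_empty]
    rintro rfl
    exact hx1 h.loc.empty
  have hT0 : T.Nonempty := by
    rw [Finset.nonempty_iff_ne_empty]
    rintro rfl
    exact hw1 h.loc.empty
  have hne : X ≠ T := fun h' => hxw (by rw [h'])
  have hXp := Finset.card_pos.2 hX0
  have hTp := Finset.card_pos.2 hT0
  have one : ∀ Y : Finset GolayPt, Y.card = 1 → none ∉ Y → pr Y ∈ U → ∃ p, p ≠ none ∧ e p ∈ U := by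
    intro Y hY hn hYU
    obtain ⟨p, rfl⟩ := Finset.card_eq_one.1 hY
    exact ⟨p, fun hp => hn (by rw [hp]; exact Finset.mem_singleton_self _), by rw [← h.loc.single]; exact hYU⟩
  by_cases hc1 : X.card = 1
  · exact one X hc1 hnX hx
  by_cases hc1' : T.card = 1
  · exact one T hc1' hnT hw
  by_cases hc2 : X.card = 2
  · exact h.of_pair hc2 hnX hx hT3 hT0 hnT hw (Ne.symm hne)
  by_cases hc2' : T.card = 2
  · exact h.of_pair hc2' hnT hw hX3 hX0 hnX hx hne
  · exact h.of_triple (by omega) hnX hx (by omega) hnT hw (Ne.symm hne)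

end Hyp

end Cfsg.Agent.KFacts.FiTTh.GamCore

end

-- merged: Cfsg.Agent.KFacts.FiTTh.Gam
section

/-!
# Fi23: kind (GAM) of D4 (helper8)

`gam` : a subgroup `D` normalizing `B`, containing `C(b)` for all the involutions `b` of `B`, where `B` has two
commuting involutions, is the whole group.
-/

set_option autoImplicit false

namespace Cfsg.Agent.KFacts.FiTTh.Gam

open Cfsg Subgroup
open Cfsg.Agent.KFacts.FiTTh Cfsg.Agent.KFacts.FiTTh.Uniq
open Cfsg.Agent.OddHalf.D8.Fi23 (Sheet Code)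
open scoped Pointwise

variable {K : Type*} [Group K] {A : Subgroup K} {e : GolayPt → K} {pr : Finset GolayPt → K}
  {ind : ↥(normalizer (A : Set K)) →* ↥Spor.M23}

/-- the situation: `D` normalizes `B` and contains `C(b)` for the involutions `b` of `B` -/
structure Sit (B D : Subgroup K) : Prop where
  cen : ∀ b ∈ B, b * b = 1 → b ≠ 1 → ∀ c : K, c * b = b * c → c ∈ D
  nor : ∀ d ∈ D, ∀ n ∈ B, d * n * d⁻¹ ∈ B

theorem Sit.conj {B D : Subgroup K} (h : Sit B D) (g : K) :
    Sit (B.map (MulAut.conj g).toMonoidHom) (D.map (MulAut.conj g).toMonoidHom) := by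
  have hm : ∀ {H : Subgroup K} {y : K}, y ∈ H.map (MulAut.conj g).toMonoidHom ↔ g⁻¹ * y * g ∈ H := by
    intro H y
    constructor
    · rintro ⟨z, hz, rfl⟩
      show g⁻¹ * (g * z * g⁻¹) * g ∈ H
      rwa [show g⁻¹ * (g * z * g⁻¹) * g = z by group]
    · intro hy
      exact ⟨_, hy, by show g * (g⁻¹ * y * g) * g⁻¹ = y; group⟩
  constructor
  · intro b hb hbb hb1 c hc
    rw [hm] at hb ⊢
    refine h.cen _ hb ?_ ?_ _ ?_
    · calc g⁻¹ * b * g * (g⁻¹ * b * g) = g⁻¹ * (b * b) * g := by group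
        _ = 1 := by rw [hbb]; group
    · intro h1
      apply hb1
      calc b = g * (g⁻¹ * b * g) * g⁻¹ := by group
        _ = 1 := by rw [h1]; group
    · calc g⁻¹ * c * g * (g⁻¹ * b * g) = g⁻¹ * (c * b) * g := by group
        _ = g⁻¹ * (b * c) * g := by rw [hc]
        _ = _ := by group
  · intro d hd n hn
    rw [hm] at hd hn ⊢
    have := h.nor _ hd _ hn
    rwa [show g⁻¹ * d * g * (g⁻¹ * n * g) * (g⁻¹ * d * g)⁻¹ = g⁻¹ * (d * n * d⁻¹) * g by group] at this

/-! ### Step A: two involutions of `A` -/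

section

variable {S : Sylow 2 K} {s : Fin 23 ≃ ZMod 23}

theorem stepA [Finite K] (hl : Loc A e pr ind) (hz : e none = 1) (hoct : ∀ O ∈ octads, pr O = 1)
    (hs : Sheet K A S (fun i => e (some (s i)))) {B D : Subgroup K} (h : Sit B D) {x w : K} (hx : x ∈ A) (hxB : x ∈ B)
    (hx1 : x ≠ 1) (hw : w ∈ A) (hwB : w ∈ B) (hw1 : w ≠ 1) (hxw : x ≠ w) : D = ⊤ := by
  have H : GamCore.Hyp A e pr ind (B ⊓ A) :=
    { loc := hl
      zero := hz
      oct := hoct
      le := inf_le_right
      inv := by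
        intro u hu hu1 n hn hc v hv
        have hnD : n ∈ D := h.cen u hu.1 (hl.sq u hu.2) hu1 n hc
        exact ⟨h.nor n hnD v hv.1, (mem_normalizer_iff.1 hn v).1 hv.2⟩ }
  obtain ⟨p, hp, hpU⟩ := H.single (x := x) (w := w) ⟨hxB, hx⟩ hx1 ⟨hwB, hw⟩ hw1 hxw
  obtain ⟨i, rfl⟩ : ∃ i, p = some (s i) := by
    rcases p with _ | q
    · exact absurd rfl hp
    · exact ⟨s.symm q, by rw [Equiv.apply_symm_apply]⟩
  have hai : e (some (s i)) ≠ 1 := hl.single_ne hp
  have hsq : e (some (s i)) * e (some (s i)) = 1 := hl.sq _ hpU.2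
  -- an element of `A ∩ B` different from `1`, `e p`
  obtain ⟨v, hvA, hvB, hv1, hvp⟩ : ∃ v ∈ A, v ∈ B ∧ v ≠ 1 ∧ v ≠ e (some (s i)) := by
    by_cases hxp : x = e (some (s i))
    · exact ⟨w, hw, hwB, hw1, fun h' => hxw (hxp.trans h'.symm)⟩
    · exact ⟨x, hx, hxB, hx1, hxp⟩
  have hCD : ∀ c : K, c * e (some (s i)) = e (some (s i)) * c → c ∈ D := h.cen _ hpU.1 hsq hai
  have hnorm : ((B ⊓ centralizer ({e (some (s i))} : Set K)).subgroupOf
      (centralizer ({e (some (s i))} : Set K))).Normal := by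
    constructor
    intro n hn g
    rw [mem_subgroupOf] at hn ⊢
    exact ⟨h.nor g (hCD g (mem_centralizer_singleton_iff.1 g.2)) n hn.1, (g * n * g⁻¹).2⟩
  have hCB : centralizer ({e (some (s i))} : Set K) ≤ B := by
    rcases Cfsg.Agent.Lib.ComponentSolvable.quasisimple_normal_cases (hs.qs' i) hnorm with h1 | h1
    · intro c hc
      have : (⟨c, hc⟩ : centralizer ({e (some (s i))} : Set K)) ∈ (B ⊓ centralizer ({e (some (s i))} : Set K)).subgroupOf
          (centralizer ({e (some (s i))} : Set K)) := by rw [h1]; exact mem_top _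
      rw [mem_subgroupOf] at this
      exact this.1
    · exfalso
      have hvC : v ∈ centralizer ({e (some (s i))} : Set K) :=
        mem_centralizer_singleton_iff.2 (hl.comm hvA hpU.2)
      have h2 : (⟨v, hvC⟩ : centralizer ({e (some (s i))} : Set K)) ∈ center _ := h1 (by
        rw [mem_subgroupOf]
        exact ⟨hvB, hvC⟩)
      rcases hs.cen' i (x := v) (fun y hy => by
        have h3 := mem_center_iff.1 h2 ⟨y, mem_centralizer_singleton_iff.2 hy⟩
        exact (congrArg Subtype.val h3).symm) with h4 | h4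
      · exact hv1 h4
      · exact hvp h4
  obtain ⟨j, hij⟩ : ∃ j, i ≠ j := by
    obtain ⟨j, k, h1, -, -⟩ := OddHalf.D8.Fi23.exists_two i
    exact ⟨j, h1⟩
  have hjA : e (some (s j)) ∈ A := hs.mem j
  have hjB : e (some (s j)) ∈ B := hCB (mem_centralizer_singleton_iff.2 (hl.comm hjA hpU.2))
  have hj1 : e (some (s j)) ≠ 1 := hl.single_ne (by simp)
  rw [eq_top_iff, ← hs.gen' hij]
  refine sup_le (fun c hc => hCD c (mem_centralizer_singleton_iff.1 hc)) (fun c hc => ?_)
  exact h.cen _ hjB (hl.sq _ hjA) hj1 c (mem_centralizer_singleton_iff.1 hc)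

/-! ### Step B: a Sylow subgroup centralizing `x ∈ A` -/

theorem exists_move (hl : Loc A e pr ind) {T T' : Finset GolayPt} (hn : none ∉ T) (hn' : none ∉ T')
    (hc : T.card = T'.card) (h3 : T.card ≤ 3) : ∃ n ∈ normalizer (A : Set K), n * pr T * n⁻¹ = pr T' := by
  classical
  let f : Fin T.card ≃ T := (Finset.equivFin T).symm
  let f' : Fin T.card ≃ T' := (Finset.equivFinOfCardEq hc.symm).symm
  have hemb : ∀ {U : Finset GolayPt} (g : Fin T.card ≃ U), none ∉ U →
      Function.Injective (Fin.cons none (fun i => ((g i : U) : GolayPt)) : Fin (T.card + 1) → GolayPt) := by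
    intro U g hU
    rw [Fin.cons_injective_iff]
    refine ⟨?_, fun i j h => g.injective (Subtype.ext h)⟩
    rintro ⟨i, hi⟩
    exact hU (hi ▸ (g i).2)
  obtain ⟨m, hm⟩ := BasCode.exists_map_emb (n := T.card + 1) (by omega) ⟨_, hemb f hn⟩ ⟨_, hemb f' hn'⟩
  have hm0 : (m : Equiv.Perm GolayPt) none = none := hm 0
  obtain ⟨n, hn1⟩ := hl.surj ⟨(m : Equiv.Perm GolayPt), MTwThree.mem_M23.2 ⟨m.2, hm0⟩⟩
  refine ⟨n, n.2, ?_⟩
  rw [hl.conj, hn1]
  congr 1
  show (m : Equiv.Perm GolayPt) • T = T'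
  ext x
  rw [Finset.mem_smul_finset]
  constructor
  · rintro ⟨y, hy, rfl⟩
    have h1 := hm (Fin.succ (f.symm ⟨y, hy⟩))
    have h2 : (m : Equiv.Perm GolayPt) ((f (f.symm ⟨y, hy⟩) : T) : GolayPt) =
        ((f' (f.symm ⟨y, hy⟩) : T') : GolayPt) := h1
    rw [Equiv.apply_symm_apply] at h2
    show (m : Equiv.Perm GolayPt) y ∈ T'
    have h3 : (m : Equiv.Perm GolayPt) y = ((f' (f.symm ⟨y, hy⟩) : T') : GolayPt) := h2
    rw [h3]
    exact (f' _).2
  · intro hx
    refine ⟨(f (f'.symm ⟨x, hx⟩) : T), (f _).2, ?_⟩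
    have h1 := hm (Fin.succ (f'.symm ⟨x, hx⟩))
    have h2 : (m : Equiv.Perm GolayPt) ((f (f'.symm ⟨x, hx⟩) : T) : GolayPt) =
        ((f' (f'.symm ⟨x, hx⟩) : T') : GolayPt) := h1
    rw [Equiv.apply_symm_apply] at h2
    exact h2

theorem card_sets {k : ℕ} (hk : k = 1 ∨ k = 2 ∨ k = 3) :
    ¬ 2 ∣ Nat.card {T : Finset GolayPt // none ∉ T ∧ T.card = k} := by
  classical
  have h1 : Nat.card {T : Finset GolayPt // none ∉ T ∧ T.card = k} =
      (Finset.powersetCard k ((Finset.univ : Finset GolayPt).erase none)).card := by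
    rw [Nat.card_eq_fintype_card, Fintype.card_subtype]
    congr 1
    ext T
    rw [Finset.mem_filter, Finset.mem_powersetCard]
    constructor
    · rintro ⟨-, hn, hc⟩
      exact ⟨fun x hx => Finset.mem_erase.2 ⟨fun h => hn (h ▸ hx), Finset.mem_univ _⟩, hc⟩
    · rintro ⟨hs, hc⟩
      exact ⟨Finset.mem_univ _, fun hn => Finset.notMem_erase _ _ (hs hn), hc⟩
  rw [h1, Finset.card_powersetCard, Finset.card_erase_of_mem (Finset.mem_univ _), Finset.card_univ,
    MTwThree.card_pts]
  rcases hk with rfl | rfl | rfl <;> decide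

theorem exists_fixed [Finite K] (hl : Loc A e pr ind) (P : Sylow 2 K) (hP : (P : Subgroup K) ≤ normalizer (A : Set K))
    {k : ℕ} (hk : k = 1 ∨ k = 2 ∨ k = 3) :
    ∃ T : Finset GolayPt, none ∉ T ∧ T.card = k ∧ ∀ g ∈ P, g * pr T = pr T * g := by
  classical
  let Ω := {T : Finset GolayPt // none ∉ T ∧ T.card = k}
  let act : MulAction ↥(P : Subgroup K) Ω :=
    { smul := fun g T => ⟨((ind ⟨g, hP g.2⟩ : Spor.M23) : Equiv.Perm GolayPt) • T.1, by
        constructor
        · rw [Finset.mem_smul_finset]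
          rintro ⟨y, hy, hyn⟩
          have h1 : ((ind ⟨g, hP g.2⟩ : Spor.M23) : Equiv.Perm GolayPt) y =
            ((ind ⟨g, hP g.2⟩ : Spor.M23) : Equiv.Perm GolayPt) none := by
              rw [BasSheet.ind_none]; exact hyn
          exact T.2.1 ((Equiv.injective _ h1) ▸ hy)
        · rw [Finset.card_smul_finset]; exact T.2.2⟩
      one_smul := fun T => Subtype.ext (by
        show ((ind ⟨((1 : ↥(P : Subgroup K)) : K), _⟩ : Spor.M23) : Equiv.Perm GolayPt) • T.1 = T.1
        have h1 : (⟨((1 : ↥(P : Subgroup K)) : K), hP (1 : ↥(P : Subgroup K)).2⟩ : ↥(normalizer (A : Set K))) = 1 := rfl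
        rw [h1, map_one]
        exact one_smul _ _)
      mul_smul := fun g g' T => Subtype.ext (by
        show ((ind ⟨((g * g' : ↥(P : Subgroup K)) : K), _⟩ : Spor.M23) : Equiv.Perm GolayPt) • T.1 =
          ((ind ⟨g, hP g.2⟩ : Spor.M23) : Equiv.Perm GolayPt) • (((ind ⟨g', hP g'.2⟩ : Spor.M23) : Equiv.Perm GolayPt) • T.1)
        have h1 : (⟨((g * g' : ↥(P : Subgroup K)) : K), hP (g * g').2⟩ : ↥(normalizer (A : Set K))) =
          ⟨g, hP g.2⟩ * ⟨g', hP g'.2⟩ := rfl
        rw [h1, map_mul, ← mul_smul]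
        rfl) }
  have hfin : Finite Ω := by infer_instance
  obtain ⟨T, hT⟩ := P.isPGroup'.nonempty_fixed_point_of_prime_not_dvd_card Ω (card_sets hk)
  refine ⟨T.1, T.2.1, T.2.2, fun g hg => ?_⟩
  have h1 := congrArg Subtype.val (hT ⟨g, hg⟩)
  have h2 : ((ind ⟨g, hP hg⟩ : Spor.M23) : Equiv.Perm GolayPt) • T.1 = T.1 := h1
  have h3 := hl.conj ⟨g, hP hg⟩ T.1
  rw [h2] at h3
  have h4 : g * pr T.1 * g⁻¹ = pr T.1 := h3
  calc g * pr T.1 = (g * pr T.1 * g⁻¹) * g := by group
    _ = pr T.1 * g := by rw [h4]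

/-- a Sylow 2-subgroup between `A` and `N(A)`, centralizing `x ∈ A` -/
theorem exists_sylow [Finite K] (hl : Loc A e pr ind) (hodd : ¬ 2 ∣ (normalizer (A : Set K)).index) {x : K}
    (hx : x ∈ A) : ∃ P : Sylow 2 K, (P : Subgroup K) ≤ normalizer (A : Set K) ∧ ∀ g ∈ P, g * x = x * g := by
  obtain ⟨P, hP⟩ := Loc.exists_sylow hodd
  obtain ⟨X, hnX, hX3, rfl⟩ := hl.repr x hx
  by_cases h0 : X.card = 0
  · refine ⟨P, hP, fun g _ => ?_⟩
    rw [Finset.card_eq_zero.1 h0, hl.empty, one_mul, mul_one]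
  obtain ⟨T, hT, hTc, hT'⟩ := exists_fixed hl P hP (k := X.card) (by omega)
  obtain ⟨n, hn, hnT⟩ := exists_move hl hT hnX hTc (by omega)
  have hmem : ∀ {y : K}, y ∈ (n • P : Sylow 2 K) ↔ n⁻¹ * y * n ∈ P := by
    intro y
    have h0 : y ∈ (n • P : Sylow 2 K) ↔ y ∈ MulAut.conj n • (P : Subgroup K) := Iff.rfl
    rw [h0, Subgroup.mem_pointwise_smul_iff_inv_smul_mem, ← map_inv, MulAut.smul_def, MulAut.conj_apply, inv_inv]
    exact Iff.rfl
  refine ⟨n • P, ?_, ?_⟩
  · intro y hy
    have h1 := hP (hmem.1 hy)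
    have h2 := (normalizer (A : Set K)).mul_mem ((normalizer (A : Set K)).mul_mem hn h1)
      ((normalizer (A : Set K)).inv_mem hn)
    rwa [show n * (n⁻¹ * y * n) * n⁻¹ = y by group] at h2
  · intro g hg
    have h1 := hT' _ (hmem.1 hg)
    rw [← hnT]
    calc g * (n * pr T * n⁻¹) = n * ((n⁻¹ * g * n) * pr T) * n⁻¹ := by group
      _ = n * (pr T * (n⁻¹ * g * n)) * n⁻¹ := by rw [h1]
      _ = _ := by group

/-- an element `w ∈ N(A)` with `[w, A] ≤ ⟨x⟩` is in `A` -/
theorem mem_of_comm [Finite K] (hs : Sheet K A S (fun i => e (some (s i)))) {w x : K}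
    (hw : w ∈ normalizer (A : Set K)) (h : ∀ a ∈ A, w * a * w⁻¹ * a⁻¹ = 1 ∨ w * a * w⁻¹ * a⁻¹ = x) : w ∈ A := by
  classical
  have C := hs.code
  set a : Fin 23 → K := fun i => e (some (s i)) with ha
  by_cases hall : ∀ i, w * a i = a i * w
  · apply hs.fix w hw
    have h1 : {i | w * a i = a i * w} = Set.univ := by
      ext i; simp [hall i]
    rw [h1, Set.ncard_univ, Nat.card_eq_fintype_card, Fintype.card_fin]
    norm_num
  · push Not at hall
    obtain ⟨i0, hi0⟩ := hall
    have key : ∀ i, w * a i ≠ a i * w → ∃ j, j ≠ i ∧ x = a j * a i := by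
      intro i hi
      obtain ⟨j, hj⟩ := hs.perm w hw i
      have hj' : w * a i * w⁻¹ = a j := hj
      refine ⟨j, ?_, ?_⟩
      · rintro rfl
        apply hi
        calc w * a j = (w * a j * w⁻¹) * w := by group
          _ = a j * w := by rw [hj']
      · rcases h (a i) (hs.mem i) with h1 | h1
        · exfalso
          apply hi
          rw [mul_inv_eq_one] at h1
          calc w * a i = (w * a i * w⁻¹) * w := by group
            _ = a i * w := by rw [h1]
        · rw [← h1, hj', C.inv_eq (hs.mem i)]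
    obtain ⟨j0, hj0, hx0⟩ := key i0 hi0
    apply hs.fix w hw
    have h2 : ((Finset.univ \ {i0, j0} : Finset (Fin 23)) : Set (Fin 23)) ⊆ {i | w * a i = a i * w} := by
      intro i hi
      rw [Finset.mem_coe, Finset.mem_sdiff, Finset.mem_insert, Finset.mem_singleton] at hi
      by_contra hne
      obtain ⟨j, hj, hxj⟩ := key i hne
      have h3 : C.pr {j, i} = C.pr {j0, i0} := by
        rw [C.pr_pair hj, C.pr_pair hj0, ← hxj, hx0]
      have h4 := C.inj (Finset.card_le_two.trans (by norm_num)) (Finset.card_le_two.trans (by norm_num)) h3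
      have h5 : i ∈ ({j0, i0} : Finset (Fin 23)) := by rw [← h4]; simp
      rw [Finset.mem_insert, Finset.mem_singleton] at h5
      exact hi.2 h5.symm
    have h3 := Set.ncard_le_ncard h2 (Set.toFinite _)
    rw [Set.ncard_coe_finset, Finset.card_sdiff_of_subset (Finset.subset_univ _), Finset.card_univ,
      Fintype.card_fin] at h3
    have h4 : ({i0, j0} : Finset (Fin 23)).card ≤ 2 := Finset.card_le_two
    refine le_trans ?_ h3
    omega

theorem stepB [Finite K] (hl : Loc A e pr ind) (hz : e none = 1) (hoct : ∀ O ∈ octads, pr O = 1)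
    (hodd : ¬ 2 ∣ (normalizer (A : Set K)).index)
    (hs : Sheet K A S (fun i => e (some (s i)))) {B D : Subgroup K} (h : Sit B D) {x x' : K} (hx : x ∈ A)
    (hxB : x ∈ B) (hx1 : x ≠ 1) (hxB' : x' ∈ B) (hxx' : x' * x' = 1) (hx1' : x' ≠ 1) (hc : x * x' = x' * x)
    (hne : x ≠ x') : D = ⊤ := by
  have hsq : x * x = 1 := hl.sq x hx
  obtain ⟨P, hPN, hPx⟩ := exists_sylow hl hodd hx
  have hCD : ∀ c : K, c * x = x * c → c ∈ D := h.cen x hxB hsq hx1
  -- conjugate `x'` into `P`
  obtain ⟨c, hcx, hcP⟩ : ∃ c : K, c * x = x * c ∧ c * x' * c⁻¹ ∈ P := by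
    set C : Subgroup K := centralizer ({x} : Set K) with hC
    have hPC : (P : Subgroup K) ≤ C := fun g hg => mem_centralizer_singleton_iff.2 (hPx g hg)
    have hx'C : x' ∈ C := mem_centralizer_singleton_iff.2 hc.symm
    have h2 : IsPGroup 2 (zpowers (⟨x', hx'C⟩ : C)) := by
      rintro ⟨y, hy⟩
      refine ⟨1, ?_⟩
      obtain ⟨k, rfl⟩ := mem_zpowers_iff.1 hy
      apply Subtype.ext
      have h3 : (⟨x', hx'C⟩ : C) * ⟨x', hx'C⟩ = 1 := Subtype.ext hxx'
      show ((⟨x', hx'C⟩ : C) ^ k) ^ 2 ^ 1 = 1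
      rw [pow_one, pow_two, ← zpow_add, ← two_mul, zpow_mul, zpow_two, h3, one_zpow]
    obtain ⟨Q, hQ⟩ := h2.exists_le_sylow
    obtain ⟨c, hcQ⟩ := MulAction.exists_smul_eq C Q (P.subtype hPC)
    refine ⟨c, mem_centralizer_singleton_iff.1 c.2, ?_⟩
    have h4 : c * ⟨x', hx'C⟩ * c⁻¹ ∈ P.subtype hPC := by
      rw [← hcQ]
      exact ⟨⟨x', hx'C⟩, hQ (mem_zpowers _), rfl⟩
    exact h4
  set w1 := c * x' * c⁻¹ with hw1
  have hw1B : w1 ∈ B := h.nor c (hCD c hcx) x' hxB'
  have hw11 : w1 ≠ 1 := by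
    intro h'
    apply hx1'
    calc x' = c⁻¹ * w1 * c := by rw [hw1]; group
      _ = 1 := by rw [h']; group
  have hw1x : x ≠ w1 := by
    intro h'
    apply hne
    calc x = c⁻¹ * (c * x) := by group
      _ = c⁻¹ * (x * c) := by rw [hcx]
      _ = c⁻¹ * (w1 * c) := by rw [← h']
      _ = x' := by rw [hw1]; group
  have hw1N : w1 ∈ normalizer (A : Set K) := hPN hcP
  by_cases hw1A : w1 ∈ A
  · exact stepA hl hz hoct hs h hx hxB hx1 hw1A hw1B hw11 hw1x
  · obtain ⟨a, ha, ha1, hax⟩ : ∃ a ∈ A, w1 * a * w1⁻¹ * a⁻¹ ≠ 1 ∧ w1 * a * w1⁻¹ * a⁻¹ ≠ x := by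
      by_contra hcon
      push Not at hcon
      apply hw1A
      apply mem_of_comm (x := x) hs hw1N
      intro a ha
      by_cases h1 : w1 * a * w1⁻¹ * a⁻¹ = 1
      · exact Or.inl h1
      · exact Or.inr (hcon a ha h1)
    refine stepA hl hz hoct hs h hx hxB hx1 (w := w1 * a * w1⁻¹ * a⁻¹) ?_ ?_ ha1 (Ne.symm hax)
    · exact A.mul_mem ((mem_normalizer_iff.1 hw1N a).1 ha) (A.inv_mem ha)
    · have haD : a ∈ D := hCD a (hl.comm ha hx)
      have h1 := h.nor a haD w1⁻¹ (B.inv_mem hw1B)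
      have h2 := B.mul_mem hw1B h1
      rwa [show w1 * (a * w1⁻¹ * a⁻¹) = w1 * a * w1⁻¹ * a⁻¹ by group] at h2

theorem stepC [Finite K] (hl : Loc A e pr ind) (hz : e none = 1) (hoct : ∀ O ∈ octads, pr O = 1)
    (hodd : ¬ 2 ∣ (normalizer (A : Set K)).index) (hconj : ∀ t : K, t * t = 1 → ∃ y ∈ A, IsConj t y)
    (hs : Sheet K A S (fun i => e (some (s i)))) {B D : Subgroup K} (h : Sit B D) {x x' : K} (hsq : x * x = 1)
    (hxB : x ∈ B) (hx1 : x ≠ 1) (hxB' : x' ∈ B) (hxx' : x' * x' = 1) (hx1' : x' ≠ 1) (hc : x * x' = x' * x)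
    (hne : x ≠ x') : D = ⊤ := by
  obtain ⟨y, hy, hxy⟩ := hconj x hsq
  obtain ⟨g, hg⟩ := isConj_iff.1 hxy
  have h1 := stepB hl hz hoct hodd hs (h.conj g) (x := y) (x' := g * x' * g⁻¹) hy ⟨x, hxB, hg⟩ (by
    intro h'
    apply hx1
    calc x = g⁻¹ * (g * x * g⁻¹) * g := by group
      _ = 1 := by rw [hg, h']; group) ⟨x', hxB', rfl⟩ (by
    calc g * x' * g⁻¹ * (g * x' * g⁻¹) = g * (x' * x') * g⁻¹ := by group
      _ = 1 := by rw [hxx']; group) (by
    intro h'
    apply hx1'
    calc x' = g⁻¹ * (g * x' * g⁻¹) * g := by group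
      _ = 1 := by rw [h']; group) (by
    rw [← hg]
    calc g * x * g⁻¹ * (g * x' * g⁻¹) = g * (x * x') * g⁻¹ := by group
      _ = g * (x' * x) * g⁻¹ := by rw [hc]
      _ = _ := by group) (by
    rw [← hg]
    intro h'
    exact hne (mul_left_cancel (mul_right_cancel h')))
  rw [eq_top_iff]
  intro z _
  have h2 : g * z * g⁻¹ ∈ D.map (MulAut.conj g).toMonoidHom := by rw [h1]; exact mem_top _
  obtain ⟨z', hz', hzz⟩ := h2
  have h3 : g * z' * g⁻¹ = g * z * g⁻¹ := hzz
  rw [← mul_left_cancel (mul_right_cancel h3)]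
  exact hz'

end

/-- **kind (GAM) for `Fi23`** -/
theorem gam (B D : Subgroup Spor.Fi23) (hB : ∀ b ∈ B, b * b = 1 → b ≠ 1 → ∀ c, c * b = b * c → c ∈ D)
    (hD : ∀ d ∈ D, ∀ n ∈ B, d * n * d⁻¹ ∈ B) (x : Spor.Fi23) (hx : x ∈ B) (hxx : x * x = 1) (hx1 : x ≠ 1)
    (x' : Spor.Fi23) (hx' : x' ∈ B) (hxx' : x' * x' = 1) (hx1' : x' ≠ 1) (hc : x * x' = x' * x) (hne : x ≠ x') :
    D = ⊤ := by
  obtain ⟨S, hS⟩ := Has.sheet
  have hfin : Finite Spor.Fi23 := by infer_instance
  exact stepC Has.loc BasFi.pre.zero (fun O hO => BasFi.pre.pr_oct hO) Has.odd (fun t ht => Has.exists_conj ht) hS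
    ⟨hB, hD⟩ hxx hx hx1 hx' hxx' hx1' hc hne

end Cfsg.Agent.KFacts.FiTTh.Gam

end
end

-- part: OddHalf/D4/Sp2/Main
section
prune_inst 0x4202070645900020000180012e0001c66de0001020048800019e00d06048fde6129462861fce00f100032885420340068171810142228000000008a00411905a18428d2069348a104060009807886000000000000000000000000000000041000200000000
set_option linter.all false
open scoped Cfsg.Agent.FastGrp

/-!
# D4 for `Sp_2n(2)`, `n ≥ 4`: no pair
-/

set_option autoImplicit false

namespace Cfsg.Agent.OddHalf.D4.Sp2.Main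

open Subgroup Cfsg.Agent.OddHalf.D4.KPair Cfsg.Agent.OddHalf.D4.Sp2.Model
open Cfsg.Agent.OddHalf.D4.Sp2.Model.Mod (Ctl)

variable {K V : Type*} [Group K] [AddCommGroup V] [Module (ZMod 2) V] (M : Mod K V)

include M in
theorem center_trivial {z : K} (h : ∀ k, k * z = z * k) : z = 1 := by
  apply M.ext
  intro v
  rw [M.one_apply, ← M.comm_t, h]

include M in
theorem conj_injective : Function.Injective (MulAut.conj : K →* MulAut K) := by
  rw [injective_iff_map_eq_one]
  intro z hz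
  apply center_trivial M
  intro k
  have h1 : MulAut.conj z k = k := by rw [hz]; rfl
  rw [MulAut.conj_apply, mul_inv_eq_iff_eq_mul] at h1
  exact h1.symm

theorem conj_commute {u k : K} : MulAut.conj u k = k ↔ k * u = u * k := by
  rw [MulAut.conj_apply, mul_inv_eq_iff_eq_mul, eq_comm]

include M in
/-- K-fact: no odd normal subgroups in centralizers of involutions -/
theorem noCore {R : Subgroup (MulAut K)} (out : ∀ α : MulAut K, ∃ k, α = MulAut.conj k) : NoCore R := by
  intro r _ hrr hr1 Y hY hYn ho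
  obtain ⟨u, rfl⟩ := out r
  have huu : u * u = 1 := by
    apply conj_injective M
    rw [map_mul, hrr, map_one]
  have hu1 : u ≠ 1 := by
    rintro rfl
    exact hr1 (map_one _)
  have hodd : ∀ y ∈ Y, y * y = 1 → y = 1 := by
    intro y hy hyy
    have h1 : orderOf (⟨y, hy⟩ : ↥Y) ∣ Nat.card ↥Y := _root_.orderOf_dvd_natCard _
    rw [Subgroup.orderOf_mk] at h1
    have h2 : orderOf y ∣ 2 := orderOf_dvd_of_pow_eq_one (by rw [pow_two]; exact hyy)
    have h3 : Nat.Coprime (Nat.card ↥Y) 2 := ho.coprime_two_right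
    exact orderOf_eq_one_iff.mp (Nat.eq_one_of_dvd_coprimes h3 h1 h2)
  have hYn' : ∀ k, k * u = u * k → ∀ y ∈ Y, k * y * k⁻¹ ∈ Y := fun k hk => hYn k (conj_commute.mpr hk)
  rw [eq_bot_iff]
  intro y hy
  rw [mem_bot]
  apply hodd y hy
  apply M.sq_of_fix huu
  apply M.gen_fix (N := Y) huu hu1
  · intro a b hab hmem
    have h1 := hodd _ hmem (by
      have h2 := M.t_comm hab
      calc M.t a * M.t b * (M.t a * M.t b) = M.t a * (M.t b * M.t a) * M.t b := by group
        _ = M.t a * (M.t a * M.t b) * M.t b := by rw [h2]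
        _ = (M.t a * M.t a) * (M.t b * M.t b) := by group
        _ = 1 := by rw [M.t_mul_self, M.t_mul_self, one_mul])
    apply M.t_inj
    rw [← M.t_inv b]
    exact mul_eq_one_iff_eq_inv.mp h1
  · exact conj_commute.mp (hY y hy)
  · intro d hd
    have h1 := Y.mul_mem (hYn' d hd y hy) (Y.inv_mem hy)
    have e : d * (y * d⁻¹ * y⁻¹) = d * y * d⁻¹ * y⁻¹ := by group
    rwa [e]

variable {D N : Subgroup K} {R : Subgroup (MulAut K)}

/-- `y` induces an element of `R` -/
def Rk (R : Subgroup (MulAut K)) : Subgroup K := R.comap MulAut.conj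

include M in
theorem four (P : Pair D N R) (out : ∀ α : MulAut K, ∃ k, α = MulAut.conj k) :
    ∃ a ∈ Rk R, ∃ b ∈ Rk R, a * a = 1 ∧ b * b = 1 ∧ a ≠ 1 ∧ b ≠ 1 ∧ a ≠ b := by
  obtain ⟨a, ha, b, hb, haa, hbb, _, ha1, hb1, hne⟩ := P.four
  obtain ⟨x, rfl⟩ := out a
  obtain ⟨y, rfl⟩ := out b
  refine ⟨x, ha, y, hb, conj_injective M (by rw [map_mul, haa, map_one]),
    conj_injective M (by rw [map_mul, hbb, map_one]), ?_, ?_, ?_⟩
  · rintro rfl; exact ha1 (map_one _)
  · rintro rfl; exact hb1 (map_one _)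
  · rintro rfl; exact hne rfl

include M in
theorem not_pair (P : Pair D N R) (out : ∀ α : MulAut K, ∃ k, α = MulAut.conj k) (w : K)
    (h : ∀ y ∈ Rk R, y = 1 ∨ y = w) : False := by
  obtain ⟨a, ha, b, hb, _, _, ha1, hb1, hne⟩ := four M P out
  apply hne
  rw [(h a ha).resolve_left ha1, (h b hb).resolve_left hb1]

include M in
theorem cent_Rk (P : Pair D N R) {y : K} (hy : y ∈ Rk R) (hyy : y * y = 1) (hy1 : y ≠ 1) {k : K}
    (hk : k * y = y * k) : k ∈ D := by
  apply P.centR _ hy (by rw [← map_mul, hyy, map_one]) _ k (conj_commute.mpr hk)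
  intro h
  exact hy1 (conj_injective M (by rw [h, map_one]))

theorem comm_Rk (P : Pair D N R) {y d : K} (hy : y ∈ Rk R) (hd : d ∈ D) : d * (y * d⁻¹ * y⁻¹) ∈ N := by
  have h := P.comm _ hy d hd
  rw [MulAut.conj_apply] at h
  have e : (y * d * y⁻¹)⁻¹ = y * d⁻¹ * y⁻¹ := by group
  rwa [e] at h

/-- control from `C(w) ≤ D` -/
theorem ctl_Rk (P : Pair D N R) {w y : K} (hC : ∀ d, d * w = w * d → d ∈ D) (hy : y ∈ Rk R) : Ctl N w y :=
  fun d hd => comm_Rk P hy (hC d hd)

theorem ctl_N (P : Pair D N R) {w y : K} (hC : ∀ d, d * w = w * d → d ∈ D) (hy : y ∈ N) : Ctl N w y := by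
  intro d hd
  have h1 := N.mul_mem (P.norm d (hC d hd) y hy) (N.inv_mem hy)
  have e : d * (y * d⁻¹ * y⁻¹) = d * y * d⁻¹ * y⁻¹ := by group
  rwa [e]

theorem pair_isPGroup {w : K} (hww : w * w = 1) (h : ∀ x ∈ N, x = 1 ∨ x = w) : IsPGroup 2 ↥N := by
  intro x
  refine ⟨1, ?_⟩
  apply Subtype.ext
  rw [pow_one, SubmonoidClass.coe_pow, pow_two]
  rcases h x x.2 with h1 | h1
  · rw [h1, one_mul]; rfl
  · rw [h1, hww]; rfl

/-- the end when `N = {1, w}` and `w` is not a transvection -/
theorem finish (P : Pair D N R) (out : ∀ α : MulAut K, ∃ k, α = MulAut.conj k) {w : K} (hw : w ∈ N)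
    (hww : w * w = 1) (hw1 : w ≠ 1) (hwt : ∀ z, w ≠ M.t z) (hN : ∀ x ∈ N, x = 1 ∨ x = w)
    (h : ∀ y ∈ Rk R, (∀ z, z ≠ 0 → M.t z ∉ Rk R) → w ∈ Rk R → y * w = w * y → Ctl N w y → y = 1 ∨ y = w) : False := by
  have hC : ∀ d, d * w = w * d → d ∈ D := P.centN w hw hww hw1
  have hD : ∀ d ∈ D, d * w = w * d := by
    intro d hd
    rcases hN _ (P.norm d hd w hw) with h1 | h1
    · exfalso
      apply hw1
      calc w = d⁻¹ * (d * w * d⁻¹) * d := by group
        _ = 1 := by rw [h1]; group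
    · exact mul_inv_eq_iff_eq_mul.mp h1
  have hwR : w ∈ Rk R := P.big (pair_isPGroup hww hN) w hw
  have hnt : ∀ z, z ≠ 0 → M.t z ∉ Rk R := by
    intro z hz hmem
    have h1 : ∀ v, M.B v z = 0 → M.ρ w v = v := by
      intro v hv
      have h2 : M.t v ∈ D := cent_Rk M P hmem (M.t_mul_self z) (fun h => hz (M.t_eq_one h)) (M.t_comm hv)
      exact M.comm_t.mp (hD _ h2).symm
    rcases M.fix_perp h1 with h2 | h2
    · exact hw1 h2
    · exact hwt z h2
  apply not_pair M P out w
  intro y hy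
  have hyw : y * w = w * y := by
    have h1 := P.mapN _ hy w hw
    rw [MulAut.conj_apply] at h1
    rcases hN _ h1 with h2 | h2
    · exfalso
      apply hw1
      calc w = y⁻¹ * (y * w * y⁻¹) * y := by group
        _ = 1 := by rw [h2]; group
    · exact mul_inv_eq_iff_eq_mul.mp h2
  exact h y hy hnt hwR hyw (ctl_Rk P hC hy)

/-! ### Case 1: a transvection in `N` -/

theorem t_fixed {e v : V} (he : e ≠ 0) (h : M.ρ (M.t e) v = v) : M.B v e = 0 := by
  rw [M.t_apply] at h
  have h1 := add_eq_left.mp h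
  rcases z2 (M.B v e) with h2 | h2
  · exact h2
  · rw [h2, one_smul] at h1
    exact absurd h1 he

theorem Im_t {e r : V} (h : r ∈ M.Im (M.t e)) : r = 0 ∨ r = e := by
  obtain ⟨z, rfl⟩ := M.mem_Im.mp h
  rw [M.t_apply]
  rcases z2 (M.B z e) with h2 | h2
  · left; rw [h2, zero_smul, add_zero]; exact two_self z
  · right; rw [h2, one_smul, add_comm z e, add_assoc, two_self, add_zero]

theorem mem_Im_t {e : V} (he : e ≠ 0) : e ∈ M.Im (M.t e) := by
  obtain ⟨b, hb⟩ := M.sep0 he
  rw [M.mem_Im]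
  refine ⟨b, ?_⟩
  rw [M.t_move (by rw [M.symm]; exact hb), add_comm b e, add_assoc, two_self, add_zero]

theorem case_one [Finite K] (P : Pair D N R) (out : ∀ α : MulAut K, ∃ k, α = MulAut.conj k)
    (big : ∀ a b c : V, ∃ x, M.B x a = 0 ∧ M.B x b = 0 ∧ M.B x c = 0 ∧ x ∉ Submodule.span (ZMod 2) {a, b, c})
    {e : V} (he : e ≠ 0) (hte : M.t e ∈ N) : False := by
  have hC : ∀ d, d * M.t e = M.t e * d → d ∈ D :=
    P.centN _ hte (M.t_mul_self e) (fun h => he (M.t_eq_one h))
  have hNn : ∀ d, d * M.t e = M.t e * d → ∀ n ∈ N, d * n * d⁻¹ ∈ N := fun d hd => P.norm d (hC d hd)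
  have hno : ∀ v r, M.ρ (M.t e) v = v → v ∉ M.Im (M.t e) → r ∈ M.Im (M.t e) → r ≠ 0 →
      M.t v * M.t (v + r) ∉ N := by
    intro v r hv hvE hr hr0 hmem
    have hre := (Im_t M hr).resolve_left hr0
    subst hre
    have hve : M.B v r = 0 := t_fixed M he hv
    have hv0 : v ≠ 0 := fun h => hvE (by rw [h]; exact Submodule.zero_mem _)
    have hvr : v ≠ r := fun h => hvE (by rw [h]; exact hr)
    have hs : M.s v r ∈ N := by
      have h1 := N.mul_mem hte hmem
      have h2 : M.s v r = M.t r * (M.t v * M.t (v + r)) := by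
        show M.t v * M.t r * M.t (v + r) = _
        rw [M.t_comm hve, mul_assoc]
      rw [h2]; exact h1
    have hs1 : M.s v r ≠ 1 := by
      intro h1
      have h2 := M.tt_eq hve
      rw [h1, mul_one] at h2
      exact M.tt_ne_t hv0 (fun h3 => hvr (eq_of_add_eq_zero h3)) (fun h3 => he (left_eq_add.mp h3)) h2.symm
    obtain ⟨b, hb1, hb2⟩ := M.sep1 (x := v) (u := v + r) hv0 (fun h3 => he (left_eq_add.mp h3))
    have hb3 : M.B r b = 1 := by
      rw [M.addl, hb2] at hb1
      revert hb1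
      generalize M.B r b = γ
      revert γ
      decide
    -- the swap
    have hrv : M.B r v = 0 := by rw [M.symm]; exact hve
    have hgr : M.ρ (M.s (v + r) b) r = v := by
      rw [M.s_apply hb1, M.addr, hrv, M.alt, add_zero, zero_smul, add_zero, hb3, one_smul,
        add_comm v r, ← add_assoc, two_self, zero_add]
    have hgv : M.ρ (M.s (v + r) b) v = r := by
      rw [M.s_apply hb1, M.addr, hve, M.alt, add_zero, zero_smul, add_zero, hb2, one_smul,
        ← add_assoc, two_self, zero_add]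
    have hgD : M.s (v + r) b ∈ D := by
      apply P.centN _ hs (M.s_mul_self hve) hs1
      have h1 := M.conj_s (M.s (v + r) b) v r
      rw [hgr, hgv, M.s_symm hrv, mul_inv_eq_iff_eq_mul] at h1
      exact h1
    have htv : M.t v ∈ N := by
      have h1 := P.norm _ hgD _ hte
      rwa [M.conj_t, hgr] at h1
    have htvr : M.t (v + r) ∈ N := by
      have h1 := N.mul_mem (N.inv_mem htv) hmem
      rwa [inv_mul_cancel_left] at h1
    apply P.ne
    rw [eq_top_iff, ← M.gen, closure_le]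
    rintro _ ⟨c, rfl⟩
    show M.t c ∈ D
    rcases z2 (M.B c r) with h1 | h1
    · exact hC _ (M.t_comm h1)
    · rcases z2 (M.B c v) with h2 | h2
      · exact P.centN _ htv (M.t_mul_self v) (fun h => hv0 (M.t_eq_one h)) _ (M.t_comm h2)
      · exact P.centN _ htvr (M.t_mul_self _) (fun h => hvr (eq_of_add_eq_zero (M.t_eq_one h))) _
          (M.t_comm (by rw [M.addr, h1, h2]; decide))
  have hne : ∃ v, M.ρ (M.t e) v = v ∧ v ∉ M.Im (M.t e) := by
    obtain ⟨x, hx, _, _, hx'⟩ := big e 0 0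
    refine ⟨x, M.t_fix hx, fun h => hx' ?_⟩
    rcases Im_t M h with h1 | h1
    · rw [h1]; exact Submodule.zero_mem _
    · rw [h1]; exact Submodule.subset_span (by simp)
  have hX : ∀ y, y * M.t e = M.t e * y → Ctl N (M.t e) y → y = 1 ∨ y = M.t e := by
    intro y hye hy
    apply M.fix_perp
    intro v hv
    exact M.fix_of_no_step (M.t_mul_self e) hNn hye hy (mem_Im_t M he) he (M.comm_t.mp hye) hne hno v (M.t_fix hv)
  have hN := P.eq_pair (noCore M out) hte (M.t_mul_self e) (fun h => he (M.t_eq_one h))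
    (fun x hx hxe => hX x hxe (ctl_N P hC hx))
  apply not_pair M P out (M.t e)
  intro y hy
  refine hX y ?_ (ctl_Rk P hC hy)
  have h1 := P.mapN _ hy _ hte
  rw [MulAut.conj_apply] at h1
  rcases hN _ h1 with h2 | h2
  · exfalso
    apply he
    apply M.t_eq_one
    calc M.t e = y⁻¹ * (y * M.t e * y⁻¹) * y := by group
      _ = 1 := by rw [h2]; group
  · exact mul_inv_eq_iff_eq_mul.mp h2

/-! ### Case 2: `s(e,f) ∈ N` -/

theorem s_fix {e f v : V} (hef : M.B e f = 0) (h1 : M.B v e = 0) (h2 : M.B v f = 0) : M.ρ (M.s e f) v = v := by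
  rw [M.s_apply hef, h1, h2, zero_smul, zero_smul, add_zero, add_zero]

theorem Im_s {e f r : V} (hef : M.B e f = 0) (h : r ∈ M.Im (M.s e f)) : r = 0 ∨ r = e ∨ r = f ∨ r = e + f := by
  obtain ⟨z, rfl⟩ := M.mem_Im.mp h
  rw [M.s_apply hef]
  have e1 : z + M.B z e • f + M.B z f • e + z = M.B z e • f + M.B z f • e := by
    calc z + M.B z e • f + M.B z f • e + z = (z + z) + (M.B z e • f + M.B z f • e) := by abel
      _ = _ := by rw [two_self, zero_add]
  rw [e1]
  rcases z2 (M.B z e) with h2 | h2 <;> rcases z2 (M.B z f) with h3 | h3 <;> rw [h2, h3] <;>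
    simp [add_comm]

theorem mem_Im_s {e f : V} (hef : M.B e f = 0) (hf : f ≠ 0) (hne : e ≠ f) : e ∈ M.Im (M.s e f) := by
  obtain ⟨b, hb1, hb2⟩ := M.sep1 hf (Ne.symm hne)
  rw [M.mem_Im]
  refine ⟨b, ?_⟩
  rw [M.s_apply hef, M.symm b e, hb1, M.symm b f, hb2, zero_smul, one_smul, add_zero, add_comm b e, add_assoc,
    two_self, add_zero]

theorem s_ne_t {e f z : V} (hef : M.B e f = 0) (he : e ≠ 0) (hf : f ≠ 0) (hne : e ≠ f) : M.s e f ≠ M.t z := by
  intro h
  have h1 := M.tt_eq_s (v := z) (u := 0) hef (by rw [M.t_zero, mul_one]; exact h.symm)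
  rw [h1, M.t_zero] at h
  have h2 : M.t e * M.t f = M.t (e + f) := by
    have h3 : M.t e * M.t f * M.t (e + f) = 1 := h
    rw [← M.t_inv (e + f)]
    exact mul_eq_one_iff_eq_inv.mp h3
  exact M.tt_ne_t he hf hne h2

theorem case_two [Finite K] (P : Pair D N R) (out : ∀ α : MulAut K, ∃ k, α = MulAut.conj k)
    (big : ∀ a b c : V, ∃ x, M.B x a = 0 ∧ M.B x b = 0 ∧ M.B x c = 0 ∧ x ∉ Submodule.span (ZMod 2) {a, b, c})
    (hT : ∀ v, M.t v ∈ N → v = 0) {e f : V} (hef : M.B e f = 0) (he : e ≠ 0) (hf : f ≠ 0) (hne : e ≠ f)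
    (hs : M.s e f ∈ N) : False := by
  have hfe : M.B f e = 0 := by rw [M.symm]; exact hef
  have hww := M.s_mul_self hef
  have hwt : ∀ z, M.s e f ≠ M.t z := fun z => s_ne_t M hef he hf hne
  have hw1 : M.s e f ≠ 1 := by rw [← M.t_zero]; exact hwt 0
  have hC : ∀ d, d * M.s e f = M.s e f * d → d ∈ D := P.centN _ hs hww hw1
  have hNn : ∀ d, d * M.s e f = M.s e f * d → ∀ n ∈ N, d * n * d⁻¹ ∈ N := fun d hd => P.norm d (hC d hd)
  have hcee : M.t e * M.t (e + f) = M.t (e + f) * M.t e := M.t_comm (by rw [M.addr, M.alt, hef, add_zero])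
  have hcfe : M.t f * M.t (e + f) = M.t (e + f) * M.t f := M.t_comm (by rw [M.addr, M.alt, hfe, add_zero])
  have hcef := M.t_comm hef
  have hw3 : M.s e f = M.t e * M.t f * M.t (e + f) := rfl
  have hw2 : M.s e f = M.t e * M.t (e + f) * M.t f := by rw [hw3, mul_assoc, hcfe, ← mul_assoc]
  have hw1' : M.s e f = M.t f * M.t (e + f) * M.t e := by
    rw [hw3, hcef, mul_assoc, hcee, ← mul_assoc]
  have hef0 : e + f ≠ 0 := fun h => hne (eq_of_add_eq_zero h)
  -- products of two of the three transvections are not in `N`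
  have no2 : ∀ (a b : V), M.t a * M.t b * M.t b = M.t a := fun a b => by rw [mul_assoc, M.t_mul_self, mul_one]
  have n1 : M.t e * M.t f ∉ N := by
    intro h
    have h1 := N.mul_mem (N.inv_mem h) hs
    rw [hw3, inv_mul_cancel_left] at h1
    exact hef0 (hT _ h1)
  have n2 : M.t e * M.t (e + f) ∉ N := by
    intro h
    have h1 := N.mul_mem (N.inv_mem h) hs
    rw [hw2, inv_mul_cancel_left] at h1
    exact hf (hT _ h1)
  have n3 : M.t f * M.t (e + f) ∉ N := by
    intro h
    have h1 := N.mul_mem (N.inv_mem h) hs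
    rw [hw1', inv_mul_cancel_left] at h1
    exact he (hT _ h1)
  have hImle : M.Im (M.s e f) ≤ Submodule.span (ZMod 2) {e, f} := by
    intro r hr
    rcases Im_s M hef hr with h | h | h | h
    · rw [h]; exact Submodule.zero_mem _
    · rw [h]; exact Submodule.subset_span (by simp)
    · rw [h]; exact Submodule.subset_span (by simp)
    · rw [h]; exact Submodule.add_mem _ (Submodule.subset_span (by simp)) (Submodule.subset_span (by simp))
  have hno : ∀ v r, M.ρ (M.s e f) v = v → v ∉ M.Im (M.s e f) → r ∈ M.Im (M.s e f) → r ≠ 0 →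
      M.t v * M.t (v + r) ∉ N := by
    intro v r hv hvE hr hr0 hmem
    apply hr0
    apply hT
    apply M.orbit hww hNn hv hvE hr hmem
    obtain ⟨b, hb1, hb2, hb3, hb4⟩ := big e f v
    refine ⟨b, s_fix M hef hb1 hb2, by rw [M.symm]; exact hb3, fun h => hb4 ?_⟩
    refine (sup_le (hImle.trans (Submodule.span_mono ?_)) (Submodule.span_mono ?_)) h
    · intro x hx
      simp only [Set.mem_insert_iff, Set.mem_singleton_iff] at hx ⊢
      (clear * - hx; tauto)
    · intro x hx
      simp only [Set.mem_insert_iff, Set.mem_singleton_iff] at hx ⊢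
      (clear * - hx; tauto)
  have hevex : ∃ v, M.ρ (M.s e f) v = v ∧ v ∉ M.Im (M.s e f) := by
    obtain ⟨b, hb1, hb2, _, hb4⟩ := big e f 0
    refine ⟨b, s_fix M hef hb1 hb2, fun h => hb4 ?_⟩
    refine Submodule.span_mono ?_ (hImle h)
    intro x hx
    simp only [Set.mem_insert_iff, Set.mem_singleton_iff] at hx ⊢
    (clear * - hx; tauto)
  have hXfix : ∀ y, y * M.s e f = M.s e f * y → Ctl N (M.s e f) y → ∀ v, M.ρ (M.s e f) v = v → M.ρ y v = v := by
    intro y hyw hy
    have hemem := mem_Im_s M hef hf hne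
    refine M.fix_of_no_step hww hNn hyw hy hemem he ?_ hevex hno
    have h1 := M.hash hy (s_fix M hef (M.alt e) hef)
    rcases Im_s M hef (M.Im_map hyw hemem) with h2 | h2 | h2 | h2
    · exfalso
      apply he
      have := M.inv_apply y e
      rw [h2, map_zero] at this
      exact this.symm
    · exact h2
    · rw [h2] at h1; exact absurd h1 n1
    · rw [h2] at h1; exact absurd h1 n2
  have h8 : ∀ y, y * M.s e f = M.s e f * y → Ctl N (M.s e f) y → _ := fun y hyw hy =>
    M.fix_two_perp (x := y) hef he hf hne (fun v h1 h2 => hXfix y hyw hy v (s_fix M hef h1 h2))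
  have hN := P.eq_pair (noCore M out) hs hww hw1 (by
    intro x hx hxw
    rcases h8 x hxw (ctl_N P hC hx) with h | h | h | h | h | h | h | h
    · left; exact h
    · rw [h] at hx; exact absurd (hT _ hx) he
    · rw [h] at hx; exact absurd (hT _ hx) hf
    · rw [h] at hx; exact absurd (hT _ hx) hef0
    · rw [h] at hx; exact absurd hx n1
    · rw [h] at hx; exact absurd hx n2
    · rw [h] at hx; exact absurd hx n3
    · right; exact h)
  apply finish M P out hs hww hw1 hwt hN
  intro y hy hnt hwR hyw hyc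
  rcases h8 y hyw hyc with h | h | h | h | h | h | h | h
  · left; exact h
  · rw [h] at hy; exact absurd hy (hnt _ he)
  · rw [h] at hy; exact absurd hy (hnt _ hf)
  · rw [h] at hy; exact absurd hy (hnt _ hef0)
  · exfalso
    rw [h] at hy
    have h1 := (Rk R).mul_mem ((Rk R).inv_mem hy) hwR
    rw [hw3, inv_mul_cancel_left] at h1
    exact hnt _ hef0 h1
  · exfalso
    rw [h] at hy
    have h1 := (Rk R).mul_mem ((Rk R).inv_mem hy) hwR
    rw [hw2, inv_mul_cancel_left] at h1
    exact hnt _ hf h1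
  · exfalso
    rw [h] at hy
    have h1 := (Rk R).mul_mem ((Rk R).inv_mem hy) hwR
    rw [hw1', inv_mul_cancel_left] at h1
    exact hnt _ he h1
  · right; exact h

/-! ### Case 3: `t_e t_f ∈ N` -/

theorem tt_apply {e f : V} (hef : M.B e f = 0) (v : V) :
    M.ρ (M.t e * M.t f) v = v + (M.B v e • e + M.B v f • f) := by
  have hfe : M.B f e = 0 := by rw [M.symm]; exact hef
  rw [M.mul_apply]
  simp only [M.t_apply, M.addl, M.smull, hfe, mul_zero, add_zero]
  abel

theorem tt_fix {e f v : V} (hef : M.B e f = 0) (h1 : M.B v e = 0) (h2 : M.B v f = 0) :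
    M.ρ (M.t e * M.t f) v = v := by
  rw [tt_apply M hef, h1, h2, zero_smul, zero_smul, add_zero, add_zero]

theorem tt_fixed {e f v : V} (hef : M.B e f = 0) (he : e ≠ 0) (hf : f ≠ 0) (hne : e ≠ f)
    (h : M.ρ (M.t e * M.t f) v = v) : M.B v e = 0 ∧ M.B v f = 0 := by
  rw [tt_apply M hef] at h
  have h1 := add_eq_left.mp h
  rcases z2 (M.B v e) with h2 | h2 <;> rcases z2 (M.B v f) with h3 | h3
  · exact ⟨h2, h3⟩
  · rw [h2, h3, zero_smul, zero_add, one_smul] at h1
    exact absurd h1 hf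
  · rw [h2, h3, zero_smul, add_zero, one_smul] at h1
    exact absurd h1 he
  · rw [h2, h3, one_smul, one_smul] at h1
    exact absurd (eq_of_add_eq_zero h1) hne

theorem Im_tt {e f r : V} (hef : M.B e f = 0) (h : r ∈ M.Im (M.t e * M.t f)) :
    r = 0 ∨ r = e ∨ r = f ∨ r = e + f := by
  obtain ⟨z, rfl⟩ := M.mem_Im.mp h
  rw [tt_apply M hef]
  have e1 : z + (M.B z e • e + M.B z f • f) + z = M.B z e • e + M.B z f • f := by
    calc z + (M.B z e • e + M.B z f • f) + z = (z + z) + (M.B z e • e + M.B z f • f) := by abel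
      _ = _ := by rw [two_self, zero_add]
  rw [e1]
  rcases z2 (M.B z e) with h2 | h2 <;> rcases z2 (M.B z f) with h3 | h3 <;> rw [h2, h3] <;> simp

theorem mem_Im_tt_left {e f : V} (hef : M.B e f = 0) (he : e ≠ 0) (hne : e ≠ f) : e ∈ M.Im (M.t e * M.t f) := by
  obtain ⟨b, hb1, hb2⟩ := M.sep1 he hne
  rw [M.mem_Im]
  refine ⟨b, ?_⟩
  rw [tt_apply M hef, M.symm b e, hb2, M.symm b f, hb1, zero_smul, one_smul, add_zero, add_comm b e, add_assoc,
    two_self, add_zero]

theorem mem_Im_tt_right {e f : V} (hef : M.B e f = 0) (hf : f ≠ 0) (hne : e ≠ f) :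
    f ∈ M.Im (M.t e * M.t f) := by
  obtain ⟨b, hb1, hb2⟩ := M.sep1 hf (Ne.symm hne)
  rw [M.mem_Im]
  refine ⟨b, ?_⟩
  rw [tt_apply M hef, M.symm b e, hb1, M.symm b f, hb2, zero_smul, one_smul, zero_add, add_comm b f, add_assoc,
    two_self, add_zero]

/-- an element commuting with `t_e t_f` fixes `e + f` -/
theorem tt_comm_fix {e f : V} (hef : M.B e f = 0) {y : K}
    (hy : y * (M.t e * M.t f) = M.t e * M.t f * y) : M.ρ y (e + f) = e + f := by
  apply eq_of_add_eq_zero
  apply M.nondeg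
  have key : ∀ z, M.B (M.ρ (M.t e * M.t f) z) z = M.B (e + f) z := by
    intro z
    rw [tt_apply M hef]
    simp only [M.addl, M.smull, M.alt]
    rw [M.symm e z, M.symm f z]
    generalize M.B z e = α
    generalize M.B z f = β
    revert α β
    decide
  intro z
  have h1 : M.B (M.ρ y (e + f)) z = M.B (e + f) z := by
    have h2 := M.inv y (e + f) (M.ρ y⁻¹ z)
    rw [M.apply_inv] at h2
    rw [h2, ← key, ← key]
    rw [← M.inv y, M.apply_inv]
    congr 1
    rw [← M.mul_apply, hy, M.mul_apply, M.apply_inv]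
  rw [M.addl, h1]
  generalize M.B (e + f) z = κ
  revert κ
  decide

theorem tt_ne_one {a b : V} (hab : a ≠ b) : M.t a * M.t b ≠ 1 := by
  intro h
  apply hab
  apply M.t_inj
  rw [← M.t_inv b]
  exact mul_eq_one_iff_eq_inv.mp h

theorem tt_mul_self {a b : V} (hab : M.B a b = 0) : M.t a * M.t b * (M.t a * M.t b) = 1 := by
  have h2 := M.t_comm hab
  calc M.t a * M.t b * (M.t a * M.t b) = M.t a * (M.t b * M.t a) * M.t b := by group
    _ = M.t a * (M.t a * M.t b) * M.t b := by rw [h2]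
    _ = (M.t a * M.t a) * (M.t b * M.t b) := by group
    _ = 1 := by rw [M.t_mul_self, M.t_mul_self, one_mul]

theorem exists_swap {a c : V} (hac : M.B a c = 0) (ha : a ≠ 0) (hc : c ≠ 0) :
    ∃ d : K, M.ρ d a = c ∧ M.ρ d c = a ∧ d * d = 1 := by
  obtain ⟨b, hb1, hb2⟩ := M.sep1 (x := a) (u := a + c) ha (fun h => hc (left_eq_add.mp h))
  have hb3 : M.B c b = 1 := by
    rw [M.addl, hb2] at hb1
    revert hb1
    generalize M.B c b = γ
    revert γ
    decide
  have hca : M.B c a = 0 := by rw [M.symm]; exact hac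
  refine ⟨M.s (a + c) b, ?_, ?_, M.s_mul_self hb1⟩
  · rw [M.s_apply hb1, M.addr, hac, M.alt, add_zero, zero_smul, add_zero, hb2, one_smul, ← add_assoc, two_self,
      zero_add]
  · rw [M.s_apply hb1, M.addr, hca, M.alt, add_zero, zero_smul, add_zero, hb3, one_smul, add_comm a c,
      ← add_assoc, two_self, zero_add]

theorem three_fix {w y : K} {e f : V} (hw : w = M.t e * M.t f)
    (big : ∀ a b c : V, ∃ x, M.B x a = 0 ∧ M.B x b = 0 ∧ M.B x c = 0 ∧ x ∉ Submodule.span (ZMod 2) {a, b, c})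
    (hS : ∀ a b, M.B a b = 0 → M.s a b ∈ N → a = 0 ∨ b = 0 ∨ a = b)
    (hef : M.B e f = 0) (he : e ≠ 0) (hf : f ≠ 0) (hne : e ≠ f)
    (hNn : ∀ d, d * w = w * d → ∀ n ∈ N, d * n * d⁻¹ ∈ N)
    (hyw : y * w = w * y) (hy : Ctl N w y) : ∀ v, M.B v e = 0 → M.B v f = 0 → M.ρ y v = v := by
  have hww : w * w = 1 := by rw [hw]; exact tt_mul_self M hef
  have heI : e ∈ M.Im w := by rw [hw]; exact mem_Im_tt_left M hef he hne
  have hfI : f ∈ M.Im w := by rw [hw]; exact mem_Im_tt_right M hef hf hne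
  have hImle : M.Im w ≤ Submodule.span (ZMod 2) {e, f} := by
    intro r hr
    rw [hw] at hr
    rcases Im_tt M hef hr with h | h | h | h
    · rw [h]; exact Submodule.zero_mem _
    · rw [h]; exact Submodule.subset_span (by simp)
    · rw [h]; exact Submodule.subset_span (by simp)
    · rw [h]; exact Submodule.add_mem _ (Submodule.subset_span (by simp)) (Submodule.subset_span (by simp))
  have hno : ∀ v r, M.ρ w v = v → v ∉ M.Im w → r ∈ M.Im w → r ≠ 0 → M.t v * M.t (v + r) ∉ N := by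
    intro v r hv hvE hr hr0 hmem
    obtain ⟨r', hr', hr'0, hrr'⟩ : ∃ r', r' ∈ M.Im w ∧ r' ≠ 0 ∧ r ≠ r' := by
      by_cases h : r = e
      · exact ⟨f, hfI, hf, by rw [h]; exact hne⟩
      · exact ⟨e, heI, he, h⟩
    obtain ⟨b, hb1, hb2⟩ := M.sep _ v hvE
    have hwb : M.ρ w b = b := M.fixed_of_perp hww hb1
    have hrb : M.B r' b = 0 := hb1 r' hr'
    have h1 := hNn _ (M.comm_s (a := r') (r := b) (M.Im_fixed hww hr') hwb) _ hmem
    have e1 : M.ρ (M.s r' b) v = v + r' := by
      rw [M.s_apply hrb, M.symm v r', M.Im_perp hr' hv, hb2, zero_smul, one_smul, add_zero]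
    have hrr : M.B r r' = 0 := M.Im_perp hr (M.Im_fixed hww hr')
    have e2 : M.ρ (M.s r' b) r = r := by
      rw [M.s_apply hrb, hrr, hb1 r hr, zero_smul, zero_smul, add_zero, add_zero]
    rw [M.conj_tt, map_add, e1, e2] at h1
    have h2 := N.mul_mem hmem h1
    rw [M.r3 (by rw [M.symm]; exact M.Im_perp hr hv) (by rw [M.symm]; exact M.Im_perp hr' hv) hrr] at h2
    rcases hS _ _ hrr h2 with h | h | h
    · exact hr0 h
    · exact hr'0 h
    · exact hrr' h
  have hevex : ∃ v, M.ρ w v = v ∧ v ∉ M.Im w := by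
    obtain ⟨b, hb1, hb2, _, hb4⟩ := big e f 0
    refine ⟨b, by rw [hw]; exact tt_fix M hef hb1 hb2, fun h => hb4 ?_⟩
    refine Submodule.span_mono ?_ (hImle h)
    intro x hx
    simp only [Set.mem_insert_iff, Set.mem_singleton_iff] at hx ⊢
    (clear * - hx; tauto)
  have hfixed : M.ρ y (e + f) = e + f := tt_comm_fix M hef (by rw [← hw]; exact hyw)
  intro v h1 h2
  exact M.fix_of_no_step hww hNn hyw hy ((M.Im w).add_mem heI hfI) (fun h => hne (eq_of_add_eq_zero h)) hfixed
    hevex hno v (by rw [hw]; exact tt_fix M hef h1 h2)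

/-- case 3, `t_e t_{e+f} ∉ N` -/
theorem case_three_a [Finite K] (P : Pair D N R) (out : ∀ α : MulAut K, ∃ k, α = MulAut.conj k)
    (big : ∀ a b c : V, ∃ x, M.B x a = 0 ∧ M.B x b = 0 ∧ M.B x c = 0 ∧ x ∉ Submodule.span (ZMod 2) {a, b, c})
    (hT : ∀ v, M.t v ∈ N → v = 0) (hS : ∀ a b, M.B a b = 0 → M.s a b ∈ N → a = 0 ∨ b = 0 ∨ a = b)
    {e f : V} (hef : M.B e f = 0) (he : e ≠ 0) (hf : f ≠ 0) (hne : e ≠ f)
    (hs : M.t e * M.t f ∈ N) (hnot : M.t e * M.t (e + f) ∉ N) : False := by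
  have hfe : M.B f e = 0 := by rw [M.symm]; exact hef
  have hww := tt_mul_self M hef
  have hwt : ∀ z, M.t e * M.t f ≠ M.t z := fun z => M.tt_ne_t he hf hne
  have hw1 : M.t e * M.t f ≠ 1 := tt_ne_one M hne
  have hC : ∀ d, d * (M.t e * M.t f) = M.t e * M.t f * d → d ∈ D := P.centN _ hs hww hw1
  have hNn : ∀ d, d * (M.t e * M.t f) = M.t e * M.t f * d → ∀ n ∈ N, d * n * d⁻¹ ∈ N :=
    fun d hd => P.norm d (hC d hd)
  have hef0 : e + f ≠ 0 := fun h => hne (eq_of_add_eq_zero h)
  have h8 : ∀ y, y * (M.t e * M.t f) = M.t e * M.t f * y → Ctl N (M.t e * M.t f) y → _ := fun y hyw hy =>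
    M.fix_two_perp (x := y) hef he hf hne (three_fix M rfl big hS hef he hf hne hNn hyw hy)
  have hN := P.eq_pair (noCore M out) hs hww hw1 (by
    intro x hx hxw
    rcases h8 x hxw (ctl_N P hC hx) with h | h | h | h | h | h | h | h
    · left; exact h
    · rw [h] at hx; exact absurd (hT _ hx) he
    · rw [h] at hx; exact absurd (hT _ hx) hf
    · rw [h] at hx; exact absurd (hT _ hx) hef0
    · right; exact h
    · rw [h] at hx; exact absurd hx hnot
    · exfalso
      rw [h] at hx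
      have h1 := N.mul_mem hs hx
      have h2 : M.t e * M.t f * (M.t f * M.t (e + f)) = M.t e * M.t (e + f) := by
        rw [mul_assoc, ← mul_assoc (M.t f) (M.t f), M.t_mul_self, one_mul]
      rw [h2] at h1
      exact hnot h1
    · rw [h] at hx
      rcases hS _ _ hef hx with h1 | h1 | h1
      · exact absurd h1 he
      · exact absurd h1 hf
      · exact absurd h1 hne)
  have hD : ∀ d ∈ D, d * (M.t e * M.t f) * d⁻¹ = M.t e * M.t f := by
    intro d hd
    rcases hN _ (P.norm d hd _ hs) with h1 | h1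
    · exfalso
      apply hw1
      calc M.t e * M.t f = d⁻¹ * (d * (M.t e * M.t f) * d⁻¹) * d := by group
        _ = 1 := by rw [h1]; group
    · exact h1
  -- the swap argument
  have sw : ∀ a c b : V, M.B a c = 0 → a ≠ 0 → c ≠ 0 → a ≠ c → b = a + c → M.t a * M.t b = M.t e * M.t f →
      M.t a * M.t c ∉ Rk R := by
    intro a c b hac ha hc hac' hb hw hmem
    obtain ⟨d, hd1, hd2, _⟩ := exists_swap M hac ha hc
    have hdD : d ∈ D := by
      apply cent_Rk M P hmem (tt_mul_self M hac) (tt_ne_one M hac')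
      have h1 := M.conj_tt d a c
      rw [hd1, hd2, ← M.t_comm hac, mul_inv_eq_iff_eq_mul] at h1
      exact h1
    have h1 := hD d hdD
    rw [← hw, M.conj_tt, hd1, hb, map_add, hd1, hd2, add_comm c a] at h1
    exact hac' (M.t_inj (mul_right_cancel h1)).symm
  apply finish M P out hs hww hw1 hwt hN
  intro y hy hnt hwR hyw hyc
  rcases h8 y hyw hyc with h | h | h | h | h | h | h | h
  · left; exact h
  · rw [h] at hy; exact absurd hy (hnt _ he)
  · rw [h] at hy; exact absurd hy (hnt _ hf)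
  · rw [h] at hy; exact absurd hy (hnt _ hef0)
  · right; exact h
  · exfalso
    rw [h] at hy
    refine sw e (e + f) f (by rw [M.addr, M.alt, hef, add_zero]) he hef0 (fun h => hf (left_eq_add.mp h))
      (by rw [← add_assoc, two_self, zero_add]) rfl hy
  · exfalso
    rw [h] at hy
    refine sw f (e + f) e (by rw [M.addr, M.alt, hfe, add_zero]) hf hef0 (fun h => he (right_eq_add.mp h))
      (by rw [add_comm e f, ← add_assoc, two_self, zero_add]) (M.t_comm hfe) hy
  · exfalso
    rw [h] at hy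
    have h1 := (Rk R).mul_mem ((Rk R).inv_mem hwR) hy
    rw [show M.s e f = M.t e * M.t f * M.t (e + f) from rfl, inv_mul_cancel_left] at h1
    exact hnt _ hef0 h1

/-- the four-group generated by two commuting involutions -/
def klein {A B : K} (hA : A * A = 1) (hB : B * B = 1) (hAB : A * B = B * A) : Subgroup K where
  carrier := {x | x = 1 ∨ x = A ∨ x = B ∨ x = A * B}
  one_mem' := Or.inl rfl
  mul_mem' := by
    have h1 : A * B * A = B := by rw [hAB, mul_assoc, hA, mul_one]
    have h2 : A * B * B = A := by rw [mul_assoc, hB, mul_one]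
    have h3 : A * (A * B) = B := by rw [← mul_assoc, hA, one_mul]
    have h4 : B * (A * B) = A := by rw [hAB, ← mul_assoc, hB, one_mul]
    have h5 : A * B * (A * B) = 1 := by rw [← mul_assoc, h1, hB]
    rintro x y (rfl | rfl | rfl | rfl) (rfl | rfl | rfl | rfl) <;>
      simp only [hA, hB, h1, h2, h3, h4, h5, hAB.symm, _root_.mul_one, _root_.Set.mem_ofPred_eq, _root_.true_or, _root_.one_mul, _root_.left_eq_mul, _root_.or_true, _root_.right_eq_mul, _root_.mul_eq_left, _root_.mul_eq_right]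
  inv_mem' := by
    rintro x (rfl | rfl | rfl | rfl)
    · left; exact inv_one
    · right; left; exact inv_eq_of_mul_eq_one_left hA
    · right; right; left; exact inv_eq_of_mul_eq_one_left hB
    · right; right; right
      rw [mul_inv_rev, inv_eq_of_mul_eq_one_left hA, inv_eq_of_mul_eq_one_left hB, hAB]

theorem mem_klein {A B : K} (hA : A * A = 1) (hB : B * B = 1) (hAB : A * B = B * A) {x : K} :
    x ∈ klein hA hB hAB ↔ x = 1 ∨ x = A ∨ x = B ∨ x = A * B := Iff.rfl

/-- case 3, `t_e t_{e+f} ∈ N` -/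
theorem case_three_b [Finite K] (P : Pair D N R) (hinn : Inn D N R) (out : ∀ α : MulAut K, ∃ k, α = MulAut.conj k)
    (big : ∀ a b c : V, ∃ x, M.B x a = 0 ∧ M.B x b = 0 ∧ M.B x c = 0 ∧ x ∉ Submodule.span (ZMod 2) {a, b, c})
    (hT : ∀ v, M.t v ∈ N → v = 0) (hS : ∀ a b, M.B a b = 0 → M.s a b ∈ N → a = 0 ∨ b = 0 ∨ a = b)
    {e f : V} (hef : M.B e f = 0) (he : e ≠ 0) (hf : f ≠ 0) (hne : e ≠ f)
    (hs : M.t e * M.t f ∈ N) (hs' : M.t e * M.t (e + f) ∈ N) : False := by
  have hfe : M.B f e = 0 := by rw [M.symm]; exact hef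
  have hef' : M.B e (e + f) = 0 := by rw [M.addr, M.alt, hef, add_zero]
  have hfe' : M.B f (e + f) = 0 := by rw [M.addr, M.alt, hfe, add_zero]
  have hww := tt_mul_self M hef
  have hww' := tt_mul_self M hef'
  have hef0 : e + f ≠ 0 := fun h => hne (eq_of_add_eq_zero h)
  have hne' : e ≠ e + f := fun h => hf (left_eq_add.mp h)
  have hne'' : f ≠ e + f := fun h => he (right_eq_add.mp h)
  have hw1 : M.t e * M.t f ≠ 1 := tt_ne_one M hne
  have hcom : M.t e * M.t f * (M.t e * M.t (e + f)) = M.t e * M.t (e + f) * (M.t e * M.t f) := by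
    have h1 := M.t_comm hef
    have h2 := M.t_comm hef'
    have h3 := M.t_comm hfe'
    calc M.t e * M.t f * (M.t e * M.t (e + f)) = M.t e * (M.t f * M.t e) * M.t (e + f) := by group
      _ = M.t e * M.t e * (M.t f * M.t (e + f)) := by rw [← h1]; group
      _ = M.t e * M.t e * (M.t (e + f) * M.t f) := by rw [h3]
      _ = M.t e * (M.t e * M.t (e + f)) * M.t f := by group
      _ = M.t e * (M.t (e + f) * M.t e) * M.t f := by rw [h2]
      _ = _ := by group
  have hprod : M.t e * M.t f * (M.t e * M.t (e + f)) = M.t f * M.t (e + f) := by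
    have h1 := M.t_comm hef
    calc M.t e * M.t f * (M.t e * M.t (e + f)) = (M.t e * M.t f) * M.t e * M.t (e + f) := by group
      _ = (M.t f * M.t e) * M.t e * M.t (e + f) := by rw [h1]
      _ = M.t f * (M.t e * M.t e) * M.t (e + f) := by group
      _ = _ := by rw [M.t_mul_self, mul_one]
  set W := klein hww hww' hcom with hWdef
  have memW : ∀ {x : K}, x ∈ W ↔ x = 1 ∨ x = M.t e * M.t f ∨ x = M.t e * M.t (e + f) ∨ x = M.t f * M.t (e + f) := by
    intro x
    rw [hWdef, mem_klein, hprod]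
  have hWN : W ≤ N := by
    intro x hx
    rcases memW.mp hx with h | h | h | h
    · rw [h]; exact N.one_mem
    · rw [h]; exact hs
    · rw [h]; exact hs'
    · rw [h, ← hprod]; exact N.mul_mem hs hs'
  -- the fixed spaces
  have fixW : ∀ x ∈ W, ∀ v, M.B v e = 0 → M.B v f = 0 → M.ρ x v = v := by
    intro x hx v h1 h2
    have h3 : M.B v (e + f) = 0 := by rw [M.addr, h1, h2, add_zero]
    rcases memW.mp hx with h | h | h | h
    · rw [h, M.one_apply]
    · rw [h]; exact tt_fix M hef h1 h2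
    · rw [h]; exact tt_fix M hef' h1 h3
    · rw [h]; exact tt_fix M hfe' h2 h3
  have fixedW : ∀ x ∈ W, x ≠ 1 → ∀ v, M.ρ x v = v → M.B v e = 0 ∧ M.B v f = 0 := by
    intro x hx hx1 v hv
    rcases memW.mp hx with h | h | h | h
    · exact absurd h hx1
    · rw [h] at hv; exact tt_fixed M hef he hf hne hv
    · rw [h] at hv
      obtain ⟨h1, h2⟩ := tt_fixed M hef' he hef0 hne' hv
      rw [M.addr, h1, zero_add] at h2
      exact ⟨h1, h2⟩
    · rw [h] at hv
      obtain ⟨h1, h2⟩ := tt_fixed M hfe' hf hef0 hne'' hv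
      rw [M.addr, h1, add_zero] at h2
      exact ⟨h2, h1⟩
  have commW : ∀ a ∈ W, ∀ b ∈ W, a * b = b * a := by
    intro a ha b hb
    have sq : ∀ x ∈ W, x * x = 1 := by
      intro x hx
      rcases memW.mp hx with h | h | h | h
      · rw [h, one_mul]
      · rw [h]; exact hww
      · rw [h]; exact hww'
      · rw [h]; exact tt_mul_self M hfe'
    have h1 := sq _ (W.mul_mem ha hb)
    have h2 : b * a = (a * b)⁻¹ := by
      rw [mul_inv_rev, inv_eq_of_mul_eq_one_left (sq a ha), inv_eq_of_mul_eq_one_left (sq b hb)]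
    rw [h2, inv_eq_of_mul_eq_one_left h1]
  have W2 : IsPGroup 2 ↥W := by
    intro x
    refine ⟨1, ?_⟩
    apply Subtype.ext
    rw [pow_one, SubmonoidClass.coe_pow, pow_two]
    rcases memW.mp x.2 with h | h | h | h
    · rw [h, one_mul]; rfl
    · rw [h]; exact hww
    · rw [h]; exact hww'
    · rw [h]; exact tt_mul_self M hfe'
  have hC : ∀ d, d * (M.t e * M.t f) = M.t e * M.t f * d → d ∈ D := P.centN _ hs hww hw1
  have hNn : ∀ d, d * (M.t e * M.t f) = M.t e * M.t f * d → ∀ n ∈ N, d * n * d⁻¹ ∈ N :=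
    fun d hd => P.norm d (hC d hd)
  have inN : ∀ x ∈ N, (x = 1 ∨ x = M.t e ∨ x = M.t f ∨ x = M.t (e + f) ∨ x = M.t e * M.t f ∨
      x = M.t e * M.t (e + f) ∨ x = M.t f * M.t (e + f) ∨ x = M.s e f) → x ∈ W := by
    intro x hx h8
    rw [memW]
    rcases h8 with h | h | h | h | h | h | h | h
    · left; exact h
    · rw [h] at hx; exact absurd (hT _ hx) he
    · rw [h] at hx; exact absurd (hT _ hx) hf
    · rw [h] at hx; exact absurd (hT _ hx) hef0
    · right; left; exact h
    · right; right; left; exact h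
    · right; right; right; exact h
    · rw [h] at hx
      rcases hS _ _ hef hx with h1 | h1 | h1
      · exact absurd h1 he
      · exact absurd h1 hf
      · exact absurd h1 hne
  have cW : ∀ x ∈ N, x * (M.t e * M.t f) = M.t e * M.t f * x → x ∈ W := fun x hx hxw =>
    inN x hx (M.fix_two_perp hef he hf hne (three_fix M rfl big hS hef he hf hne hNn hxw (ctl_N P hC hx)))
  have pres : ∀ x : K, (∀ y ∈ W, x * y * x⁻¹ ∈ W) → ∀ v, M.B v e = 0 → M.B v f = 0 →
      M.B (M.ρ x v) e = 0 ∧ M.B (M.ρ x v) f = 0 := by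
    intro x hx v h1 h2
    apply fixedW _ (hx _ (memW.mpr (Or.inr (Or.inl rfl))))
    · intro h
      apply hw1
      calc M.t e * M.t f = x⁻¹ * (x * (M.t e * M.t f) * x⁻¹) * x := by group
        _ = 1 := by rw [h]; group
    · rw [← M.mul_apply, inv_mul_cancel_right, M.mul_apply, tt_fix M hef h1 h2]
  have key : ∀ x : K, (∀ y ∈ W, x * y * x⁻¹ ∈ W) → Ctl N (M.t e * M.t f) x →
      ∀ v, M.B v e = 0 → M.B v f = 0 → M.ρ x v = v := by
    intro x hx hxc
    have main : ∀ v, M.B v e = 0 → M.B v f = 0 → v ∉ Submodule.span (ZMod 2) {e, f} → M.ρ x v = v := by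
      intro v h1 h2 h3
      obtain ⟨h4, h5⟩ := pres x hx v h1 h2
      have h6 := M.hash hxc (tt_fix M hef h1 h2)
      have h7 : M.t v * M.t (M.ρ x v) ∈ W := by
        apply cW _ h6
        have c1 := (M.comm_t.mpr (tt_fix M hef h1 h2)).symm
        have c2 := (M.comm_t.mpr (tt_fix M hef h4 h5)).symm
        calc M.t v * M.t (M.ρ x v) * (M.t e * M.t f) = M.t v * (M.t (M.ρ x v) * (M.t e * M.t f)) := by group
          _ = M.t v * (M.t e * M.t f * M.t (M.ρ x v)) := by rw [c2]
          _ = (M.t v * (M.t e * M.t f)) * M.t (M.ρ x v) := by group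
          _ = (M.t e * M.t f * M.t v) * M.t (M.ρ x v) := by rw [c1]
          _ = _ := by group
      obtain ⟨u, hu, huv⟩ := M.sep _ v h3
      have hue : M.B u e = 0 := by rw [M.symm]; exact hu e (Submodule.subset_span (by simp))
      have huf : M.B u f = 0 := by rw [M.symm]; exact hu f (Submodule.subset_span (by simp))
      have h8 := fixW _ h7 u hue huf
      have hv0 : v ≠ 0 := fun h => h3 (by rw [h]; exact Submodule.zero_mem _)
      have hz0 : M.ρ x v ≠ 0 := by
        intro h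
        apply hv0
        have := M.inv_apply x v
        rw [h, map_zero] at this
        exact this.symm
      rw [M.mul_apply, M.t_apply, M.t_apply, M.addl, M.smull, M.symm u v, huv, add_assoc] at h8
      have h9 := add_eq_left.mp h8
      rcases z2 (M.B u (M.ρ x v)) with h10 | h10
      · rw [h10, zero_smul, zero_mul, add_zero, zero_add, one_smul] at h9
        exact absurd h9 hv0
      · rw [h10, one_smul, one_mul] at h9
        rcases z2 (M.B (M.ρ x v) v) with h11 | h11
        · rw [h11, add_zero, one_smul] at h9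
          exact eq_of_add_eq_zero h9
        · rw [h11, show (1 : ZMod 2) + 1 = 0 from rfl, zero_smul, add_zero] at h9
          exact absurd h9 hz0
    obtain ⟨u, hu1, hu2, _, hu3⟩ := big e f 0
    have hu4 : u ∉ Submodule.span (ZMod 2) {e, f} := by
      intro h
      apply hu3
      refine Submodule.span_mono ?_ h
      intro x hx
      simp only [Set.mem_insert_iff, Set.mem_singleton_iff] at hx ⊢
      (clear * - hx; tauto)
    intro v h1 h2
    by_cases h3 : v ∈ Submodule.span (ZMod 2) {e, f}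
    · have h4 := main u hu1 hu2 hu4
      have h5 := main (u + v) (by rw [M.addl, hu1, h1, add_zero]) (by rw [M.addl, hu2, h2, add_zero])
        (fun h => hu4 (by
          have := Submodule.add_mem _ h h3
          rwa [add_assoc, two_self, add_zero] at this))
      rw [map_add, h4] at h5
      exact add_left_cancel h5
    · exact main v h1 h2 h3
  have hNW : N = W := P.eq_of_self_normalizing (noCore M out) hWN W2 commW (fun x hx hxW =>
    inN x hx (M.fix_two_perp hef he hf hne (key x hxW (ctl_N P hC hx))))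
  have hWR : ∀ x ∈ W, x ∈ Rk R := fun x hx => P.big (by rw [hNW]; exact W2) x (hWN hx)
  have hnt : ∀ a c, a ≠ 0 → M.t a ∈ Rk R → M.B c a = 0 → M.B c e = 0 ∧ M.B c f = 0 := by
    intro a c ha hta hca
    have hcD : M.t c ∈ D := cent_Rk M P hta (M.t_mul_self a) (fun h => ha (M.t_eq_one h)) (M.t_comm hca)
    by_contra hcon
    have hc0 : c ∉ Submodule.span (ZMod 2) {e, f} := by
      intro h
      apply hcon
      rcases Mod.mem_span2 h with h | h | h | h <;> rw [h] <;>
        simp [M.zerol, M.alt, hef, hfe, M.addl]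
    obtain ⟨u, hu, huv⟩ := M.sep _ c hc0
    have hue : M.B u e = 0 := by rw [M.symm]; exact hu e (Submodule.subset_span (by simp))
    have huf : M.B u f = 0 := by rw [M.symm]; exact hu f (Submodule.subset_span (by simp))
    have h1 := pres (M.t c) (fun y hy => by
      have h2 := P.norm _ hcD y (hWN hy)
      rwa [hNW] at h2) u hue huf
    rw [M.t_move (by rw [M.symm]; exact huv), M.addl, M.addl, hue, huf, zero_add, zero_add] at h1
    exact hcon h1
  have nte : ∀ a, a ≠ 0 → (∃ c, M.B c a = 0 ∧ (M.B c e = 1 ∨ M.B c f = 1)) → M.t a ∉ Rk R := by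
    rintro a ha ⟨c, h1, h2⟩ hmem
    obtain ⟨h3, h4⟩ := hnt a c ha hmem h1
    rw [h3, h4] at h2
    revert h2
    decide
  have nt1 : M.t e ∉ Rk R := by
    apply nte e he
    obtain ⟨c, h1, h2⟩ := M.sep1 hf (Ne.symm hne)
    exact ⟨c, by rw [M.symm]; exact h1, Or.inr (by rw [M.symm]; exact h2)⟩
  have nt2 : M.t f ∉ Rk R := by
    apply nte f hf
    obtain ⟨c, h1, h2⟩ := M.sep1 he hne
    exact ⟨c, by rw [M.symm]; exact h1, Or.inl (by rw [M.symm]; exact h2)⟩
  have nt3 : M.t (e + f) ∉ Rk R := by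
    apply nte (e + f) hef0
    obtain ⟨c, h1, h2⟩ := M.sep1 he hne'
    exact ⟨c, by rw [M.symm]; exact h1, Or.inl (by rw [M.symm]; exact h2)⟩
  have hRW : ∀ y ∈ Rk R, y ∈ W := by
    intro y hy
    have h1 : ∀ x ∈ W, y * x * y⁻¹ ∈ W := by
      intro x hx
      have h2 := P.mapN _ hy x (hWN hx)
      rw [hNW, MulAut.conj_apply] at h2
      exact h2
    rcases M.fix_two_perp hef he hf hne (key y h1 (ctl_Rk P hC hy)) with h | h | h | h | h | h | h | h
    · rw [h]; exact W.one_mem
    · rw [h] at hy; exact absurd hy nt1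
    · rw [h] at hy; exact absurd hy nt2
    · rw [h] at hy; exact absurd hy nt3
    · exact memW.mpr (Or.inr (Or.inl h))
    · exact memW.mpr (Or.inr (Or.inr (Or.inl h)))
    · exact memW.mpr (Or.inr (Or.inr (Or.inr h)))
    · exfalso
      rw [h] at hy
      have h2 := (Rk R).mul_mem ((Rk R).inv_mem (hWR _ (memW.mpr (Or.inr (Or.inl rfl))))) hy
      rw [show M.s e f = M.t e * M.t f * M.t (e + f) from rfl, inv_mul_cancel_left] at h2
      exact nt3 h2
  obtain ⟨d, hd1, hd2, hdd⟩ := exists_swap M hef he hf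
  have hdD : d ∈ D := by
    apply hC
    have h1 := M.conj_tt d e f
    rw [hd1, hd2, ← M.t_comm hef, mul_inv_eq_iff_eq_mul] at h1
    exact h1
  have hfin := hinn (by rw [hNW]; exact W2) (by rw [hNW]; exact commW) (by
    intro r hr
    obtain ⟨k, rfl⟩ := out r
    exact ⟨k, hWN (hRW k hr), rfl⟩) d hdD hdd _ hs'
  have h1 := M.conj_tt d e (e + f)
  rw [hfin, mul_inv_cancel_right, map_add, hd1, hd2, add_comm f e] at h1
  exact hne (M.t_inj (mul_right_cancel h1))

/-! ### Cases 4 and 5 -/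

theorem case_four [Finite K] (P : Pair D N R) (out : ∀ α : MulAut K, ∃ k, α = MulAut.conj k)
    (hTT : ∀ a b, M.B a b = 0 → M.t a * M.t b ∈ N → a = b)
    (hS : ∀ a b, M.B a b = 0 → M.s a b ∈ N → a = 0 ∨ b = 0 ∨ a = b) {w : K} (hw : w ∈ N) (hww : w * w = 1)
    (hw1 : w ≠ 1) : False := by
  have hT : ∀ v, M.t v ∈ N → v = 0 := fun v hv => hTT v 0 (M.zeror v) (by rw [M.t_zero, mul_one]; exact hv)
  have hC : ∀ d, d * w = w * d → d ∈ D := P.centN _ hw hww hw1
  have hwt : ∀ z, w ≠ M.t z := by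
    rintro z rfl
    apply hw1
    rw [hT z hw, M.t_zero]
  have hN := P.eq_pair (noCore M out) hw hww hw1 (by
    intro x hx hxw
    rcases M.gen_four hww hw1 hTT hS hxw (ctl_N P hC hx) with h | h | ⟨z, hz, h | h⟩
    · left; exact h
    · right; exact h
    · rw [h] at hx; exact absurd (hT _ hx) hz
    · exfalso
      rw [h] at hx
      have h1 := N.mul_mem (N.inv_mem hw) hx
      rw [inv_mul_cancel_left] at h1
      exact hz (hT _ h1))
  apply finish M P out hw hww hw1 hwt hN
  intro y hy hnt hwR hyw hyc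
  rcases M.gen_four hww hw1 hTT hS hyw hyc with h | h | ⟨z, hz, h | h⟩
  · left; exact h
  · right; exact h
  · rw [h] at hy; exact absurd hy (hnt z hz)
  · exfalso
    rw [h] at hy
    have h1 := (Rk R).mul_mem ((Rk R).inv_mem hwR) hy
    rw [inv_mul_cancel_left] at h1
    exact hnt z hz h1

include M in
theorem case_five [Finite K] (P : Pair D N R) (out : ∀ α : MulAut K, ∃ k, α = MulAut.conj k) (hN : N = ⊥) :
    False := by
  have hTT : ∀ a b, M.B a b = 0 → M.t a * M.t b ∈ N → a = b := by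
    intro a b _ h
    rw [hN, mem_bot] at h
    by_contra hab
    exact tt_ne_one M hab h
  have hS : ∀ a b, M.B a b = 0 → M.s a b ∈ N → a = 0 ∨ b = 0 ∨ a = b := by
    intro a b hab h
    rw [hN, mem_bot] at h
    by_contra hcon
    push Not at hcon
    exact s_ne_t M (z := 0) hab hcon.1 hcon.2.1 hcon.2.2 (by rw [M.t_zero]; exact h)
  have comm : ∀ y ∈ Rk R, ∀ d ∈ D, y * d = d * y := by
    intro y hy d hd
    have h1 := comm_Rk P hy hd
    rw [hN, mem_bot] at h1
    calc y * d = y * d * 1 := by rw [mul_one]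
      _ = y * d * (d * (y * d⁻¹ * y⁻¹))⁻¹ := by rw [h1, inv_one, mul_one]
      _ = _ := by
        have h2 : d * (y * d⁻¹ * y⁻¹) = 1 := h1
        have h3 : d * y = y * d := by
          calc d * y = d * (y * d⁻¹ * y⁻¹) * (y * d) := by group
            _ = y * d := by rw [h2, one_mul]
        rw [h1, inv_one, mul_one, h3]
  obtain ⟨w, hwR, _, _, hww, _, hw1, _, _⟩ := four M P out
  have hwD : w ∈ D := cent_Rk M P hwR hww hw1 rfl
  -- some transvection in `Rk`
  obtain ⟨z, hz, hzR⟩ : ∃ z, z ≠ 0 ∧ M.t z ∈ Rk R := by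
    by_contra hcon
    push Not at hcon
    apply not_pair M P out w
    intro y hy
    rcases M.gen_four hww hw1 hTT hS (comm y hy w hwD)
        (ctl_Rk P (fun d hd => cent_Rk M P hwR hww hw1 hd) hy) with h | h | ⟨z, hz, h | h⟩
    · left; exact h
    · right; exact h
    · rw [h] at hy; exact absurd hy (hcon z hz)
    · exfalso
      rw [h] at hy
      have h1 := (Rk R).mul_mem ((Rk R).inv_mem hwR) hy
      rw [inv_mul_cancel_left] at h1
      exact hcon z hz h1
  have hz1 : M.t z ≠ 1 := fun h => hz (M.t_eq_one h)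
  have hzD : M.t z ∈ D := cent_Rk M P hzR (M.t_mul_self z) hz1 rfl
  apply not_pair M P out (M.t z)
  intro y hy
  apply M.fix_perp
  intro v hv
  exact M.gen_fix (M.t_mul_self z) hz1 hTT (comm y hy _ hzD)
    (ctl_Rk P (fun d hd => cent_Rk M P hzR (M.t_mul_self z) hz1 hd) hy) v (M.t_fix hv)

/-- **no pair for `Sp_2n(2)`, `n ≥ 4`** -/
theorem pair_false [Finite K] (P : Pair D N R) (hinn : Inn D N R) (out : ∀ α : MulAut K, ∃ k, α = MulAut.conj k)
    (big : ∀ a b c : V, ∃ x, M.B x a = 0 ∧ M.B x b = 0 ∧ M.B x c = 0 ∧ x ∉ Submodule.span (ZMod 2) {a, b, c}) :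
    False := by
  by_cases hT : ∀ v, M.t v ∈ N → v = 0
  swap
  · push Not at hT
    obtain ⟨e, he, he0⟩ := hT
    exact case_one M P out big he0 he
  by_cases hS : ∀ a b, M.B a b = 0 → M.s a b ∈ N → a = 0 ∨ b = 0 ∨ a = b
  swap
  · push Not at hS
    obtain ⟨e, f, hef, hs, he, hf, hne⟩ := hS
    exact case_two M P out big hT hef he hf hne hs
  by_cases hTT : ∀ a b, M.B a b = 0 → M.t a * M.t b ∈ N → a = b
  swap
  · push Not at hTT
    obtain ⟨e, f, hef, hs, hne⟩ := hTT
    have he : e ≠ 0 := by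
      rintro rfl
      rw [M.t_zero, one_mul] at hs
      exact hne (hT _ hs).symm
    have hf : f ≠ 0 := by
      rintro rfl
      rw [M.t_zero, mul_one] at hs
      exact hne (hT _ hs)
    by_cases hs' : M.t e * M.t (e + f) ∈ N
    · exact case_three_b M P hinn out big hT hS hef he hf hne hs hs'
    · exact case_three_a M P out big hT hS hef he hf hne hs hs'
  by_cases hN : ∀ n ∈ N, n * n = 1 → n = 1
  · exact case_five M P out (P.eq_bot (noCore M out) hN)
  · push Not at hN
    obtain ⟨w, hw, hww, hw1⟩ := hN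
    exact case_four M P out hTT hS hw hww hw1

end Cfsg.Agent.OddHalf.D4.Sp2.Main
end

-- part: OddHalf/D9/GamUSix
section
prune_inst 0x4203034640922020000000592e1003c669e0001920068800088a00f0206800f2009062160bc10151010080a04403c0060060810c4600000000a000000011d05810008800411400100020008000080000000000000000000000000000000000004200000000
set_option linter.all false
open scoped Cfsg.Agent.FastGrp

-- part: OddHalf/D9/Gamma
section
/-!
# The hypothesis `hGamma` of `LemmaW.standard_list` (helper919)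

`Tied X`: two commuting involutions `a ≠ b` of `X` such that for each `w ∈ {a, b, ab}` the elements of odd
order commuting with `w` commute with `a` and `b`.

`tied`: a four-group `U` of inner automorphisms of `K` with `C_K(u) ≤ N(U)` for all `u ∈ U#` gives
`Tied (K / Z(K))`. `standard_list_of_not_tied`: LEMMA W with `¬ Tied (K / Z(K))`.
-/

set_option autoImplicit false

namespace Cfsg.Agent.OddHalf.D9.Gamma

open Subgroup

universe u

/-- two commuting involutions, tied together by the elements of odd order centralising one of them -/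
def Tied (X : Type*) [Group X] : Prop :=
  ∃ a b : X, a * a = 1 ∧ b * b = 1 ∧ a ≠ 1 ∧ b ≠ 1 ∧ a ≠ b ∧ a * b = b * a ∧
    ∀ x : X, Odd (orderOf x) → (x * a = a * x ∨ x * b = b * x ∨ x * (a * b) = a * b * x) →
      x * a = a * x ∧ x * b = b * x

theorem Tied.of_equiv {X Y : Type*} [Group X] [Group Y] (e : X ≃* Y) (h : Tied X) : Tied Y := by
  obtain ⟨a, b, ha, hb, ha1, hb1, hab, hc, H⟩ := h
  refine ⟨e a, e b, by rw [← map_mul, ha, map_one], by rw [← map_mul, hb, map_one],
    fun h => ha1 (e.injective (h.trans (map_one e).symm)),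
    fun h => hb1 (e.injective (h.trans (map_one e).symm)), fun h => hab (e.injective h),
    by rw [← map_mul, hc, map_mul], ?_⟩
  intro y hy hyw
  obtain ⟨x, rfl⟩ := e.surjective y
  rw [MulEquiv.orderOf_eq e x] at hy
  have hyw' : x * a = a * x ∨ x * b = b * x ∨ x * (a * b) = a * b * x := by
    rcases hyw with h | h | h
    · exact Or.inl (e.injective (by rw [map_mul, map_mul, h]))
    · exact Or.inr (Or.inl (e.injective (by rw [map_mul, map_mul, h])))
    · exact Or.inr (Or.inr (e.injective (by simpa only [map_mul] using h)))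
  obtain ⟨h1, h2⟩ := H x hy hyw'
  exact ⟨by rw [← map_mul, h1, map_mul], by rw [← map_mul, h2, map_mul]⟩

/-- in a group of order four of involutions -/
theorem four_eq {G : Type*} [Group G] {U : Subgroup G} (hel : ∀ u ∈ U, u * u = 1)
    (hcard : Nat.card U = 4) {a b : G} (ha : a ∈ U) (hb : b ∈ U) (ha1 : a ≠ 1) (hb1 : b ≠ 1)
    (hab : a ≠ b) {z : G} (hz : z ∈ U) : z = 1 ∨ z = a ∨ z = b ∨ z = a * b := by
  by_contra hcon
  push Not at hcon
  obtain ⟨h1, h2, h3, h4⟩ := hcon
  have hfin : Finite U := Nat.finite_of_card_ne_zero (by rw [hcard]; norm_num)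
  have hne : a * b ≠ 1 := by
    intro h
    apply hab
    have h5 : a * a = a * b := by rw [hel a ha, h]
    exact mul_left_cancel h5
  have hsub : ({1, a, b, a * b, z} : Set G) ⊆ (U : Set G) := by
    intro w hw
    simp only [Set.mem_insert_iff, Set.mem_singleton_iff] at hw
    rcases hw with rfl | rfl | rfl | rfl | rfl
    · exact U.one_mem
    · exact ha
    · exact hb
    · exact U.mul_mem ha hb
    · exact hz
  have hle := Set.ncard_le_ncard hsub (Set.toFinite _)
  have h5 : ({1, a, b, a * b, z} : Set G).ncard = 5 := by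
    rw [Set.ncard_insert_of_notMem, Set.ncard_insert_of_notMem, Set.ncard_insert_of_notMem,
      Set.ncard_insert_of_notMem, Set.ncard_singleton]
    · simpa using fun hc => h4 hc.symm
    · simp only [Set.mem_insert_iff, Set.mem_singleton_iff, not_or]
      refine ⟨fun hc => ha1 ?_, fun hc => h3 hc.symm⟩
      have : 1 * b = a * b := by rw [one_mul]; exact hc
      exact (mul_right_cancel this).symm
    · simp only [Set.mem_insert_iff, Set.mem_singleton_iff, not_or]
      refine ⟨hab, fun hc => hb1 ?_, fun hc => h2 hc.symm⟩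
      have : a * 1 = a * b := by rw [mul_one]; exact hc
      exact (mul_left_cancel this).symm
    · simp only [Set.mem_insert_iff, Set.mem_singleton_iff, not_or]
      exact ⟨fun hc => ha1 hc.symm, fun hc => hb1 hc.symm, fun hc => hne hc.symm,
        fun hc => h1 hc.symm⟩
  have h6 : (U : Set G).ncard = 4 := by rw [← hcard]; rfl
  omega

/-- two different involutions of a four-group -/
theorem exists_two {G : Type*} [Group G] {U : Subgroup G} (hcard : Nat.card U = 4) (a : G) :
    ∃ b ∈ U, b ≠ 1 ∧ b ≠ a := by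
  by_contra hcon
  push Not at hcon
  have hsub : (U : Set G) ⊆ ({1, a} : Set G) := by
    intro y hy
    by_cases h1 : y = 1
    · simp [h1]
    · simp [hcon y hy h1]
  have hle : (U : Set G).ncard ≤ ({1, a} : Set G).ncard :=
    Set.ncard_le_ncard hsub (Set.toFinite _)
  have h2 : ({1, a} : Set G).ncard ≤ 2 := Set.ncard_insert_le _ _ |>.trans (by simp)
  have h3 : (U : Set G).ncard = 4 := by rw [← hcard]; rfl
  omega

/-- an element of odd order modulo the centraliser of `v` whose square centralises `v` -/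
theorem comm_of_sq {G : Type*} [Group G] {y v : G} {n : ℕ} (hn : Odd n)
    (h2 : y ^ 2 * v = v * y ^ 2) (hy : y ^ n * v = v * y ^ n) : y * v = v * y := by
  obtain ⟨k, hk⟩ := hn
  have h3 : Commute (y ^ 2) v := h2
  have h4 : Commute (y ^ n) v := hy
  have h5 : y = ((y ^ 2) ^ k)⁻¹ * y ^ n := by
    rw [hk, ← pow_mul, pow_succ, inv_mul_cancel_left]
  rw [h5]
  exact ((h3.pow_left k).inv_left.mul_left h4).eq

section Lift

variable {G : Type*} [Group G] {K : Subgroup G}

/-- an inner involution commuting modulo the centre with an element of odd order commutes with it -/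
theorem comm_of_mk {y k : K} {u c : G} (hu : u * u = 1) (huk : u = k * c)
    (hc : c ∈ centralizer (K : Set G))
    (hyk : (QuotientGroup.mk y : K ⧸ center K) * QuotientGroup.mk k =
      QuotientGroup.mk k * QuotientGroup.mk y)
    {n : ℕ} (hn : Odd n) (hy : y ^ n ∈ center K) : (y : G) * u = u * y := by
  have hcK : ∀ x : K, c * (x : G) = x * c := fun x => (mem_centralizer_iff.1 hc x x.2).symm
  have hz : (y * k)⁻¹ * (k * y) ∈ center K := by
    rw [← QuotientGroup.eq]
    exact hyk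
  set z : K := (y * k)⁻¹ * (k * y) with hzdef
  have hky : k * y = y * k * z := by rw [hzdef]; group
  have hzK : ∀ x : K, x * z = z * x := fun x => mem_center_iff.1 hz x
  have huz : u * (z : G) = z * u := by
    rw [huk]
    have h1 : (k : G) * z = z * k := by
      have := congrArg Subtype.val (hzK k)
      exact this
    calc (k : G) * c * z = k * (c * z) := by group
      _ = (k * z) * c := by rw [hcK]; group
      _ = z * (k * c) := by rw [h1]; group
  have huy : u * y = y * u * z := by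
    have h1 : (k : G) * y = y * k * z := congrArg Subtype.val hky
    have h2 : (k : G) * z = z * k := congrArg Subtype.val (hzK k)
    calc u * y = k * (c * y) := by rw [huk]; group
      _ = k * y * c := by rw [hcK]; group
      _ = y * k * (z * c) := by rw [h1]; group
      _ = y * (k * c) * z := by rw [← hcK z]; group
      _ = y * u * z := by rw [← huk]
  have hyz : (y : G) * z = z * y := congrArg Subtype.val (hzK y)
  have hui : u⁻¹ = u := inv_eq_of_mul_eq_one_left hu
  have hz2 : (z : G) * z = 1 := by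
    have h1 : u * (u * y) = y * z * z := by
      calc u * (u * y) = u * (y * u * z) := by rw [huy]
        _ = (u * y) * (u * z) := by group
        _ = y * u * z * (u * z) := by rw [huy]
        _ = y * u * (z * u) * z := by group
        _ = y * u * (u * z) * z := by rw [huz]
        _ = y * (u * u) * z * z := by group
        _ = y * z * z := by rw [hu]; group
    have h2 : u * (u * y) = y := by rw [← mul_assoc, hu, one_mul]
    have h3 : (y : G) * (z * z) = y * 1 := by rw [← mul_assoc, ← h1, h2, mul_one]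
    exact mul_left_cancel h3
  have hpow : ∀ m : ℕ, u * (y : G) ^ m = y ^ m * z ^ m * u := by
    intro m
    induction m with
    | zero => simp
    | succ m ih =>
      have hc1 : Commute (y : G) (z : G) := hyz
      calc u * (y : G) ^ (m + 1) = (u * y ^ m) * y := by rw [pow_succ]; group
        _ = y ^ m * z ^ m * (u * y) := by rw [ih]; group
        _ = y ^ m * z ^ m * (y * (u * z)) := by rw [huy]; group
        _ = y ^ m * (z ^ m * y) * (z * u) := by rw [huz]; group
        _ = y ^ m * (y * z ^ m) * (z * u) := by rw [(hc1.pow_right m).eq]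
        _ = y ^ (m + 1) * z ^ (m + 1) * u := by rw [pow_succ, pow_succ]; group
  have hyn : u * (y : G) ^ n = y ^ n * u := by
    have h1 : (k : G) * y ^ n = y ^ n * k := by
      have := congrArg Subtype.val (mem_center_iff.1 hy k)
      simpa only [_root_.Subgroup.coe_mul, _root_.SubmonoidClass.coe_pow] using this
    have h2 : c * (y : G) ^ n = y ^ n * c := by
      have := hcK (y ^ n)
      simpa only [_root_.SubmonoidClass.coe_pow] using this
    calc u * (y : G) ^ n = k * (c * y ^ n) := by rw [huk]; group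
      _ = (k * y ^ n) * c := by rw [h2]; group
      _ = y ^ n * (k * c) := by rw [h1]; group
      _ = y ^ n * u := by rw [← huk]
  have hzn : (z : G) ^ n = 1 := by
    have h1 := (hpow n).symm.trans hyn
    have h2 : (y : G) ^ n * (z ^ n * u) = y ^ n * (1 * u) := by
      rw [← mul_assoc, h1, one_mul]
    exact mul_right_cancel (mul_left_cancel h2)
  have hz1 : (z : G) = 1 := by
    obtain ⟨m, hm⟩ := hn
    rw [hm, pow_succ, pow_mul, pow_two, hz2, one_pow, one_mul] at hzn
    exact hzn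
  rw [huy, hz1, mul_one]

/-- **the four-group is tied** -/
theorem tied {U : Subgroup G} (hel : ∀ u ∈ U, u * u = 1) (hcard : Nat.card U = 4)
    (hUC : U ⊓ centralizer (K : Set G) = ⊥)
    (hin : ∀ u ∈ U, ∃ k ∈ K, ∃ c ∈ centralizer (K : Set G), u = k * c)
    (hN : ∀ u ∈ U, u ≠ 1 → ∀ k ∈ K, k * u = u * k → k ∈ normalizer (U : Set G)) :
    Tied (K ⧸ center K) := by
  obtain ⟨u, hu, hu1, -⟩ := exists_two hcard 1
  obtain ⟨v, hv, hv1, hvu⟩ := exists_two hcard u
  obtain ⟨k, hk, c, hc, huk⟩ := hin u hu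
  obtain ⟨l, hl, d, hd, hvl⟩ := hin v hv
  have hcK : ∀ x ∈ K, c * x = x * c := fun x hx => (mem_centralizer_iff.1 hc x hx).symm
  have hdK : ∀ x ∈ K, d * x = x * d := fun x hx => (mem_centralizer_iff.1 hd x hx).symm
  have huv : u * v = v * u := by
    have h1 := hel (u * v) (U.mul_mem hu hv)
    have h2 : (u * v)⁻¹ = u * v := inv_eq_of_mul_eq_one_left h1
    rw [← h2, mul_inv_rev, inv_eq_of_mul_eq_one_left (hel u hu),
      inv_eq_of_mul_eq_one_left (hel v hv)]
  have huv1 : u * v ≠ 1 := by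
    intro h
    apply hvu
    have h5 : u * v = u * u := by rw [hel u hu, h]
    exact mul_left_cancel h5
  have notC : ∀ w ∈ U, w ≠ 1 → w ∉ centralizer (K : Set G) := by
    intro w hw hw1 hwC
    have : w ∈ U ⊓ centralizer (K : Set G) := ⟨hw, hwC⟩
    rw [hUC] at this
    exact hw1 (mem_bot.1 this)
  -- an inner element is in the centraliser if its `K`-part is central
  have cen : ∀ (w k' c' : G) (hk' : k' ∈ K), c' ∈ centralizer (K : Set G) → w = k' * c' →
      (⟨k', hk'⟩ : K) ∈ center K → w ∈ centralizer (K : Set G) := by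
    intro w k' c' hk' hc' hw hcen
    rw [mem_centralizer_iff]
    intro x hx
    have h1 : x * k' = k' * x := congrArg Subtype.val (mem_center_iff.1 hcen ⟨x, hx⟩)
    have h2 : x * c' = c' * x := mem_centralizer_iff.1 hc' x hx
    rw [hw, ← mul_assoc, h1, mul_assoc, h2, mul_assoc]
  have hw : u * v = (k * l) * (c * d) := by
    rw [huk, hvl]
    calc k * c * (l * d) = k * (c * l) * d := by group
      _ = k * l * (c * d) := by rw [hcK l hl]; group
  have hcd : c * d ∈ centralizer (K : Set G) := mul_mem hc hd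
  -- squares
  have sqc : ∀ (w k' c' : G) (hk' : k' ∈ K), c' ∈ centralizer (K : Set G) → w = k' * c' →
      w * w = 1 → (⟨k', hk'⟩ : K) * ⟨k', hk'⟩ ∈ center K := by
    intro w k' c' hk' hc' hw hww
    rw [mem_center_iff]
    intro x
    apply Subtype.ext
    show (x : G) * (k' * k') = k' * k' * x
    have h2 : ∀ y ∈ K, y * c' = c' * y := fun y hy => mem_centralizer_iff.1 hc' y hy
    have h3 : k' * k' = (c' * c')⁻¹ := by
      rw [eq_inv_iff_mul_eq_one]
      calc k' * k' * (c' * c') = k' * (k' * c') * c' := by group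
        _ = k' * (c' * k') * c' := by rw [h2 k' hk']
        _ = (k' * c') * (k' * c') := by group
        _ = 1 := by rw [← hw, hww]
    rw [h3]
    have h4 : (x : G) * (c' * c') = c' * c' * x := by
      rw [← mul_assoc, h2 x x.2, mul_assoc, h2 x x.2, mul_assoc]
    exact (show Commute (x : G) (c' * c') from h4).inv_right.eq
  refine ⟨QuotientGroup.mk ⟨k, hk⟩, QuotientGroup.mk ⟨l, hl⟩, ?_, ?_, ?_, ?_, ?_, ?_, ?_⟩
  · rw [← QuotientGroup.mk_mul, QuotientGroup.eq_one_iff]
    exact sqc u k c hk hc huk (hel u hu)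
  · rw [← QuotientGroup.mk_mul, QuotientGroup.eq_one_iff]
    exact sqc v l d hl hd hvl (hel v hv)
  · intro h
    rw [QuotientGroup.eq_one_iff] at h
    exact notC u hu hu1 (cen u k c hk hc huk h)
  · intro h
    rw [QuotientGroup.eq_one_iff] at h
    exact notC v hv hv1 (cen v l d hl hd hvl h)
  · intro h
    have h1 : (⟨k, hk⟩ : K) * ⟨l, hl⟩ ∈ center K := by
      rw [← QuotientGroup.eq_one_iff, QuotientGroup.mk_mul, ← h, ← QuotientGroup.mk_mul,
        QuotientGroup.eq_one_iff]
      exact sqc u k c hk hc huk (hel u hu)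
    exact notC (u * v) (U.mul_mem hu hv) huv1 (cen (u * v) (k * l) (c * d) (K.mul_mem hk hl) hcd hw h1)
  · rw [← QuotientGroup.mk_mul, ← QuotientGroup.mk_mul, QuotientGroup.eq, mem_center_iff]
    intro x
    apply Subtype.ext
    show (x : G) * ((k * l)⁻¹ * (l * k)) = (k * l)⁻¹ * (l * k) * x
    have h1 : (k * l)⁻¹ * (l * k) = (c * d) * (d * c)⁻¹ := by
      rw [inv_mul_eq_iff_eq_mul, ← mul_assoc, ← mul_inv_eq_iff_eq_mul, inv_inv]
      calc l * k * (d * c) = l * (k * d) * c := by group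
        _ = (l * d) * (k * c) := by rw [← hdK k hk]; group
        _ = v * u := by rw [← huk, ← hvl]
        _ = k * l * (c * d) := by rw [← huv, hw]
    rw [h1]
    have h2 : Commute (x : G) (c * d) := (mem_centralizer_iff.1 hcd x x.2)
    have h3 : Commute (x : G) (d * c) := (mem_centralizer_iff.1 (mul_mem hd hc) x x.2)
    exact (h2.mul_right h3.inv_right).eq
  · intro x hx hxw
    obtain ⟨y, rfl⟩ := QuotientGroup.mk_surjective x
    set n := orderOf (QuotientGroup.mk y : K ⧸ center K) with hn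
    have hyn : y ^ n ∈ center K := by
      rw [← QuotientGroup.eq_one_iff, QuotientGroup.mk_pow, hn, pow_orderOf_eq_one]
    -- `y` commutes with some `w ∈ U#`
    obtain ⟨w, hwU, hw1, hyw⟩ : ∃ w ∈ U, w ≠ 1 ∧ (y : G) * w = w * y := by
      rcases hxw with h | h | h
      · exact ⟨u, hu, hu1, comm_of_mk (k := ⟨k, hk⟩) (hel u hu) huk hc h hx hyn⟩
      · exact ⟨v, hv, hv1, comm_of_mk (k := ⟨l, hl⟩) (hel v hv) hvl hd h hx hyn⟩
      · exact ⟨u * v, U.mul_mem hu hv, huv1, comm_of_mk (k := ⟨k, hk⟩ * ⟨l, hl⟩)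
          (hel _ (U.mul_mem hu hv)) hw hcd (by rw [QuotientGroup.mk_mul]; exact h) hx hyn⟩
    have hyN := hN w hwU hw1 y y.2 hyw
    -- `y ^ n` centralises `U`
    have hynU : ∀ s ∈ U, (y : G) ^ n * s = s * y ^ n := by
      intro s hs
      obtain ⟨k', hk', c', hc', hsk⟩ := hin s hs
      have h1 : (k' : G) * (y : G) ^ n = y ^ n * k' := by
        have := congrArg Subtype.val (mem_center_iff.1 hyn ⟨k', hk'⟩)
        simpa only [_root_.Subgroup.coe_mul, _root_.SubmonoidClass.coe_pow] using this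
      have h2 : (y : G) ^ n * c' = c' * y ^ n := by
        have := mem_centralizer_iff.1 hc' (y ^ n : K) (y ^ n).2
        simpa only [_root_.SubmonoidClass.coe_pow] using this
      calc (y : G) ^ n * s = (y ^ n * k') * c' := by rw [hsk]; group
        _ = k' * (y ^ n * c') := by rw [← h1]; group
        _ = s * y ^ n := by rw [h2, hsk]; group
    -- `y` centralises `U`
    have hyU : ∀ s ∈ U, (y : G) * s = s * y := by
      intro s hs
      by_cases hs1 : s = 1
      · rw [hs1]; group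
      by_cases hsw : s = w
      · rw [hsw]; exact hyw
      have hyi : ∀ x ∈ U, (y : G) * x * (y : G)⁻¹ ∈ U := fun x hx => (mem_normalizer_iff.1 hyN x).1 hx
      have hws : w * s = s * w := by
        have h1 := hel (w * s) (U.mul_mem hwU hs)
        have h2 : (w * s)⁻¹ = w * s := inv_eq_of_mul_eq_one_left h1
        rw [← h2, mul_inv_rev, inv_eq_of_mul_eq_one_left (hel w hwU),
          inv_eq_of_mul_eq_one_left (hel s hs)]
      rcases four_eq hel hcard hwU hs hw1 hs1 (Ne.symm hsw) (hyi s hs) with h | h | h | h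
      · exfalso
        apply hs1
        calc s = (y : G)⁻¹ * (y * s * (y : G)⁻¹) * y := by group
          _ = 1 := by rw [h]; group
      · exfalso
        apply hsw
        calc s = (y : G)⁻¹ * (y * s * (y : G)⁻¹) * y := by group
          _ = (y : G)⁻¹ * (w * y) := by rw [h]; group
          _ = w := by rw [← hyw]; group
      · calc (y : G) * s = (y * s * (y : G)⁻¹) * y := by group
          _ = s * y := by rw [h]
      · apply comm_of_sq hx _ (hynU s hs)
        have h1 : (y : G) * s = w * s * y := by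
          calc (y : G) * s = (y * s * (y : G)⁻¹) * y := by group
            _ = w * s * y := by rw [h]
        rw [pow_two]
        calc (y : G) * y * s = y * (y * s) := by group
          _ = (y * w) * s * y := by rw [h1]; group
          _ = w * (y * s) * y := by rw [hyw]; group
          _ = (w * w) * s * (y * y) := by rw [h1]; group
          _ = s * (y * y) := by rw [hel w hwU, one_mul]
    -- back in the quotient
    have back : ∀ (s k' c' : G) (hk' : k' ∈ K), c' ∈ centralizer (K : Set G) → s = k' * c' →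
        s ∈ U → (QuotientGroup.mk y : K ⧸ center K) * QuotientGroup.mk ⟨k', hk'⟩ =
          QuotientGroup.mk ⟨k', hk'⟩ * QuotientGroup.mk y := by
      intro s k' c' hk' hc' hsk hsU
      rw [← QuotientGroup.mk_mul, ← QuotientGroup.mk_mul]
      congr 1
      apply Subtype.ext
      show (y : G) * k' = k' * y
      have h1 := hyU s hsU
      have h2 : (y : G) * c' = c' * y := mem_centralizer_iff.1 hc' y y.2
      have h3 : (y : G) * k' * c' = k' * y * c' := by
        calc (y : G) * k' * c' = y * s := by rw [hsk]; group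
          _ = k' * (c' * y) := by rw [h1, hsk]; group
          _ = k' * y * c' := by rw [← h2]; group
      exact mul_right_cancel h3
    exact ⟨back u k c hk hc huk hu, back v l d hl hd hvl hv⟩

end Lift

end Cfsg.Agent.OddHalf.D9.Gamma
end

-- part: OddHalf/D9/GamUSix
section
/-!
# `¬ Tied (PSU 6 F 2)`, `|F| = 4` (helper919)
-/

set_option autoImplicit false
set_option linter.unusedSectionVars false

namespace Cfsg.Agent.OddHalf.D9.GamUSix

open Cfsg Cfsg.Agent.LieClassical.HermBasic Cfsg.Agent.ClassicalGeometry.UnitTransv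
open Cfsg.Agent.SporadicStructure.UnitTwo
open Cfsg.Agent.R01.PSUSix Cfsg.Agent.R01.InvForm
open Cfsg.Agent.ClassicalGeometry.UnitAutBasic (tau pr pr_surjective)
open Gamma Matrix

variable {F : Type*} [Field F] [Fintype F]

/-! ### diagonal elements -/

theorem herm_diag (l : Fin 6 → F) (hl : ∀ i, l i ^ 3 = 1) (x y : Fin 6 → F) :
    hermForm 6 F 2 (Matrix.diagonal l *ᵥ x) (Matrix.diagonal l *ᵥ y) = hermForm 6 F 2 x y := by
  rw [herm_def, herm_def]
  apply Finset.sum_congr rfl
  intro i _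
  rw [Matrix.mulVec_diagonal, Matrix.mulVec_diagonal]
  linear_combination (x i * y i ^ 2) * hl i

/-- the diagonal element -/
def dg (l : Fin 6 → F) (hd : ∏ i, l i = 1) (hl : ∀ i, l i ^ 3 = 1) : SU 6 F 2 :=
  mk (Matrix.diagonal l) (by rw [Matrix.det_diagonal, hd]) (herm_diag l hl)

theorem act_dg (l : Fin 6 → F) (hd : ∏ i, l i = 1) (hl : ∀ i, l i ^ 3 = 1) (x : Fin 6 → F) (i : Fin 6) :
    act (dg l hd hl) x i = l i * x i := by
  rw [dg, act_mk, Matrix.mulVec_diagonal]

theorem dg_pow_three (l : Fin 6 → F) (hd : ∏ i, l i = 1) (hl : ∀ i, l i ^ 3 = 1) :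
    dg l hd hl ^ 3 = 1 := by
  apply ext_act
  intro x
  funext i
  rw [pow_succ, pow_two, act_mul, act_mul, act_dg, act_dg, act_dg, act_one]
  linear_combination x i * hl i

/-- the permutation `x ↦ (x₄, x₅, x₀, x₁, x₂, x₃)` -/
def cyc : SU 6 F 2 :=
  mk (Matrix.of ![![0, 0, 0, 0, 1, 0], ![0, 0, 0, 0, 0, 1], ![1, 0, 0, 0, 0, 0], ![0, 1, 0, 0, 0, 0],
    ![0, 0, 1, 0, 0, 0], ![0, 0, 0, 1, 0, 0]]) (by
      simp only [Matrix.det_succ_row_zero, Fin.sum_univ_succ, Fin.succAbove, _root_.Nat.succ_eq_add_one, _root_.Nat.reduceAdd, _root_.Fin.isValue, _root_.Matrix.of_apply, _root_.Matrix.cons_val', _root_.Matrix.cons_val_fin_one, _root_.Matrix.cons_val_zero, _root_.Matrix.submatrix_apply, _root_.Fin.succ_zero_eq_one, _root_.Matrix.cons_val_one, _root_.Matrix.submatrix_submatrix, _root_.Function.comp_apply, _root_.Fin.succ_one_eq_two, _root_.Matrix.cons_val, _root_.Fin.reduceSucc, _root_.Matrix.det_unique, _root_.Fin.default_eq_zero, _root_.Fin.castSucc_zero, _root_.Fin.coe_ofNat_eq_mod,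 _root_.Nat.zero_mod, _root_.pow_zero, _root_.one_mul, _root_.lt_self_iff_false, ↓ _root_.reduceIte, _root_.Fin.castSucc_one, _root_.Finset.univ_unique, _root_.Fin.val_succ, _root_.Fin.val_eq_zero, _root_.zero_add, _root_.pow_one, _root_.Fin.castSucc_succ, _root_.neg_mul, _root_.Fin.succ_pos, _root_.Finset.sum_neg_distrib, _root_.Finset.sum_singleton, _root_.not_lt_zero, _root_.Fin.reduceCastSucc, _root_.even_two, _root_.Even.neg_pow, _root_.one_pow, _root_.Fin.reduceLT, _root_.Fin.lt_one_iff, _root_.Fin.reduceEq, _root_.MulZeroClass.mul_zero, _root_.neg_zero, _root_.add_zero, _root_.mul_one, _root_.Matrix.cons_val_succ, _root_.MulZeroClass.zero_mul, _root_.Finset.sum_const_zero]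
      norm_num)
    (by
      intro x y
      rw [herm_def, herm_def]
      simp only [Matrix.mulVec, dotProduct, Fin.sum_univ_succ, _root_.Matrix.of_apply, _root_.Matrix.cons_val', _root_.Matrix.cons_val_fin_one, _root_.Fin.isValue, _root_.Matrix.cons_val_zero, _root_.Matrix.cons_val_succ, _root_.Fin.succ_zero_eq_one, _root_.Fin.succ_one_eq_two, _root_.Fin.reduceSucc, _root_.Finset.univ_unique, _root_.Fin.default_eq_zero, _root_.Finset.sum_singleton, _root_.MulZeroClass.zero_mul, _root_.one_mul, _root_.add_zero, _root_.zero_add, _root_.Finset.sum_const, _root_.Finset.card_singleton, _root_.one_smul]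
      ring)

theorem act_cyc (x : Fin 6 → F) : act (cyc : SU 6 F 2) x = ![x 4, x 5, x 0, x 1, x 2, x 3] := by
  rw [cyc, act_mk]
  funext i
  (revert i; simp only [Matrix.mulVec, dotProduct, Fin.sum_univ_succ, _root_.Fin.forall_fin_succ, _root_.Matrix.of_apply, _root_.Matrix.cons_val', _root_.Matrix.cons_val_fin_one, Fin.isValue, _root_.Matrix.cons_val_zero, _root_.Matrix.cons_val_succ, _root_.Fin.succ_zero_eq_one, _root_.Fin.succ_one_eq_two, Fin.reduceSucc, _root_.Finset.univ_unique, _root_.Fin.default_eq_zero, _root_.Finset.sum_singleton, _root_.Nat.succ_eq_add_one, Nat.reduceAdd, _root_.MulZeroClass.zero_mul, _root_.one_mul, _root_.add_zero, _root_.zero_add, _root_.implies_true, _root_.and_self])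

theorem cyc_pow_three : (cyc : SU 6 F 2) ^ 3 = 1 := by
  apply ext_act
  intro x
  rw [pow_succ, pow_two, act_mul, act_mul, act_cyc, act_cyc, act_cyc, act_one]
  funext i
  (revert i; simp only [_root_.Fin.forall_fin_succ, _root_.Nat.succ_eq_add_one, Nat.reduceAdd, Fin.isValue, _root_.Matrix.cons_val, _root_.Matrix.cons_val_zero, _root_.Matrix.cons_val_one, _root_.Matrix.cons_val_succ, _root_.Fin.succ_zero_eq_one, _root_.Fin.succ_one_eq_two, Fin.reduceSucc, _root_.Matrix.cons_val_fin_one, _root_.IsEmpty.forall_iff, _root_.and_self])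

theorem center_pow_three (hF : Fintype.card F = 2 ^ 2) {z : SU 6 F 2}
    (hz : z ∈ Subgroup.center (SU 6 F 2)) : z ^ 3 = 1 := by
  obtain ⟨c, hc1, hc⟩ := Cfsg.Agent.ClassicalGeometry.UnitAutBasic.exists_scalar_of_mem_center hF
    (by norm_num) hz
  have hc' : ∀ v : Fin 6 → F, act z v = c • v := hc
  have hc0 : c ≠ 0 := (norm_iff hF).1 hc1
  have hc3 : c ^ 3 = 1 := pow_three hF hc0
  apply ext_act
  intro v
  rw [pow_succ, pow_two, act_mul, act_mul, hc', hc', hc', act_one, smul_smul, smul_smul,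
    show c * c * c = c ^ 3 by ring, hc3, one_smul]

/-- an involution commuting modulo the centre with an element commutes with it -/
theorem comm_of_pr (hF : Fintype.card F = 2 ^ 2) {x d : SU 6 F 2} (hx : x * x = 1)
    (h : pr 6 F 2 x * pr 6 F 2 d = pr 6 F 2 d * pr 6 F 2 x) : x * d = d * x := by
  have hz : (x * d)⁻¹ * (d * x) ∈ Subgroup.center (SU 6 F 2) := by
    rw [← QuotientGroup.eq]
    rw [← map_mul, ← map_mul] at h
    exact h
  have hz3 := center_pow_three hF hz
  set z := (x * d)⁻¹ * (d * x) with hzd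
  have h1 : d * x = x * d * z := by rw [hzd]; group
  have hzc : ∀ g : SU 6 F 2, g * z = z * g := fun g => Subgroup.mem_center_iff.1 hz g
  have h2 : d = x * d * x * z := by
    calc d = (d * x) * x := by rw [mul_assoc, hx, mul_one]
      _ = x * d * z * x := by rw [h1]
      _ = x * d * (x * z) := by rw [hzc x]; group
      _ = x * d * x * z := by group
  have hz2 : z * z = 1 := by
    have h3 : x * d * x = d * z := by
      calc x * d * x = x * (d * x) := by group
        _ = (x * x) * d * z := by rw [h1]; group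
        _ = d * z := by rw [hx, one_mul]
    have h4 : d * (z * z) = d * 1 := by
      calc d * (z * z) = (d * z) * z := by group
        _ = d := by rw [← h3]; exact h2.symm
        _ = d * 1 := (mul_one d).symm
    exact mul_left_cancel h4
  have hz1 : z = 1 := by
    rw [pow_succ, pow_two, hz2, one_mul] at hz3
    exact hz3
  rw [h1, hz1, mul_one]

/-! ### coordinates -/

/-- entries -/
def X (x : SU 6 F 2) (i j : Fin 6) : F := act x (Pi.single j 1) i

theorem act_eq_sum (x : SU 6 F 2) (y : Fin 6 → F) (i : Fin 6) : act x y i = ∑ j, X x i j * y j := by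
  have h1 : ∀ j, X x i j = (x.1.1 : Matrix (Fin 6) (Fin 6) F) i j := by
    intro j
    rw [X, act_def, Matrix.mulVec_single_one]
    rfl
  rw [act_def]
  simp only [Matrix.mulVec, dotProduct, h1]

/-- an element commuting with a diagonal one -/
theorem X_eq_zero {x : SU 6 F 2} {l : Fin 6 → F} {hd : ∏ i, l i = 1} {hl : ∀ i, l i ^ 3 = 1}
    (h : x * dg l hd hl = dg l hd hl * x) {i j : Fin 6} (hij : l i ≠ l j) : X x i j = 0 := by
  have h1 : act x (act (dg l hd hl) (Pi.single j 1)) i = act (dg l hd hl) (act x (Pi.single j 1)) i := by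
    rw [← act_mul, ← act_mul, h]
  have h2 : act (dg l hd hl) (Pi.single j (1 : F)) = l j • (Pi.single j (1 : F)) := by
    funext k
    rw [act_dg, Pi.smul_apply, smul_eq_mul]
    by_cases hk : k = j
    · rw [hk]
    · rw [Pi.single_eq_of_ne hk, mul_zero, mul_zero]
  rw [h2, act_smul, act_dg, Pi.smul_apply, smul_eq_mul] at h1
  have h3 : (l i - l j) * X x i j = 0 := by
    show (l i - l j) * act x (Pi.single j 1) i = 0
    linear_combination -h1
  exact (mul_eq_zero.1 h3).resolve_left (sub_ne_zero.2 hij)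

section Std

variable (hF : Fintype.card F = 2 ^ 2)

theorem pair_cases (hF : Fintype.card F = 2 ^ 2) {p q : F} (h1 : p * p + q * q = 1)
    (h2 : p * p ^ 2 + q * q ^ 2 = 1) : (p = 1 ∧ q = 0) ∨ (p = 0 ∧ q = 1) := by
  have h := two_eq_zero hF
  have h3 : (p + q + 1) * (p + q + 1) = 0 := by
    linear_combination h1 + (p * q + p + q + 1) * h
  have h4 : p + q + 1 = 0 := mul_self_eq_zero.1 h3
  have h5 : q = p + 1 := by linear_combination h4 - (p + 1) * h
  have h6 : p * q = 0 := by
    have h7 : q = 1 - p - 0 + 0 * p := by rw [h5]; linear_combination p * h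
    have h8 : (p + q) * (p * p - p * q + q * q) = 1 := by linear_combination h2
    have h9 : p + q = 1 := by linear_combination h4 - h
    rw [h9, one_mul] at h8
    linear_combination h1 - h8
  rcases mul_eq_zero.1 h6 with h7 | h7
  · exact Or.inr ⟨h7, by rw [h5, h7, zero_add]⟩
  · refine Or.inl ⟨?_, h7⟩
    rw [h7] at h4
    linear_combination h4 - h

/-- the standard transvections -/
noncomputable def S1 : SU 6 F 2 := T hF ![1, 1, 0, 0, 0, 0] (fr3_std hF).uu
noncomputable def S2 : SU 6 F 2 := T hF ![0, 0, 1, 1, 0, 0] (fr3_std hF).vv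
noncomputable def S3 : SU 6 F 2 := T hF ![0, 0, 0, 0, 1, 1] (fr3_std hF).ww

theorem act_S1 (y : Fin 6 → F) : act (S1 hF) y = ![y 1, y 0, y 2, y 3, y 4, y 5] := by
  have h := two_eq_zero hF
  rw [S1, act_T, herm_def]
  funext i
  (revert i; simp only [Fin.sum_univ_succ, _root_.Fin.forall_fin_succ, Fin.isValue, _root_.Matrix.cons_val_zero, _root_.one_pow, _root_.mul_one, _root_.Matrix.cons_val_succ, _root_.Fin.succ_zero_eq_one, _root_.Fin.succ_one_eq_two, _root_.ne_eq, _root_.OfNat.ofNat_ne_zero, _root_.not_false_eq_true, _root_.zero_pow, _root_.MulZeroClass.mul_zero, Fin.reduceSucc, _root_.Finset.univ_unique, _root_.Fin.default_eq_zero, _root_.Matrix.cons_val_fin_one, _root_.Finset.sum_const_zero, _root_.add_zero, _root_.Matrix.smul_cons, _root_.smul_eq_mul, _root_.Matrix.smul_empty, _root_.Pi.add_apply, _root_.Nat.succ_eq_add_one, Nat.reduceAdd, _root_.IsEmpty.forall_iff, _root_.and_true, _root_.true_and]) <;> (repeat' with_reducible apply And.intro)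
  · linear_combination y 0 * h
  · linear_combination y 1 * h

theorem act_S2 (y : Fin 6 → F) : act (S2 hF) y = ![y 0, y 1, y 3, y 2, y 4, y 5] := by
  have h := two_eq_zero hF
  rw [S2, act_T, herm_def]
  funext i
  (revert i; simp only [Fin.sum_univ_succ, _root_.Fin.forall_fin_succ, Fin.isValue, _root_.Matrix.cons_val_zero, _root_.ne_eq, _root_.OfNat.ofNat_ne_zero, _root_.not_false_eq_true, _root_.zero_pow, _root_.MulZeroClass.mul_zero, _root_.Matrix.cons_val_succ, _root_.Fin.succ_zero_eq_one, _root_.Fin.succ_one_eq_two, _root_.one_pow, _root_.mul_one, Fin.reduceSucc, _root_.Finset.univ_unique, _root_.Fin.default_eq_zero, _root_.Matrix.cons_val_fin_one, _root_.Finset.sum_const_zero, _root_.add_zero, _root_.zero_add, _root_.Matrix.smul_cons, _root_.smul_eq_mul, _root_.Matrix.smul_empty, _root_.Pi.add_apply, _root_.Nat.succ_eq_add_one, Nat.reduceAdd, _root_.IsEmpty.forall_iff, _root_.and_true, _root_.true_and]) <;> (repeat' with_reducible apply And.intro)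
  · linear_combination y 2 * h
  · linear_combination y 3 * h

theorem act_S3 (y : Fin 6 → F) : act (S3 hF) y = ![y 0, y 1, y 2, y 3, y 5, y 4] := by
  have h := two_eq_zero hF
  rw [S3, act_T, herm_def]
  funext i
  (revert i; simp only [Fin.sum_univ_succ, _root_.Fin.forall_fin_succ, Fin.isValue, _root_.Matrix.cons_val_zero, _root_.ne_eq, _root_.OfNat.ofNat_ne_zero, _root_.not_false_eq_true, _root_.zero_pow, _root_.MulZeroClass.mul_zero, _root_.Matrix.cons_val_succ, _root_.Fin.succ_zero_eq_one, _root_.Fin.succ_one_eq_two, Fin.reduceSucc, _root_.one_pow, _root_.mul_one, _root_.Finset.univ_unique, _root_.Fin.default_eq_zero, _root_.Matrix.cons_val_fin_one, _root_.Finset.sum_singleton, _root_.zero_add, _root_.Matrix.smul_cons, _root_.smul_eq_mul, _root_.Matrix.smul_empty, _root_.Pi.add_apply, _root_.Nat.succ_eq_add_one, Nat.reduceAdd, _root_.add_zero, _root_.IsEmpty.forall_iff, _root_.and_true, _root_.true_and]) <;> (repeat' with_reducible apply And.intro)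
  · linear_combination y 4 * h
  · linear_combination y 5 * h

/-- block form -/
def Blk (x : SU 6 F 2) (s1 s2 s3 : Bool) : Prop :=
  ∀ y : Fin 6 → F, act x y = ![if s1 then y 1 else y 0, if s1 then y 0 else y 1,
    if s2 then y 3 else y 2, if s2 then y 2 else y 3, if s3 then y 5 else y 4, if s3 then y 4 else y 5]

theorem Blk.eq {x y : SU 6 F 2} {s1 s2 s3 : Bool} (hx : Blk x s1 s2 s3) (hy : Blk y s1 s2 s3) : x = y :=
  ext_act fun z => (hx z).trans (hy z).symm

theorem blk_one : Blk (1 : SU 6 F 2) false false false := by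
  intro y
  rw [act_one]
  funext i
  fin_cases i <;> simp

theorem blk_S1 : Blk (S1 hF) true false false := by
  intro y
  rw [act_S1]
  funext i
  fin_cases i <;> simp

theorem blk_S2 : Blk (S2 hF) false true false := by
  intro y
  rw [act_S2]
  funext i
  fin_cases i <;> simp

theorem blk_S12 : Blk (S1 hF * S2 hF) true true false := by
  intro y
  rw [act_mul, act_S1, act_S2]
  funext i
  (revert i; simp [_root_.Fin.forall_fin_succ])

theorem blk_S123 : Blk (S1 hF * S2 hF * S3 hF) true true true := by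
  intro y
  rw [act_mul, act_mul, act_S1, act_S2, act_S3]
  funext i
  (revert i; simp [_root_.Fin.forall_fin_succ])

theorem norm_X (x : SU 6 F 2) (j : Fin 6) : ∑ i, X x i j * X x i j ^ 2 = 1 := by
  have h1 := herm_act x (Pi.single j (1 : F)) (Pi.single j (1 : F))
  rw [herm_def, herm_def] at h1
  rw [show ∑ i, X x i j * X x i j ^ 2 = _ from h1, Finset.sum_eq_single j]
  · simp
  · intro b _ hb
    simp [Pi.single_eq_of_ne hb]
  · simp

theorem sq_X {x : SU 6 F 2} (hx : x * x = 1) (j : Fin 6) : ∑ k, X x j k * X x k j = 1 := by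
  have h1 : act x (act x (Pi.single j (1 : F))) j = 1 := by
    rw [← act_mul, hx, act_one]; simp
  rw [act_eq_sum] at h1
  exact h1

/-- a fixed coordinate -/
theorem X_diag (hF : Fintype.card F = 2 ^ 2) {x : SU 6 F 2} (hx : x * x = 1) {j : Fin 6}
    (h : ∀ i, i ≠ j → X x i j = 0) : X x j j = 1 := by
  have h1 := sq_X hx j
  rw [Finset.sum_eq_single j] at h1
  · have h2 : (X x j j + 1) * (X x j j + 1) = 0 := by
      linear_combination h1 + (X x j j + 1) * two_eq_zero hF
    have h3 := mul_self_eq_zero.1 h2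
    linear_combination h3 - two_eq_zero hF
  · intro b _ hb
    rw [h b hb, mul_zero]
  · simp

/-- a swapped pair of coordinates -/
theorem X_pair (hF : Fintype.card F = 2 ^ 2) {x : SU 6 F 2} (hx : x * x = 1) {j k : Fin 6} (hjk : j ≠ k)
    (h : ∀ i, i ≠ j → i ≠ k → X x i j = 0) (h1 : X x j k = X x k j) :
    (X x j j = 1 ∧ X x k j = 0) ∨ (X x j j = 0 ∧ X x k j = 1) := by
  have e1 := sq_X hx j
  have e2 := norm_X x j
  have key : ∀ f : Fin 6 → F, (∀ i, i ≠ j → i ≠ k → f i = 0) → ∑ i, f i = f j + f k := by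
    intro f hf
    rw [← Finset.sum_pair hjk]
    symm
    apply Finset.sum_subset (Finset.subset_univ _)
    intro i _ hi
    simp only [Finset.mem_insert, Finset.mem_singleton, not_or] at hi
    exact hf i hi.1 hi.2
  rw [key _ (fun i hi hi' => by rw [h i hi hi', mul_zero])] at e1
  rw [key _ (fun i hi hi' => by rw [h i hi hi', zero_mul])] at e2
  apply pair_cases hF
  · rw [h1] at e1; exact e1
  · exact e2

theorem blk_of {x : SU 6 F 2} (h : ∀ i j : Fin 6, (i : ℕ) / 2 ≠ (j : ℕ) / 2 → X x i j = 0)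
    (h1 : X x 0 1 = X x 1 0) (h2 : X x 1 1 = X x 0 0) (h3 : X x 2 3 = X x 3 2) (h4 : X x 3 3 = X x 2 2)
    (h5 : X x 4 5 = X x 5 4) (h6 : X x 5 5 = X x 4 4) {s1 s2 s3 : Bool}
    (e1 : X x 0 0 = (if s1 then 0 else 1) ∧ X x 1 0 = (if s1 then 1 else 0))
    (e2 : X x 2 2 = (if s2 then 0 else 1) ∧ X x 3 2 = (if s2 then 1 else 0))
    (e3 : X x 4 4 = (if s3 then 0 else 1) ∧ X x 5 4 = (if s3 then 1 else 0)) : Blk x s1 s2 s3 := by
  have key : ∀ (y : Fin 6 → F) (i : Fin 6), act x y i = X x i 0 * y 0 + X x i 1 * y 1 + X x i 2 * y 2 +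
      X x i 3 * y 3 + X x i 4 * y 4 + X x i 5 * y 5 := by
    intro y i
    rw [act_eq_sum]
    simp only [Fin.sum_univ_succ, Fin.sum_univ_zero]
    simp only [_root_.Fin.isValue, _root_.Fin.succ_zero_eq_one, _root_.Fin.succ_one_eq_two, _root_.Fin.reduceSucc, _root_.add_zero]
    ring
  intro y
  funext i
  rw [key]
  fin_cases i
  · show X x 0 0 * y 0 + X x 0 1 * y 1 + X x 0 2 * y 2 + X x 0 3 * y 3 + X x 0 4 * y 4 + X x 0 5 * y 5 =
      (if s1 then y 1 else y 0)
    rw [h 0 2 (by decide), h 0 3 (by decide), h 0 4 (by decide), h 0 5 (by decide), h1, e1.1, e1.2]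
    cases s1 <;> simp
  · show X x 1 0 * y 0 + X x 1 1 * y 1 + X x 1 2 * y 2 + X x 1 3 * y 3 + X x 1 4 * y 4 + X x 1 5 * y 5 =
      (if s1 then y 0 else y 1)
    rw [h 1 2 (by decide), h 1 3 (by decide), h 1 4 (by decide), h 1 5 (by decide), h2, e1.1, e1.2]
    cases s1 <;> simp
  · show X x 2 0 * y 0 + X x 2 1 * y 1 + X x 2 2 * y 2 + X x 2 3 * y 3 + X x 2 4 * y 4 + X x 2 5 * y 5 =
      (if s2 then y 3 else y 2)
    rw [h 2 0 (by decide), h 2 1 (by decide), h 2 4 (by decide), h 2 5 (by decide), h3, e2.1, e2.2]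
    cases s2 <;> simp
  · show X x 3 0 * y 0 + X x 3 1 * y 1 + X x 3 2 * y 2 + X x 3 3 * y 3 + X x 3 4 * y 4 + X x 3 5 * y 5 =
      (if s2 then y 2 else y 3)
    rw [h 3 0 (by decide), h 3 1 (by decide), h 3 4 (by decide), h 3 5 (by decide), h4, e2.1, e2.2]
    cases s2 <;> simp
  · show X x 4 0 * y 0 + X x 4 1 * y 1 + X x 4 2 * y 2 + X x 4 3 * y 3 + X x 4 4 * y 4 + X x 4 5 * y 5 =
      (if s3 then y 5 else y 4)
    rw [h 4 0 (by decide), h 4 1 (by decide), h 4 2 (by decide), h 4 3 (by decide), h5, e3.1, e3.2]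
    cases s3 <;> simp
  · show X x 5 0 * y 0 + X x 5 1 * y 1 + X x 5 2 * y 2 + X x 5 3 * y 3 + X x 5 4 * y 4 + X x 5 5 * y 5 =
      (if s3 then y 4 else y 5)
    rw [h 5 0 (by decide), h 5 1 (by decide), h 5 2 (by decide), h 5 3 (by decide), h6, e3.1, e3.2]
    cases s3 <;> simp

/-- commuting with an element permuting the coordinates -/
theorem X_comm {x s : SU 6 F 2} (hxs : x * s = s * x) {j j' : Fin 6}
    (hj : act s (Pi.single j (1 : F)) = Pi.single j' 1) {i i' : Fin 6}
    (hi : ∀ y : Fin 6 → F, act s y i' = y i) : X x i' j' = X x i j := by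
  show act x (Pi.single j' 1) i' = act x (Pi.single j 1) i
  rw [← hj, ← act_mul, hxs, act_mul, hi]

/-- the two elements of order three of the field -/
theorem exists_w (hF : Fintype.card F = 2 ^ 2) :
    ∃ w v : F, w ≠ 1 ∧ v ≠ 1 ∧ v ≠ w ∧ w ^ 3 = 1 ∧ v ^ 3 = 1 ∧ w * v = 1 ∧ w * w = v ∧ v * v = w := by
  have h2 := two_eq_zero hF
  obtain ⟨w, hw⟩ := exists_omega hF
  have h3 : w ^ 3 = 1 := by linear_combination (w - 1) * hw
  refine ⟨w, w ^ 2, ?_, ?_, ?_, h3, ?_, ?_, ?_, ?_⟩
  · rintro rfl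
    apply one_ne_zero (α := F)
    linear_combination hw - h2
  · intro h
    apply one_ne_zero (α := F)
    have h4 : w = 0 := by linear_combination hw - h - h2
    rw [h4] at h
    linear_combination -h
  · intro h
    apply one_ne_zero (α := F)
    linear_combination hw - h - w * h2
  · rw [← pow_mul, mul_comm 2 3, pow_mul, h3, one_pow]
  · linear_combination h3
  · ring
  · linear_combination w * h3

theorem dg_S1 {l : Fin 6 → F} {hd : ∏ i, l i = 1} {hl : ∀ i, l i ^ 3 = 1} (h : l 1 = l 0) :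
    dg l hd hl * S1 hF = S1 hF * dg l hd hl := by
  apply ext_act
  intro y
  funext i
  rw [act_mul, act_mul, act_dg, act_S1, act_S1, act_dg, act_dg, act_dg, act_dg, act_dg, act_dg]
  fin_cases i <;> simp [h]

theorem dg_S2 {l : Fin 6 → F} {hd : ∏ i, l i = 1} {hl : ∀ i, l i ^ 3 = 1} (h : l 3 = l 2) :
    dg l hd hl * S2 hF = S2 hF * dg l hd hl := by
  apply ext_act
  intro y
  funext i
  rw [act_mul, act_mul, act_dg, act_S2, act_S2, act_dg, act_dg, act_dg, act_dg, act_dg, act_dg]
  fin_cases i <;> simp [h]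

theorem dg_S3 {l : Fin 6 → F} {hd : ∏ i, l i = 1} {hl : ∀ i, l i ^ 3 = 1} (h : l 5 = l 4) :
    dg l hd hl * S3 hF = S3 hF * dg l hd hl := by
  apply ext_act
  intro y
  funext i
  rw [act_mul, act_mul, act_dg, act_S3, act_S3, act_dg, act_dg, act_dg, act_dg, act_dg, act_dg]
  fin_cases i <;> simp [h]

theorem cyc_S123 : (cyc : SU 6 F 2) * (S1 hF * S2 hF * S3 hF) = S1 hF * S2 hF * S3 hF * cyc := by
  apply ext_act
  intro y
  rw [act_mul cyc, act_mul (S1 hF * S2 hF * S3 hF) cyc, blk_S123 hF, blk_S123 hF, act_cyc, act_cyc]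
  funext i
  (revert i; simp [_root_.Fin.forall_fin_succ])

theorem act_cyc_single (j : Fin 6) :
    act (cyc : SU 6 F 2) (Pi.single j (1 : F)) = Pi.single (j + 2) 1 := by
  rw [act_cyc]
  funext i
  (revert j i; simp only [_root_.Fin.forall_fin_succ, _root_.Nat.succ_eq_add_one, Nat.reduceAdd, Fin.isValue, _root_.Matrix.cons_val_zero, _root_.Matrix.cons_val_succ, _root_.Fin.succ_zero_eq_one, _root_.Fin.succ_one_eq_two, Fin.reduceSucc, _root_.Matrix.cons_val_fin_one, _root_.IsEmpty.forall_iff, _root_.and_true, _root_.ne_eq, Fin.reduceEq, _root_.not_false_eq_true, _root_.Pi.single_eq_of_ne, _root_.zero_add, _root_.Pi.single_eq_same, _root_.one_ne_zero, _root_.and_self, _root_.Fin.succ_ne_zero, _root_.Pi.single_eq_of_ne', _root_.right_eq_add, _root_.true_and, Fin.reduceAdd, _root_.zero_ne_one])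

/-- entries of an element commuting with a block involution -/
theorem X_blk {x s : SU 6 F 2} {s1 s2 s3 : Bool} (hs : Blk s s1 s2 s3) (hxs : x * s = s * x) :
    (s1 = true → X x 0 1 = X x 1 0 ∧ X x 1 1 = X x 0 0) ∧
    (s2 = true → X x 2 3 = X x 3 2 ∧ X x 3 3 = X x 2 2) ∧
    (s3 = true → X x 4 5 = X x 5 4 ∧ X x 5 5 = X x 4 4) := by
  refine ⟨?_, ?_, ?_⟩
  · rintro rfl
    have hj : act s (Pi.single 0 (1 : F)) = Pi.single 1 1 := by
      rw [hs]
      funext i
      (revert i; simp only [_root_.Fin.forall_fin_succ, _root_.Nat.succ_eq_add_one, Nat.reduceAdd, ↓reduceIte, Fin.isValue, _root_.ne_eq, _root_.one_ne_zero, _root_.not_false_eq_true, _root_.Pi.single_eq_of_ne, _root_.Pi.single_eq_same, Fin.reduceEq, _root_.ite_self, _root_.Matrix.cons_val_zero, _root_.zero_ne_one, _root_.Matrix.cons_val_succ, _root_.Fin.succ_zero_eq_one, _root_.Fin.succ_one_eq_two, Fin.reduceSucc, _root_.Matrix.cons_val_fin_one, _root_.IsEmpty.forall_iff, _root_.and_self])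
    exact ⟨X_comm hxs hj (i := 1) (i' := 0) (fun y => by rw [hs]; simp),
      X_comm hxs hj (i := 0) (i' := 1) (fun y => by rw [hs]; simp)⟩
  · rintro rfl
    have hj : act s (Pi.single 2 (1 : F)) = Pi.single 3 1 := by
      rw [hs]
      funext i
      (revert i; simp only [_root_.Fin.forall_fin_succ, _root_.Nat.succ_eq_add_one, Nat.reduceAdd, Fin.isValue, _root_.ne_eq, Fin.reduceEq, _root_.not_false_eq_true, _root_.Pi.single_eq_of_ne, _root_.ite_self, ↓reduceIte, _root_.Pi.single_eq_same, _root_.Matrix.cons_val_zero, _root_.Matrix.cons_val_succ, _root_.Fin.succ_zero_eq_one, _root_.Fin.succ_one_eq_two, Fin.reduceSucc, _root_.Matrix.cons_val_fin_one, _root_.IsEmpty.forall_iff, _root_.and_self])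
    exact ⟨X_comm hxs hj (i := 3) (i' := 2) (fun y => by rw [hs]; simp),
      X_comm hxs hj (i := 2) (i' := 3) (fun y => by rw [hs]; simp)⟩
  · rintro rfl
    have hj : act s (Pi.single 4 (1 : F)) = Pi.single 5 1 := by
      rw [hs]
      funext i
      (revert i; simp only [_root_.Fin.forall_fin_succ, _root_.Nat.succ_eq_add_one, Nat.reduceAdd, Fin.isValue, _root_.ne_eq, Fin.reduceEq, _root_.not_false_eq_true, _root_.Pi.single_eq_of_ne, _root_.ite_self, ↓reduceIte, _root_.Pi.single_eq_same, _root_.Matrix.cons_val_zero, _root_.Matrix.cons_val_succ, _root_.Fin.succ_zero_eq_one, _root_.Fin.succ_one_eq_two, Fin.reduceSucc, _root_.Matrix.cons_val_fin_one, _root_.IsEmpty.forall_iff, _root_.and_self])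
    exact ⟨X_comm hxs hj (i := 5) (i' := 4) (fun y => by rw [hs]; simp),
      X_comm hxs hj (i := 4) (i' := 5) (fun y => by rw [hs]; simp)⟩

/-- a diagonal element from a list -/
theorem prod_six (l : Fin 6 → F) : ∏ i, l i = l 0 * l 1 * l 2 * l 3 * l 4 * l 5 := by
  simp only [Fin.prod_univ_succ, Fin.prod_univ_zero]
  simp
  ring

section K

variable {x : SU 6 F 2} (hx : x * x = 1)
include hx

/-- rank three -/
theorem rank_three (hc : x * (S1 hF * S2 hF * S3 hF) = S1 hF * S2 hF * S3 hF * x)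
    (H : ∀ d : SU 6 F 2, d ^ 3 = 1 → d * (S1 hF * S2 hF * S3 hF) = S1 hF * S2 hF * S3 hF * d →
      x * d = d * x) : x = 1 ∨ x = S1 hF * S2 hF * S3 hF := by
  obtain ⟨w, v, w1, v1, vw, w3, v3, wv, -, -⟩ := exists_w hF
  have hd : ∏ i, (![1, 1, w, w, v, v] : Fin 6 → F) i = 1 := by
    rw [prod_six]
    show 1 * 1 * w * w * v * v = (1 : F)
    linear_combination (w * v + 1) * wv
  have hl : ∀ i, (![1, 1, w, w, v, v] : Fin 6 → F) i ^ 3 = 1 := by
    intro i
    (revert i; simp only [w3, v3, _root_.Fin.forall_fin_succ, _root_.Nat.succ_eq_add_one, Nat.reduceAdd, Fin.isValue, _root_.Matrix.cons_val_zero, _root_.one_pow, _root_.Matrix.cons_val_succ, _root_.Matrix.cons_val_fin_one, _root_.implies_true, _root_.and_self])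
  have hdc : dg _ hd hl * (S1 hF * S2 hF * S3 hF) = S1 hF * S2 hF * S3 hF * dg _ hd hl := by
    have c1 : Commute (dg _ hd hl) (S1 hF) := dg_S1 hF rfl
    have c2 : Commute (dg _ hd hl) (S2 hF) := dg_S2 hF rfl
    have c3 : Commute (dg _ hd hl) (S3 hF) := dg_S3 hF rfl
    exact ((c1.mul_right c2).mul_right c3).eq
  have hxd := H _ (dg_pow_three _ hd hl) hdc
  have hxc := H _ cyc_pow_three (cyc_S123 hF)
  have hz : ∀ i j : Fin 6, (i : ℕ) / 2 ≠ (j : ℕ) / 2 → X x i j = 0 := by
    intro i j hij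
    apply X_eq_zero hxd
    fin_cases i <;> fin_cases j <;> simp at hij ⊢ <;>
      first | exact w1 | exact w1.symm | exact v1 | exact v1.symm | exact vw | exact vw.symm
  obtain ⟨h1, h2, h3⟩ := X_blk (blk_S123 hF) hc
  obtain ⟨h1, h1'⟩ := h1 rfl
  obtain ⟨h2, h2'⟩ := h2 rfl
  obtain ⟨h3, h3'⟩ := h3 rfl
  have c : ∀ (j i i' : Fin 6), (∀ y : Fin 6 → F, act (cyc : SU 6 F 2) y i' = y i) →
      X x i' (j + 2) = X x i j := fun j i i' h => X_comm hxc (act_cyc_single j) h
  have c1 : X x 2 2 = X x 0 0 := c 0 0 2 (fun y => by rw [act_cyc]; simp)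
  have c2 : X x 3 2 = X x 1 0 := c 0 1 3 (fun y => by rw [act_cyc]; simp)
  have c3 : X x 4 4 = X x 2 2 := c 2 2 4 (fun y => by rw [act_cyc]; simp)
  have c4 : X x 5 4 = X x 3 2 := c 2 3 5 (fun y => by rw [act_cyc]; simp)
  rcases X_pair hF hx (j := 0) (k := 1) (by decide) (fun i hi hi' => hz i 0 (by
    revert hi hi'; revert i; decide)) h1 with ⟨e1, e2⟩ | ⟨e1, e2⟩
  · left
    apply Blk.eq (s1 := false) (s2 := false) (s3 := false) _ blk_one
    exact blk_of hz h1 h1' h2 h2' h3 h3' ⟨by simpa using e1, by simpa using e2⟩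
      ⟨by simpa [c1] using e1, by simpa [c2] using e2⟩
      ⟨by simpa [c3, c1] using e1, by simpa [c4, c2] using e2⟩
  · right
    apply Blk.eq (s1 := true) (s2 := true) (s3 := true) _ (blk_S123 hF)
    exact blk_of hz h1 h1' h2 h2' h3 h3' ⟨by simpa using e1, by simpa using e2⟩
      ⟨by simpa [c1] using e1, by simpa [c2] using e2⟩
      ⟨by simpa [c3, c1] using e1, by simpa [c4, c2] using e2⟩

/-- rank two -/
theorem rank_two (hc : x * (S1 hF * S2 hF) = S1 hF * S2 hF * x)
    (H : ∀ d : SU 6 F 2, d ^ 3 = 1 → d * (S1 hF * S2 hF) = S1 hF * S2 hF * d → x * d = d * x) :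
    x = 1 ∨ x = S1 hF ∨ x = S2 hF ∨ x = S1 hF * S2 hF := by
  obtain ⟨w, v, w1, v1, vw, w3, v3, wv, -, -⟩ := exists_w hF
  have hd : ∏ i, (![1, 1, w, w, v, v] : Fin 6 → F) i = 1 := by
    rw [prod_six]
    show 1 * 1 * w * w * v * v = (1 : F)
    linear_combination (w * v + 1) * wv
  have hl : ∀ i, (![1, 1, w, w, v, v] : Fin 6 → F) i ^ 3 = 1 := by
    intro i
    (revert i; simp only [w3, v3, _root_.Fin.forall_fin_succ, _root_.Nat.succ_eq_add_one, Nat.reduceAdd, Fin.isValue, _root_.Matrix.cons_val_zero, _root_.one_pow, _root_.Matrix.cons_val_succ, _root_.Matrix.cons_val_fin_one, _root_.implies_true, _root_.and_self])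
  have hd' : ∏ i, (![1, 1, 1, 1, w, v] : Fin 6 → F) i = 1 := by
    rw [prod_six]
    show 1 * 1 * 1 * 1 * w * v = (1 : F)
    linear_combination wv
  have hl' : ∀ i, (![1, 1, 1, 1, w, v] : Fin 6 → F) i ^ 3 = 1 := by
    intro i
    (revert i; simp only [w3, v3, _root_.Fin.forall_fin_succ, _root_.Nat.succ_eq_add_one, Nat.reduceAdd, Fin.isValue, _root_.Matrix.cons_val_zero, _root_.one_pow, _root_.Matrix.cons_val_succ, _root_.Matrix.cons_val_fin_one, _root_.implies_true, _root_.and_self])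
  have hxd := H (dg _ hd hl) (dg_pow_three _ hd hl) (by
    have c1 : Commute (dg _ hd hl) (S1 hF) := dg_S1 hF rfl
    have c2 : Commute (dg _ hd hl) (S2 hF) := dg_S2 hF rfl
    exact (c1.mul_right c2).eq)
  have hxd' := H (dg _ hd' hl') (dg_pow_three _ hd' hl') (by
    have c1 : Commute (dg _ hd' hl') (S1 hF) := dg_S1 hF rfl
    have c2 : Commute (dg _ hd' hl') (S2 hF) := dg_S2 hF rfl
    exact (c1.mul_right c2).eq)
  have hz : ∀ i j : Fin 6, (i : ℕ) / 2 ≠ (j : ℕ) / 2 → X x i j = 0 := by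
    intro i j hij
    apply X_eq_zero hxd
    fin_cases i <;> fin_cases j <;> simp at hij ⊢ <;>
      first | exact w1 | exact w1.symm | exact v1 | exact v1.symm | exact vw | exact vw.symm
  have z54 : X x 5 4 = 0 := X_eq_zero hxd' vw
  have z45 : X x 4 5 = 0 := X_eq_zero hxd' vw.symm
  have e44 : X x 4 4 = 1 := by
    apply X_diag hF hx
    intro i hi
    by_cases h5 : i = 5
    · rw [h5]; exact z54
    · exact hz i 4 (by revert hi h5; revert i; decide)
  have e55 : X x 5 5 = 1 := by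
    apply X_diag hF hx
    intro i hi
    by_cases h5 : i = 4
    · rw [h5]; exact z45
    · exact hz i 5 (by revert hi h5; revert i; decide)
  obtain ⟨h1, h2, -⟩ := X_blk (blk_S12 hF) hc
  obtain ⟨h1, h1'⟩ := h1 rfl
  obtain ⟨h2, h2'⟩ := h2 rfl
  have h3 : X x 4 5 = X x 5 4 := by rw [z45, z54]
  have h3' : X x 5 5 = X x 4 4 := by rw [e55, e44]
  rcases X_pair hF hx (j := 0) (k := 1) (by decide) (fun i hi hi' => hz i 0 (by
    revert hi hi'; revert i; decide)) h1 with ⟨e1, e2⟩ | ⟨e1, e2⟩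
  · rcases X_pair hF hx (j := 2) (k := 3) (by decide) (fun i hi hi' => hz i 2 (by
      revert hi hi'; revert i; decide)) h2 with ⟨f1, f2⟩ | ⟨f1, f2⟩
    · left
      apply Blk.eq (s1 := false) (s2 := false) (s3 := false) _ blk_one
      exact blk_of hz h1 h1' h2 h2' h3 h3' ⟨by simpa using e1, by simpa using e2⟩
        ⟨by simpa using f1, by simpa using f2⟩ ⟨by simpa using e44, by simpa using z54⟩
    · right; right; left
      apply Blk.eq (s1 := false) (s2 := true) (s3 := false) _ (blk_S2 hF)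
      exact blk_of hz h1 h1' h2 h2' h3 h3' ⟨by simpa using e1, by simpa using e2⟩
        ⟨by simpa using f1, by simpa using f2⟩ ⟨by simpa using e44, by simpa using z54⟩
  · rcases X_pair hF hx (j := 2) (k := 3) (by decide) (fun i hi hi' => hz i 2 (by
      revert hi hi'; revert i; decide)) h2 with ⟨f1, f2⟩ | ⟨f1, f2⟩
    · right; left
      apply Blk.eq (s1 := true) (s2 := false) (s3 := false) _ (blk_S1 hF)
      exact blk_of hz h1 h1' h2 h2' h3 h3' ⟨by simpa using e1, by simpa using e2⟩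
        ⟨by simpa using f1, by simpa using f2⟩ ⟨by simpa using e44, by simpa using z54⟩
    · right; right; right
      apply Blk.eq (s1 := true) (s2 := true) (s3 := false) _ (blk_S12 hF)
      exact blk_of hz h1 h1' h2 h2' h3 h3' ⟨by simpa using e1, by simpa using e2⟩
        ⟨by simpa using f1, by simpa using f2⟩ ⟨by simpa using e44, by simpa using z54⟩

/-- rank one -/
theorem rank_one (hc : x * S1 hF = S1 hF * x)
    (H : ∀ d : SU 6 F 2, d ^ 3 = 1 → d * S1 hF = S1 hF * d → x * d = d * x) :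
    x = 1 ∨ x = S1 hF := by
  obtain ⟨w, v, w1, v1, vw, w3, v3, wv, -, -⟩ := exists_w hF
  have hd : ∏ i, (![1, 1, w, v, 1, 1] : Fin 6 → F) i = 1 := by
    rw [prod_six]
    show 1 * 1 * w * v * 1 * 1 = (1 : F)
    linear_combination wv
  have hl : ∀ i, (![1, 1, w, v, 1, 1] : Fin 6 → F) i ^ 3 = 1 := by
    intro i
    (revert i; simp only [w3, v3, _root_.Fin.forall_fin_succ, _root_.Nat.succ_eq_add_one, Nat.reduceAdd, Fin.isValue, _root_.Matrix.cons_val_zero, _root_.one_pow, _root_.Matrix.cons_val_succ, _root_.Matrix.cons_val_fin_one, _root_.implies_true, _root_.and_self])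
  have hd' : ∏ i, (![1, 1, 1, 1, w, v] : Fin 6 → F) i = 1 := by
    rw [prod_six]
    show 1 * 1 * 1 * 1 * w * v = (1 : F)
    linear_combination wv
  have hl' : ∀ i, (![1, 1, 1, 1, w, v] : Fin 6 → F) i ^ 3 = 1 := by
    intro i
    (revert i; simp only [w3, v3, _root_.Fin.forall_fin_succ, _root_.Nat.succ_eq_add_one, Nat.reduceAdd, Fin.isValue, _root_.Matrix.cons_val_zero, _root_.one_pow, _root_.Matrix.cons_val_succ, _root_.Matrix.cons_val_fin_one, _root_.implies_true, _root_.and_self])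
  have hxd := H (dg _ hd hl) (dg_pow_three _ hd hl) (dg_S1 hF rfl)
  have hxd' := H (dg _ hd' hl') (dg_pow_three _ hd' hl') (dg_S1 hF rfl)
  have hz' : ∀ i j : Fin 6, i ≠ j → ¬ (i = 0 ∧ j = 1) → ¬ (i = 1 ∧ j = 0) → X x i j = 0 := by
    intro i j hij h01 h10
    by_cases h : (![1, 1, w, v, 1, 1] : Fin 6 → F) i = (![1, 1, w, v, 1, 1] : Fin 6 → F) j
    · apply X_eq_zero hxd'
      revert hij h01 h10 h
      (revert i j; simp only [w1, w1.symm, v1, v1.symm, vw, vw.symm, _root_.Fin.forall_fin_succ, _root_.ne_eq, Fin.isValue, _root_.not_and, _root_.zero_ne_one, _root_.not_false_eq_true, _root_.implies_true, _root_.not_true_eq_false, _root_.imp_false, _root_.Matrix.cons_val_zero, _root_.forall_const, _root_.Fin.succ_ne_zero, _root_.Matrix.cons_val_succ, _root_.Fin.succ_zero_eq_one, _root_.Fin.succ_one_eq_two, Fin.reduceEq, Fin.reduceSucc, _root_.Matrix.cons_val_fin_one, _root_.IsEmpty.forall_iff, _root_.and_true, _root_.imp_self, _root_.and_self, _root_.and_self_left,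 _root_.Decidable.not_not, _root_.true_and])
    · exact X_eq_zero hxd h
  have hz : ∀ i j : Fin 6, (i : ℕ) / 2 ≠ (j : ℕ) / 2 → X x i j = 0 := by
    intro i j hij
    apply hz'
    · rintro rfl; exact hij rfl
    · rintro ⟨rfl, rfl⟩; exact hij rfl
    · rintro ⟨rfl, rfl⟩; exact hij rfl
  have ed : ∀ j : Fin 6, j ≠ 0 → j ≠ 1 → X x j j = 1 := by
    intro j h0 h1
    apply X_diag hF hx
    intro i hi
    exact hz' i j hi (fun h => h1 h.2) (fun h => h0 h.2)
  obtain ⟨h1, -, -⟩ := X_blk (blk_S1 hF) hc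
  obtain ⟨h1, h1'⟩ := h1 rfl
  have z32 : X x 3 2 = 0 := hz' _ _ (by decide) (by decide) (by decide)
  have z23 : X x 2 3 = 0 := hz' _ _ (by decide) (by decide) (by decide)
  have z54 : X x 5 4 = 0 := hz' _ _ (by decide) (by decide) (by decide)
  have z45 : X x 4 5 = 0 := hz' _ _ (by decide) (by decide) (by decide)
  have h2 : X x 2 3 = X x 3 2 := by rw [z23, z32]
  have h2' : X x 3 3 = X x 2 2 := by rw [ed 3 (by decide) (by decide), ed 2 (by decide) (by decide)]
  have h3 : X x 4 5 = X x 5 4 := by rw [z45, z54]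
  have h3' : X x 5 5 = X x 4 4 := by rw [ed 5 (by decide) (by decide), ed 4 (by decide) (by decide)]
  have f2 := ed 2 (by decide) (by decide)
  have f4 := ed 4 (by decide) (by decide)
  rcases X_pair hF hx (j := 0) (k := 1) (by decide) (fun i hi hi' => hz i 0 (by
    revert hi hi'; revert i; decide)) h1 with ⟨e1, e2⟩ | ⟨e1, e2⟩
  · left
    apply Blk.eq (s1 := false) (s2 := false) (s3 := false) _ blk_one
    exact blk_of hz h1 h1' h2 h2' h3 h3' ⟨by simpa using e1, by simpa using e2⟩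
      ⟨by simpa using f2, by simpa using z32⟩ ⟨by simpa using f4, by simpa using z54⟩
  · right
    apply Blk.eq (s1 := true) (s2 := false) (s3 := false) _ (blk_S1 hF)
    exact blk_of hz h1 h1' h2 h2' h3 h3' ⟨by simpa using e1, by simpa using e2⟩
      ⟨by simpa using f2, by simpa using z32⟩ ⟨by simpa using f4, by simpa using z54⟩

end K

/-- an involution up to conjugacy -/
theorem exists_conj {a : PSU 6 F 2} (ha : a * a = 1) (ha1 : a ≠ 1) :
    ∃ g : PSU 6 F 2, g * a * g⁻¹ = pr 6 F 2 (S1 hF) ∨ g * a * g⁻¹ = pr 6 F 2 (S1 hF * S2 hF) ∨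
      g * a * g⁻¹ = pr 6 F 2 (S1 hF * S2 hF * S3 hF) := by
  obtain ⟨x, hx, rfl⟩ := exists_lift_sq hF ha
  have conjT : ∀ (g : SU 6 F 2) (u u' : Fin 6 → F) (hu : hermForm 6 F 2 u u = 0)
      (hu' : hermForm 6 F 2 u' u' = 0) (c : F), c ≠ 0 → act g u = c • u' →
      g * T hF u hu * g⁻¹ = T hF u' hu' := by
    intro g u u' hu hu' c hc h
    have hcu : hermForm 6 F 2 (c • u') (c • u') = 0 := herm_smul_self hF hu' c
    have hgu : hermForm 6 F 2 (act g u) (act g u) = 0 := by rw [h]; exact hcu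
    rw [conj_T hF g u hu hgu, ← T_smul hF c hc u' hu' hcu]
    congr 1
  have hS := fr3_std (F := F) hF
  rcases inv_form_SU hF hx with h | ⟨u, hu, hu0, h⟩ | ⟨u, v, hf, h⟩ | ⟨u, v, w, hf, h⟩
  · exfalso; apply ha1; rw [h, map_one]
  · obtain ⟨g, c, hc, hg⟩ := exists_map hF u _ hu0 hS.u_ne hu hS.uu
    refine ⟨pr 6 F 2 g, Or.inl ?_⟩
    rw [h, ← map_inv, ← map_mul, ← map_mul, conjT g u _ hu hS.uu c hc hg]
    rfl
  · obtain ⟨g1, a, ha, hg1⟩ := exists_map hF u _ hf.u_ne hS.u_ne hf.uu hS.uu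
    have k1 : hermForm 6 F 2 (act g1 v) (act g1 v) = 0 := by rw [herm_act, hf.vv]
    have k2 : hermForm 6 F 2 (act g1 v) ![1, 1, 0, 0, 0, 0] = 0 := by
      have h3 : hermForm 6 F 2 (act g1 v) (act g1 u) = 0 := by
        rw [herm_act]; exact herm_eq_zero_swap hF hf.uv
      rw [hg1, herm_smul_right] at h3
      exact (mul_eq_zero.1 h3).resolve_left (pow_ne_zero _ ha)
    have k3 : ¬ ∃ c : F, act g1 v = c • (![1, 1, 0, 0, 0, 0] : Fin 6 → F) := by
      rintro ⟨c, hc⟩
      apply hf.not_mul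
      refine ⟨c * a⁻¹, act_injective g1 ?_⟩
      rw [hc, act_smul, hg1, smul_smul, mul_assoc, inv_mul_cancel₀ ha, mul_one]
    obtain ⟨g2, hg2, b, hb, hg2v⟩ := trans_perp hF hS.u_ne k1 hS.vv k2
      (herm_eq_zero_swap hF hS.uv) k3 hS.fr2.not_mul hS.uu
    have hg2u : act g2 ![1, 1, 0, 0, 0, 0] = ![1, 1, 0, 0, 0, 0] := act_of_mem_Ru hF hg2
    refine ⟨pr 6 F 2 (g2 * g1), Or.inr (Or.inl ?_)⟩
    have e1 := conjT (g2 * g1) u _ hf.uu hS.uu a ha (by rw [act_mul, hg1, act_smul, hg2u])
    have e2 := conjT (g2 * g1) v _ hf.vv hS.vv b hb (by rw [act_mul, hg2v])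
    rw [h, ← map_inv, ← map_mul, ← map_mul]
    congr 1
    calc g2 * g1 * (T hF u hf.uu * T hF v hf.vv) * (g2 * g1)⁻¹ =
        (g2 * g1 * T hF u hf.uu * (g2 * g1)⁻¹) * (g2 * g1 * T hF v hf.vv * (g2 * g1)⁻¹) := by group
      _ = S1 hF * S2 hF := by rw [e1, e2]; rfl
  · obtain ⟨g, a, b, c, ha, hb, hc, hgu, hgv, hgw⟩ := trans_frames_SU hF hf hS
    refine ⟨pr 6 F 2 g, Or.inr (Or.inr ?_)⟩
    rw [h, ← map_inv, ← map_mul, ← map_mul]
    congr 1
    calc g * (T hF u hf.uu * T hF v hf.vv * T hF w hf.ww) * g⁻¹ =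
        (g * T hF u hf.uu * g⁻¹) * (g * T hF v hf.vv * g⁻¹) * (g * T hF w hf.ww * g⁻¹) := by group
      _ = S1 hF * S2 hF * S3 hF := by
        rw [conjT g u _ hf.uu hS.uu a ha hgu, conjT g v _ hf.vv hS.vv b hb hgv,
          conjT g w _ hf.ww hS.ww c hc hgw]
        rfl

/-- `S2` is conjugate to `S1` -/
theorem S2_conj : ∃ g : SU 6 F 2, g * S2 hF * g⁻¹ = S1 hF := by
  have hS := fr3_std (F := F) hF
  obtain ⟨g, c, hc, hg⟩ := exists_map hF _ _ hS.v_ne hS.u_ne hS.vv hS.uu
  refine ⟨g, ?_⟩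
  have hcu := herm_smul_self hF hS.uu c
  have hgu : hermForm 6 F 2 (act g ![0, 0, 1, 1, 0, 0]) (act g ![0, 0, 1, 1, 0, 0]) = 0 := by
    rw [hg]; exact hcu
  have h1 := conj_T hF g _ hS.vv hgu
  have h2 := T_smul hF c hc _ hS.uu hcu
  unfold S1 S2
  rw [h1, ← h2]
  congr 1

/-- the odd centraliser of the involution `pr A` forces the shape -/
theorem lift_data (hF : Fintype.card F = 2 ^ 2) {A : SU 6 F 2} {b : PSU 6 F 2} (hb : b * b = 1)
    (hab : pr 6 F 2 A * b = b * pr 6 F 2 A)
    (H : ∀ x : PSU 6 F 2, Odd (orderOf x) → x * pr 6 F 2 A = pr 6 F 2 A * x → x * b = b * x) :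
    ∃ x : SU 6 F 2, x * x = 1 ∧ pr 6 F 2 x = b ∧ x * A = A * x ∧
      ∀ d : SU 6 F 2, d ^ 3 = 1 → d * A = A * d → x * d = d * x := by
  obtain ⟨x, hx, rfl⟩ := exists_lift_sq hF hb
  refine ⟨x, hx, rfl, comm_of_pr hF hx hab.symm, fun d hd hdA => ?_⟩
  apply comm_of_pr hF hx
  symm
  apply H
  · have h1 : (pr 6 F 2 d) ^ 3 = 1 := by rw [← map_pow, hd, map_one]
    have h2 := orderOf_dvd_of_pow_eq_one h1
    exact Odd.of_dvd_nat (by decide) h2
  · rw [← map_mul, ← map_mul, hdA]

theorem core {a b : PSU 6 F 2} (ha : a * a = 1) (ha1 : a ≠ 1) (hb : b * b = 1) (hab : a * b = b * a)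
    (H : ∀ x : PSU 6 F 2, Odd (orderOf x) → x * a = a * x → x * b = b * x) :
    (b = 1 ∨ b = a) ∨ (∃ g, g * b * g⁻¹ = pr 6 F 2 (S1 hF)) ∧
      ¬ ∃ g, g * a * g⁻¹ = pr 6 F 2 (S1 hF) := by
  -- conjugation
  have hH : ∀ g : PSU 6 F 2, ∀ x : PSU 6 F 2, Odd (orderOf x) → x * (g * a * g⁻¹) = g * a * g⁻¹ * x →
      x * (g * b * g⁻¹) = g * b * g⁻¹ * x := by
    intro g x hx h
    have h1 : g⁻¹ * x * g * a = a * (g⁻¹ * x * g) := by
      calc g⁻¹ * x * g * a = g⁻¹ * (x * (g * a * g⁻¹)) * g := by group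
        _ = g⁻¹ * (g * a * g⁻¹ * x) * g := by rw [h]
        _ = a * (g⁻¹ * x * g) := by group
    have h2 : orderOf (g⁻¹ * x * g) = orderOf x := by
      have := orderOf_injective (MulAut.conj g⁻¹).toMonoidHom (MulAut.conj g⁻¹).injective x
      rw [← this]
      congr 1
      simp only [_root_.map_inv, _root_.MulEquiv.toMonoidHom_eq_coe, _root_.MonoidHom.coe_coe, _root_.MulAut.inv_apply, _root_.MulAut.conj_symm_apply]
    have h3 := H (g⁻¹ * x * g) (by rw [h2]; exact hx) h1
    calc x * (g * b * g⁻¹) = g * ((g⁻¹ * x * g) * b) * g⁻¹ := by group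
      _ = g * (b * (g⁻¹ * x * g)) * g⁻¹ := by rw [h3]
      _ = g * b * g⁻¹ * x := by group
  have hcomm : ∀ g : PSU 6 F 2, g * a * g⁻¹ * (g * b * g⁻¹) = g * b * g⁻¹ * (g * a * g⁻¹) := by
    intro g
    calc g * a * g⁻¹ * (g * b * g⁻¹) = g * (a * b) * g⁻¹ := by group
      _ = g * (b * a) * g⁻¹ := by rw [hab]
      _ = g * b * g⁻¹ * (g * a * g⁻¹) := by group
  have hsq : ∀ g : PSU 6 F 2, g * b * g⁻¹ * (g * b * g⁻¹) = 1 := by
    intro g
    calc g * b * g⁻¹ * (g * b * g⁻¹) = g * (b * b) * g⁻¹ := by group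
      _ = 1 := by rw [hb]; group
  have back1 : ∀ g : PSU 6 F 2, g * b * g⁻¹ = 1 → b = 1 := by
    intro g h
    calc b = g⁻¹ * (g * b * g⁻¹) * g := by group
      _ = 1 := by rw [h]; group
  have backa : ∀ g : PSU 6 F 2, g * b * g⁻¹ = g * a * g⁻¹ → b = a := by
    intro g h
    calc b = g⁻¹ * (g * b * g⁻¹) * g := by group
      _ = a := by rw [h]; group
  have r1 : (∃ g, g * a * g⁻¹ = pr 6 F 2 (S1 hF)) → b = 1 ∨ b = a := by
    rintro ⟨g, hg⟩
    obtain ⟨x, hx, hxb, hxA, hxd⟩ := lift_data hF (A := S1 hF) (hsq g) (by rw [← hg]; exact hcomm g)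
      (fun x hx h => hH g x hx (by rw [hg]; exact h))
    rcases rank_one hF hx hxA hxd with h | h
    · left; apply back1 g; rw [← hxb, h, map_one]
    · right; apply backa g; rw [← hxb, h, hg]
  by_cases hr : ∃ g, g * a * g⁻¹ = pr 6 F 2 (S1 hF)
  · exact Or.inl (r1 hr)
  obtain ⟨g, hg | hg | hg⟩ := exists_conj hF ha ha1
  · exact absurd ⟨g, hg⟩ hr
  · obtain ⟨x, hx, hxb, hxA, hxd⟩ := lift_data hF (A := S1 hF * S2 hF) (hsq g)
      (by rw [← hg]; exact hcomm g) (fun x hx h => hH g x hx (by rw [hg]; exact h))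
    rcases rank_two hF hx hxA hxd with h | h | h | h
    · left; left; apply back1 g; rw [← hxb, h, map_one]
    · right; exact ⟨⟨g, by rw [← hxb, h]⟩, hr⟩
    · right
      obtain ⟨k, hk⟩ := S2_conj (F := F) hF
      refine ⟨⟨pr 6 F 2 k * g, ?_⟩, hr⟩
      calc pr 6 F 2 k * g * b * (pr 6 F 2 k * g)⁻¹ =
          pr 6 F 2 k * (g * b * g⁻¹) * (pr 6 F 2 k)⁻¹ := by group
        _ = pr 6 F 2 (k * S2 hF * k⁻¹) := by rw [← hxb, h, map_mul, map_mul, map_inv]
        _ = pr 6 F 2 (S1 hF) := by rw [hk]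
    · left; right; apply backa g; rw [← hxb, h, hg]
  · obtain ⟨x, hx, hxb, hxA, hxd⟩ := lift_data hF (A := S1 hF * S2 hF * S3 hF) (hsq g)
      (by rw [← hg]; exact hcomm g) (fun x hx h => hH g x hx (by rw [hg]; exact h))
    rcases rank_three hF hx hxA hxd with h | h
    · left; left; apply back1 g; rw [← hxb, h, map_one]
    · left; right; apply backa g; rw [← hxb, h, hg]

/-- **`PSU 6 F 2` has no tied pair** -/
theorem not_tied (hF : Fintype.card F = 2 ^ 2) : ¬ Tied (PSU 6 F 2) := by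
  rintro ⟨a, b, ha, hb, ha1, hb1, hne, hab, H⟩
  rcases core hF ha ha1 hb hab (fun x hx h => (H x hx (Or.inl h)).2) with h | ⟨h, h'⟩
  · rcases h with h | h
    · exact hb1 h
    · exact hne h.symm
  rcases core hF hb hb1 ha hab.symm (fun x hx h => (H x hx (Or.inr (Or.inl h))).1) with h2 | ⟨h2, -⟩
  · rcases h2 with h2 | h2
    · exact ha1 h2
    · exact hne h2
  · exact h' h2

end Std

end Cfsg.Agent.OddHalf.D9.GamUSix
end

private theorem dce_46bb0023265b : _root_.True := by
  try have : _root_.True := by simp only [_root_.Cfsg.Agent.OddHalf.D9.GamUSix.X.eq_1]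
  try have : _root_.True := by simp only [_root_.Cfsg.Agent.OddHalf.D9.GamUSix.S2.eq_1]
  try have : _root_.True := by simp only [_root_.Cfsg.Agent.OddHalf.D9.GamUSix.S3.eq_1]
  try have : _root_.True := by simp only [_root_.Cfsg.Agent.OddHalf.D9.GamUSix.cyc.eq_1]
  try have : _root_.True := by simp only [_root_.Cfsg.Agent.OddHalf.D9.GamUSix.dg.eq_1]
  try have : _root_.True := by simp only [_root_.Cfsg.Agent.OddHalf.D9.GamUSix.S1.eq_1]
  exact _root_.True.intro
end

-- part: OddHalf/CaseM/SheetX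
section
set_option linter.all false
open scoped Cfsg.Agent.FastGrp

/-!
# Case (M) of D8: the K-facts, for sheets without the `y`-trick

The statements of `CaseM/Sheet.lean` for `JTwo.Sheet.SheetX` instead of `SheetE`.
-/

set_option autoImplicit false

namespace Cfsg.Agent.OddHalf.CaseM.X

open Subgroup Cfsg
open Cfsg.Agent.OddHalf.D8.Sheet Cfsg.Agent.OddHalf.D8.JTwo.Sheet
open Cfsg.Agent.Cit (cj mem_cj conj_mem_cj conj_mem_cj_iff)

open scoped commutatorElement

section KLevel

variable {K : Type*} [Group K] {z : K} {P R : Subgroup K}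

/-- `α(R) ≤ R` for automorphisms fixing `z` -/
theorem map_R (h : SheetX z P R) (α : MulAut K) (hα : α z = z) {x : K} (hx : x ∈ R) : α x ∈ R := by
  have hP : ∀ x ∈ P, α x ∈ P := fun x hx => map_P h.perf h.cen h.der α hα hx
  have hα' : α⁻¹ z = z := by
    calc α⁻¹ z = α⁻¹ (α z) := by rw [hα]
      _ = z := MulAut.inv_apply_self _ _ _
  have hP' : ∀ x ∈ P, α⁻¹ x ∈ P := fun x hx => map_P h.perf h.cen h.der α⁻¹ hα' hx
  have h1 : R.map α.toMonoidHom ≤ R := by
    apply h.Rmax
    · rintro _ ⟨r, hr, rfl⟩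
      exact hP r (h.RP hr)
    · exact h.R2.map _
    · rintro x hx _ ⟨r, hr, rfl⟩
      refine ⟨α⁻¹ x * r * (α⁻¹ x)⁻¹, h.Rn _ (hP' x hx) r hr, ?_⟩
      change α (α⁻¹ x * r * (α⁻¹ x)⁻¹) = x * α r * x⁻¹
      rw [map_mul, map_mul, map_inv, MulAut.apply_inv_self]
  exact h1 ⟨x, hx, rfl⟩

/-- `⁅R, R⁆ ≤ ⟨z⟩` -/
theorem comm_R [Finite K] (h : SheetX z P R) : ∀ x ∈ ⁅R, R⁆, x = 1 ∨ x = z := by
  have : Fact (Nat.Prime 2) := ⟨Nat.prime_two⟩
  have hle : ⁅R, R⁆ ≤ R := commutator_le_self R
  have hn : ∀ x ∈ P, ∀ b ∈ ⁅R, R⁆, x * b * x⁻¹ ∈ ⁅R, R⁆ := by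
    intro x hx b hb
    have h1 : R.map (MulAut.conj x).toMonoidHom = R := by
      apply le_antisymm
      · rintro _ ⟨r, hr, rfl⟩
        exact h.Rn x hx r hr
      · intro r hr
        refine ⟨x⁻¹ * r * x⁻¹⁻¹, h.Rn _ (P.inv_mem hx) r hr, ?_⟩
        change x * (x⁻¹ * r * x⁻¹⁻¹) * x⁻¹ = r
        group
    have h2 : (⁅R, R⁆ : Subgroup K).map (MulAut.conj x).toMonoidHom = ⁅R, R⁆ := by
      rw [map_commutator, h1]
    rw [← h2]
    exact ⟨b, hb, rfl⟩
  rcases h.Rmin _ hle hn with h1 | h1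
  · exact h1
  · exfalso
    -- a perfect 2-group
    have hnil : Group.IsNilpotent R := h.R2.isNilpotent
    have hsol : Group.IsSolvable R := inferInstance
    have h3 : commutator R = ⊤ := by
      rw [_root_.commutator_def]
      apply map_injective R.subtype_injective
      rw [map_commutator, ← MonoidHom.range_eq_map, range_subtype, h1]
    have h4 : ∀ n : ℕ, derivedSeries R n = ⊤ := by
      intro n
      induction n with
      | zero => rfl
      | succ n ih => rw [derivedSeries_succ, ih, ← _root_.commutator_def, h3]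
    obtain ⟨n, hn⟩ := hsol.solvable
    rw [h4 n] at hn
    have h5 : (⟨z, h.zR⟩ : R) ∈ (⊥ : Subgroup R) := by rw [← hn]; exact mem_top _
    exact h.z1 (congrArg Subtype.val (mem_bot.1 h5))

theorem z_mem_comm [Finite K] (h : SheetX z P R) : z ∈ ⁅R, R⁆ := by
  obtain ⟨a, ha, b, hb, hab⟩ := h.Rna
  have h1 : ⁅a, b⁆ ∈ ⁅R, R⁆ := commutator_mem_commutator ha hb
  rcases comm_R h _ h1 with h2 | h2
  · exact absurd (commutatorElement_eq_one_iff_mul_comm.1 h2) hab
  · rwa [h2] at h1

/-- the core facts -/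
theorem core [Finite K] (h : SheetX z P R) (m : SheetM P R) :
    Core (⟨z, h.zP⟩ : P) (R.subgroupOf P) := by
  have hmapR : (R.subgroupOf P).map P.subtype = R := by
    rw [subgroupOf_map_subtype, inf_of_le_left h.RP]
  have hinj : Function.Injective (Subgroup.map P.subtype) := map_injective P.subtype_injective
  constructor
  · intro S hS hp hne
    have h1 := m.big (S.map P.subtype) (map_subtype_le _) (by
      have : (S.map P.subtype).subgroupOf P = S := comap_map_eq_self_of_injective P.subtype_injective S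
      rw [this]; exact hS) (by rw [← map_commutator, hp]) (by
      intro h0
      apply hne
      apply hinj
      rw [h0, Subgroup.map_bot])
    apply hinj
    rw [map_commutator, hmapR, h1]
  · obtain ⟨w, hw, hidx⟩ := m.idx
    have hcardR : Nat.card (R.subgroupOf P) ≤ 2 ^ (2 * w + 1) := by
      rw [Nat.card_congr (subgroupOfEquivOfLe h.RP).toEquiv]; exact hw
    obtain ⟨a, ha, b, hb, hab⟩ := h.Rna
    refine prim_of (w := w) (fun q => Subtype.ext (h.cen q q.2)) (Subtype.ext h.zz)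
      (fun h0 => h.z1 (congrArg Subtype.val h0)) h.zR ⟨fun r hr g => h.Rn g g.2 r hr⟩ ?_ ?_
      ⟨⟨a, h.RP ha⟩, ha, ⟨b, h.RP hb⟩, hb, fun h0 => hab (congrArg Subtype.val h0)⟩ hcardR ?_
    · intro x hx y hy
      have h1 : ⁅(x : K), (y : K)⁆ ∈ ⁅R, R⁆ := commutator_mem_commutator hx hy
      rcases comm_R h _ h1 with h2 | h2
      · exact Or.inl (Subtype.ext h2)
      · exact Or.inr (Subtype.ext h2)
    · intro B hB hBn
      rcases h.Rmin (B.map P.subtype) (by
          rintro _ ⟨x, hx, rfl⟩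
          exact hB hx) (by
          rintro x hx _ ⟨b, hb, rfl⟩
          exact ⟨⟨x, hx⟩ * b * ⟨x, hx⟩⁻¹, hBn.conj_mem b hb ⟨x, hx⟩, rfl⟩) with h1 | h1
      · left
        intro b hb
        rcases h1 b ⟨b, hb, rfl⟩ with h2 | h2
        · exact Or.inl (Subtype.ext h2)
        · exact Or.inr (Subtype.ext h2)
      · right
        apply hinj
        rw [h1, hmapR]
    · intro H hH
      have h1 := hidx (H.map P.subtype) (map_subtype_le _) (by
        have : (H.map P.subtype).relIndex P = H.index := by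
          rw [relIndex, show (H.map P.subtype).subgroupOf P = H from
            comap_map_eq_self_of_injective P.subtype_injective H]
        rw [this]; exact hH)
      apply hinj
      rw [h1, ← MonoidHom.range_eq_map, range_subtype]

end KLevel

end Cfsg.Agent.OddHalf.CaseM.X
end

-- part: KFacts/HN/SheetM
section
prune_inst 0x4303075444d22020000000592e1003c66fe000190002b800199e00f06068edf6109022f60fca01f00112aaa24203e8068170810dd620000002a008a00411d05a1842af2c69348a104270009c0f887180c00000000000000000000000000041004200000000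
set_option linter.all false
open scoped Cfsg.Agent.FastGrp

/-!
# The fact sheet `SheetM` of the presented Harada-Norton group
-/

set_option autoImplicit false

namespace Cfsg.Agent.KFacts.HN

open Cfsg.Agent.HN Cfsg.Agent.HN.XMat Cfsg.Agent.HN.XStruct Cfsg.Agent.HN.XWords Cfsg.Agent.HN.XQuot
open Cfsg.Agent.OddHalf Cfsg.Agent.OddHalf.CaseM
open Cfsg.Agent.Lib.AltCarmichael (cyc cyc_mem)
open Cfsg.Agent.SporadicA.PermTab (allB allB_iff)
open scoped commutatorElement

/-! ### subnormal subgroups of `A5 × A5` -/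

theorem mem_of_subnormal {T : Subgroup (A5 × A5)} (hT : T.IsSubnormal) :
    (∀ a : A5, ∃ b : A5, (a, b) ∈ T) → ∀ a : A5, (a, 1) ∈ T := by
  induction hT with
  | top => intro _ a; exact Subgroup.mem_top _
  | step H L hHL hL hn ih =>
    intro h
    have h1 := ih (fun a => (h a).imp fun b hb => hHL hb)
    have h2 : ⁅(⊤ : Subgroup A5), (⊤ : Subgroup A5)⁆ ≤ H.comap (MonoidHom.inl A5 A5) := by
      rw [Subgroup.commutator_le]
      intro a _ c _
      obtain ⟨b, hb⟩ := h a
      have h3 : ((c, 1) : A5 × A5) * (a, b)⁻¹ * (c, 1)⁻¹ ∈ H := by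
        have := hn.conj_mem ⟨(a, b)⁻¹, hHL (H.inv_mem hb)⟩ (Subgroup.mem_subgroupOf.2 (H.inv_mem hb)) ⟨(c, 1), h1 c⟩
        exact Subgroup.mem_subgroupOf.1 this
      have h4 := H.mul_mem hb h3
      have e : ((a, b) : A5 × A5) * ((c, 1) * (a, b)⁻¹ * (c, 1)⁻¹) = (⁅a, c⁆, 1) := by
        apply Prod.ext
        · show a * (c * a⁻¹ * c⁻¹) = a * c * a⁻¹ * c⁻¹
          group
        · show b * (1 * b⁻¹ * 1⁻¹) = 1
          group
      rw [e] at h4
      exact h4
    rw [A5_perfect] at h2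
    exact fun a => h2 (Subgroup.mem_top a)

theorem fst_cases {T : Subgroup (A5 × A5)} (hT : T.IsSubnormal) :
    (∀ x ∈ T, x.1 = 1) ∨ ∀ a : A5, (a, 1) ∈ T := by
  have h1 : (T.map (MonoidHom.fst A5 A5)).IsSubnormal := hT.map (f := MonoidHom.fst A5 A5) Prod.fst_surjective
  rcases h1.eq_bot_or_top_of_isSimpleGroup inferInstance with h | h
  · left
    intro x hx
    have : x.1 ∈ T.map (MonoidHom.fst A5 A5) := ⟨x, hx, rfl⟩
    rw [h] at this
    exact Subgroup.mem_bot.1 this
  · right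
    apply mem_of_subnormal hT
    intro a
    have : a ∈ T.map (MonoidHom.fst A5 A5) := by rw [h]; exact Subgroup.mem_top a
    obtain ⟨⟨a', b⟩, hb, rfl⟩ := this
    exact ⟨b, hb⟩

theorem snd_cases {T : Subgroup (A5 × A5)} (hT : T.IsSubnormal) :
    (∀ x ∈ T, x.2 = 1) ∨ ∀ a : A5, (1, a) ∈ T := by
  have h1 : (T.map (MulEquiv.prodComm : A5 × A5 ≃* A5 × A5).toMonoidHom).IsSubnormal :=
    hT.map (MulEquiv.prodComm : A5 × A5 ≃* A5 × A5).surjective
  rcases fst_cases h1 with h | h
  · left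
    intro x hx
    exact h (x.2, x.1) ⟨x, hx, rfl⟩
  · right
    intro a
    obtain ⟨⟨b, c⟩, hb, he⟩ := h a
    have he' : (c, b) = (a, (1 : A5)) := he
    rw [Prod.mk.injEq] at he'
    rw [← he'.1, ← he'.2]
    exact hb

/-! ### the action of 3-elements -/

theorem acts_of_ρ {x : Cfsg.Spor.HN} (hx : x ∈ PP) {w : List ℕ} (hw : ρ ⟨x, hx⟩ = e w) :
    Acts k (π W0 x) (mw w) := by
  rw [ρ_apply] at hw
  have h4 : (π W0 x)⁻¹ * evw γ w ∈ Rk := QuotientGroup.eq.1 hw
  have h0 := normal_Rk.conj_mem _ (Rk.inv_mem h4) (π W0 x)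
  obtain ⟨j, hj, h1⟩ := mem_Rk.1 h0
  have h5 : π W0 x = r k j * evw γ w := by rw [← h1]; group
  rw [h5]
  exact hyp.toBas.acts_rmul (hyp.toBas.acts_evw w) j

theorem chkA : allB (fun m => Nat.beq (Nat.xor (app (mw (aw 0)) m) (app (mw (aw 0)) (app (mw (aw 0)) m))) m) 256 = true := by
  decide +kernel

theorem chkB : allB (fun m => Nat.beq (Nat.xor (app (mw (bw 0)) m) (app (mw (bw 0)) (app (mw (bw 0)) m))) m) 256 = true := by
  decide +kernel

/-- if `S` contains an element acting fixed point freely, then `⁅R, S⁆ = R` -/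
theorem comm_eq_of_elt {S : Subgroup Cfsg.Spor.HN} (hS : S ≤ MM) {s : Cfsg.Spor.HN} (hs : s ∈ S) {w : List ℕ}
    (hA : Acts k (π W0 s) (mw w))
    (hc : ∀ m < 256, (app (mw w) m) ^^^ (app (mw w) (app (mw w) m)) = m) : ⁅RS, S⁆ = RS := by
  have hsP : s ∈ PP := MM_le_PP (hS hs)
  set X := ⁅RS, S⁆ with hX
  have hle : X ≤ RS := by
    rw [hX, Subgroup.commutator_le]
    intro x hx y hy
    have h1 := conj_RS (MM_le_PP (hS hy)) (RS.inv_mem hx)
    have e : ⁅x, y⁆ = x * (y * x⁻¹ * y⁻¹) := by rw [commutatorElement_def]; group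
    rw [e]
    exact RS.mul_mem hx h1
  have hmem : ∀ m < 256, ∃ b : Bool, r Q m * sgn0 b ∈ X := by
    intro m hm
    set m' := app (mw w) m with hm'
    have hm'lt : m' < 256 := app_lt _ _
    obtain ⟨c, hc'⟩ := r_conj hsP hA m'
    have h1 : ⁅(r Q m')⁻¹, s⁻¹⁆ ∈ X :=
      Subgroup.commutator_mem_commutator (RS.inv_mem (r_mem_RS hm'lt)) (S.inv_mem hs)
    have h2 : ⁅(r Q m')⁻¹, s⁻¹⁆ = (r Q m')⁻¹ * (r Q (app (mw w) m') * sgn0 c) := by
      rw [← hc', commutatorElement_def]; group
    have h3 : π W0 (r Q m * sgn0 false) = π W0 ⁅(r Q m')⁻¹, s⁻¹⁆ := by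
      rw [h2, π_mul (comm_inv (comm_r m')) (comm_mul (comm_r _) (comm_sgn c)), π_inv (comm_r m'), π_r, π_r_sgn,
        π_r_sgn]
      have e1 : (r k m')⁻¹ = r k m' := by
        rw [inv_eq_iff_mul_eq_one, ← hyp.toBas.r_xor, Nat.xor_self, Bas.r_zero]
      rw [e1, ← hyp.toBas.r_xor, hc m hm]
    obtain ⟨b, hb⟩ := eq_of_π (PP.mul_mem (r_mem_PP m) (sgn_mem_PP false)) (RS_le_PP (hle h1)) h3
    refine ⟨false ^^ b, ?_⟩
    rw [← sgn0_mul, ← mul_assoc, ← hb]
    exact h1
  have hor : ∀ x ∈ RS, x ∈ X ∨ x * W0 ∈ X := by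
    intro x hx
    obtain ⟨m, hm, c, rfl⟩ := mem_RS.1 hx
    obtain ⟨b, hb⟩ := hmem m hm
    have h4 : r Q m * sgn0 c = r Q m * sgn0 b * sgn0 (b ^^ c) := by
      rw [mul_assoc, sgn0_mul, ← Bool.xor_assoc, Bool.xor_self, Bool.false_xor]
    cases hbc : (b ^^ c)
    · left
      rw [h4, hbc]
      have : r Q m * sgn0 b * sgn0 false = r Q m * sgn0 b := mul_one _
      rw [this]; exact hb
    · right
      rw [h4, hbc, show sgn0 true = W0 from rfl, mul_assoc _ W0 W0, W0_W0, mul_one]
      exact hb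
  have hW : W0 ∈ X := by
    obtain ⟨a, ha, b, hb, hab⟩ := not_abelian
    have haz : a * W0 = W0 * a := mem_PP.1 (RS_le_PP ha)
    have hbz : b * W0 = W0 * b := mem_PP.1 (RS_le_PP hb)
    have hcom : a * b = b * a * W0 := (large.comm a ha b hb).resolve_left hab
    have key : ∀ a' b' : Cfsg.Spor.HN, a' ∈ X → b' ∈ X → a' * b' = b' * a' * W0 → W0 ∈ X := by
      intro a' b' ha' hb' h
      have : W0 = (b' * a')⁻¹ * (a' * b') := by rw [h]; group
      rw [this]
      exact X.mul_mem (X.inv_mem (X.mul_mem hb' ha')) (X.mul_mem ha' hb')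
    rcases hor a ha with h1 | h1 <;> rcases hor b hb with h2 | h2
    · exact key a b h1 h2 hcom
    · apply key a (b * W0) h1 h2
      rw [← mul_assoc, hcom, mul_assoc b W0 a, ← haz]
      group
    · apply key (a * W0) b h1 h2
      rw [mul_assoc, ← hbz, ← mul_assoc, hcom]
      group
    · apply key (a * W0) (b * W0) h1 h2
      calc a * W0 * (b * W0) = a * (W0 * b) * W0 := by group
        _ = (a * b) * (W0 * W0) := by rw [← hbz]; group
        _ = (b * a * W0) * (W0 * W0) := by rw [hcom]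
        _ = b * (a * W0) * W0 * W0 := by group
        _ = b * (W0 * a) * W0 * W0 := by rw [haz]
        _ = b * W0 * (a * W0) * W0 := by group
  apply le_antisymm hle
  intro x hx
  rcases hor x hx with h1 | h1
  · exact h1
  · have := X.mul_mem h1 hW
    rwa [mul_assoc, W0_W0, mul_one] at this

/-- the homomorphism `M → A5 × A5` -/
theorem exists_f : ∃ f : MM →* A5 × A5, Function.Surjective f ∧
    ∀ x : MM, φ2 (f x) = ρ ⟨x, MM_le_PP x.2⟩ := by
  have hinj : Function.Injective φ2 := by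
    rintro ⟨a, b⟩ ⟨a', b'⟩ h
    obtain ⟨h1, h2⟩ := φ2_inj h
    exact Prod.ext h1 h2
  let g : MM →* PP := Subgroup.inclusion MM_le_PP
  have hg : ∀ x : MM, ρ (g x) ∈ φ2.range := fun x => (mem_MM.1 x.2).2
  let eφ : A5 × A5 ≃* φ2.range := MonoidHom.ofInjective hinj
  let f1 : MM →* φ2.range := (ρ.comp g).codRestrict φ2.range hg
  refine ⟨eφ.symm.toMonoidHom.comp f1, ?_, ?_⟩
  · refine eφ.symm.surjective.comp ?_
    rintro ⟨y, hy⟩
    obtain ⟨u, hu⟩ := ρ_surj y
    exact ⟨⟨u, mem_MM.2 ⟨u.2, by rw [show (⟨(u : Cfsg.Spor.HN), u.2⟩ : PP) = u from rfl, hu]; exact hy⟩⟩,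
      Subtype.ext hu⟩
  · intro x
    have h1 : eφ (eφ.symm (f1 x)) = f1 x := eφ.apply_symm_apply _
    exact congrArg Subtype.val h1

theorem big {S : Subgroup Cfsg.Spor.HN} (hS : S ≤ MM) (hsub : (S.subgroupOf MM).IsSubnormal) (hp : ⁅S, S⁆ = S)
    (hne : S ≠ ⊥) : ⁅RS, S⁆ = RS := by
  obtain ⟨f, hf, hfρ⟩ := exists_f
  have hT : ((S.subgroupOf MM).map f).IsSubnormal := hsub.map hf
  have main : ∀ (φ : A5 →* Lq) (w : List ℕ), φ ⟨cyc 3 0, cyc_mem 3 0 (by norm_num)⟩ = e w →
      (∀ m < 256, (app (mw w) m) ^^^ (app (mw w) (app (mw w) m)) = m) →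
      (∃ y ∈ (S.subgroupOf MM).map f, φ2 y = φ ⟨cyc 3 0, cyc_mem 3 0 (by norm_num)⟩) → ⁅RS, S⁆ = RS := by
    rintro φ w hw hc ⟨_, ⟨s, hs, rfl⟩, hy⟩
    have hsS : (s : Cfsg.Spor.HN) ∈ S := hs
    rw [hfρ, hw] at hy
    exact comm_eq_of_elt hS hsS (acts_of_ρ _ hy) hc
  rcases fst_cases hT with h1 | h1
  · rcases snd_cases hT with h2 | h2
    · exfalso
      apply hne
      -- `S ≤ R`
      have hSR : S ≤ RS := by
        intro x hx
        have h3 : f ⟨x, hS hx⟩ ∈ (S.subgroupOf MM).map f := ⟨⟨x, hS hx⟩, hx, rfl⟩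
        have h4 : f ⟨x, hS hx⟩ = 1 := Prod.ext (h1 _ h3) (h2 _ h3)
        have h5 := hfρ ⟨x, hS hx⟩
        rw [h4, map_one] at h5
        exact ⟨⟨x, MM_le_PP (hS hx)⟩, h5.symm, rfl⟩
      have hSp : IsPGroup 2 S := RS_isPGroup.to_le hSR
      have := finite_HN
      have hsol : Group.IsSolvable S := by
        have : Group.IsNilpotent S := hSp.isNilpotent
        infer_instance
      by_contra hne'
      have hnt : Nontrivial S := (Subgroup.nontrivial_iff_ne_bot S).2 hne'
      have h6 := Group.IsSolvable.commutator_lt_top_of_nontrivial S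
      apply h6.ne
      apply Subgroup.map_injective S.subtype_injective
      rw [commutator_def, Subgroup.map_commutator, ← MonoidHom.range_eq_map, Subgroup.range_subtype, hp]
    · exact main φB (bw 0) (φB_cyc (by norm_num)) (fun m hm => Nat.eq_of_beq_eq_true ((allB_iff _ _).1 chkB m hm))
        ⟨_, h2 ⟨cyc 3 0, cyc_mem 3 0 (by norm_num)⟩, by rw [φ2_apply, map_one, one_mul]⟩
  · exact main φA (aw 0) (φA_cyc (by norm_num)) (fun m hm => Nat.eq_of_beq_eq_true ((allB_iff _ _).1 chkA m hm))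
      ⟨_, h1 ⟨cyc 3 0, cyc_mem 3 0 (by norm_num)⟩, by rw [φ2_apply, map_one, mul_one]⟩

/-- `M` is generated by its elements of 5-power order -/
theorem gen5 (N : Subgroup Cfsg.Spor.HN) (hN : N ≤ MM)
    (h : ∀ x ∈ MM, IsPGroup 5 (Subgroup.zpowers x) → x ∈ N) : N = MM := by
  have := finite_HN
  set N1 : Subgroup Cfsg.Spor.HN := Subgroup.closure {x | x ∈ MM ∧ IsPGroup 5 (Subgroup.zpowers x)} with hN1
  have h1 : N1 ≤ N := by
    rw [hN1, Subgroup.closure_le]
    exact fun x hx => h x hx.1 hx.2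
  have hconj : ∀ u ∈ PP, ∀ x ∈ N1, u * x * u⁻¹ ∈ N1 := by
    intro u hu x hx
    have h2 : N1.map (MulAut.conj u).toMonoidHom ≤ N1 := by
      rw [hN1, MonoidHom.map_closure, Subgroup.closure_le]
      rintro _ ⟨y, ⟨hy, hy5⟩, rfl⟩
      apply Subgroup.subset_closure
      refine ⟨conj_MM hu hy, ?_⟩
      have h3 : Subgroup.zpowers ((MulAut.conj u).toMonoidHom y) =
          (Subgroup.zpowers y).map (MulAut.conj u).toMonoidHom := (MonoidHom.map_zpowers _ _).symm
      rw [h3]
      exact hy5.map _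
    exact h2 ⟨x, hx, rfl⟩
  rcases normal_cases (X := N1) (h1.trans (hN.trans MM_le_PP)) hconj with h2 | h2
  · exfalso
    have hp5 : Fact (Nat.Prime 5) := ⟨by norm_num⟩
    obtain ⟨x, hx⟩ := exists_prime_orderOf_dvd_card' (G := MM) 5 (by rw [card_MM]; norm_num)
    have hx' : orderOf (x : Cfsg.Spor.HN) = 5 := by rw [Subgroup.orderOf_coe, hx]
    have hx1 : (x : Cfsg.Spor.HN) ∈ N1 := Subgroup.subset_closure ⟨x.2, by
      apply IsPGroup.of_card (n := 1)
      rw [Nat.card_zpowers, hx', pow_one]⟩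
    obtain ⟨j, hj⟩ := RS_isPGroup ⟨x, h2 hx1⟩
    have hj' : (x : Cfsg.Spor.HN) ^ 2 ^ j = 1 := congrArg Subtype.val hj
    have h5 : 5 ∣ 2 ^ j := by rw [← hx']; exact orderOf_dvd_of_pow_eq_one hj'
    have := (Nat.Prime.dvd_of_dvd_pow (by norm_num : Nat.Prime 5) h5)
    omega
  · exact le_antisymm hN (h2.trans h1)

theorem odd_aut (α : MulAut Cfsg.Spor.HN) (hodd : Odd (orderOf α)) (hα : ∀ x ∈ MM, α x = x) : α = 1 := by
  rcases cent_MM hα with h | h
  · exact h
  · have h2 : α ^ 2 = 1 := by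
      rw [h, pow_two, ← map_mul, W0_W0, map_one]
    have h3 : orderOf α ∣ 2 := orderOf_dvd_of_pow_eq_one h2
    rcases (Nat.dvd_prime Nat.prime_two).1 h3 with h4 | h4
    · exact orderOf_eq_one_iff.1 h4
    · rw [h4] at hodd
      exact absurd hodd (by decide)

/-- **the sheet of case (M)** -/
theorem sheetM : SheetM MM RS where
  big S h1 h2 h3 h4 := big h1 h2 h3 h4
  idx := ⟨4, by rw [card_RS]; norm_num, by
    have := finite_HN
    exact idx_of_prime (p := 5) (w := 4) (by norm_num) (by norm_num) gen5⟩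
  odd := odd_aut

end Cfsg.Agent.KFacts.HN
end

-- part: OddHalf/D4/Free/Defs
section
set_option linter.all false
open scoped Cfsg.Agent.FastGrp

/-!
# ODD, D4, (1B): free pairs, definitions

`Good K S`: `S` is a 2-subgroup of `N(K)` containing a Sylow 2-subgroup of `K`. `zc K S = Z(S ∩ K)`, `cz K S` its
centralizer ("no field part"). `BFacts K`: the facts on `K` used in the free pair argument.
-/

set_option autoImplicit false

namespace Cfsg.Agent.OddHalf.D4.Free

open Cfsg Subgroup Cfsg.Agent.OddHalf.D4 Cfsg.Agent.OddHalf.D4.Basic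
open Cfsg.Agent.OddHalf.D4.CommConj (Tight cj mem_cj cj_mul card_cj mem_cj_mul)

variable {G : Type*} [Group G]

/-- a 2-subgroup of `N(K)` containing a Sylow 2-subgroup of `K` -/
structure Good (K S : Subgroup G) : Prop where
  two : IsPGroup 2 ↥S
  le : S ≤ normalizer (K : Set G)
  syl : IsSyl (S ⊓ K) K

/-- `Z(S ∩ K)` -/
def zc (K S : Subgroup G) : Subgroup G := (S ⊓ K) ⊓ centralizer ((S ⊓ K : Subgroup G) : Set G)

theorem mem_zc {K S : Subgroup G} {z : G} : z ∈ zc K S ↔ (z ∈ S ∧ z ∈ K) ∧ ∀ u ∈ S ⊓ K, u * z = z * u := by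
  unfold zc
  rw [mem_inf, mem_inf, mem_centralizer_iff]
  rfl

/-- the centralizer of `Z(S ∩ K)` -/
def cz (K S : Subgroup G) : Subgroup G := centralizer ((zc K S : Subgroup G) : Set G)

theorem mem_cz {K S : Subgroup G} {x : G} : x ∈ cz K S ↔ ∀ z ∈ zc K S, z * x = x * z := by
  unfold cz
  rw [mem_centralizer_iff]
  rfl

/-- `x` acts on `K` as an inner automorphism -/
def Inner (K : Subgroup G) (x : G) : Prop := ∃ c ∈ centralizer (K : Set G), ∃ k ∈ K, x = c * k

/-- A line of `S ∩ K` relative to `D`; `star` for the involutions of `C_S(Z(S ∩ K))`. -/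
structure IsLineF (K S D l : Subgroup G) : Prop where
  sq : ∀ x ∈ l, x * x ∈ D
  pair : ∃ a ∈ l, ∃ b ∈ l, a ∉ D ∧ b ∉ D ∧ a⁻¹ * b ∉ D
  star : ∀ y ∈ S, y ∈ cz K S → y * y = 1 → ∀ x ∈ l, x ∉ D → x * y = y * x → ∀ x' ∈ l, x' * y = y * x'

/-- (k5), one of four cases -/
def Out5 (K : Subgroup G) : Prop :=
  (∀ S, Good K S → ∀ e ∈ S, e ∉ cz K S →
    ∃ a ∈ zc K S, ∃ b ∈ zc K S, a * e ≠ e * a ∧ b * e ≠ e * b ∧ a * b * e ≠ e * (a * b)) ∨
  (∀ S, Good K S → ∀ e ∈ S, e * e = 1 → e ∈ cz K S) ∨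
  ((∀ S, Good K S → Nat.card ↥(zc K S) ≤ 4) ∧
    ∀ S, Good K S → ∃ W ≤ S ⊓ K, (∀ s ∈ S, ∀ w ∈ W, s * w * s⁻¹ ∈ W) ∧ (∀ w ∈ W, w * w = 1) ∧
      ∀ e ∈ S, e ∉ cz K S → e * e = 1 →
        ∃ a ∈ W, ∃ b ∈ W, a * e ≠ e * a ∧ b * e ≠ e * b ∧ a * b * e ≠ e * (a * b)) ∨
  ((∀ S, Good K S → Nat.card ↥(zc K S) ≤ 4) ∧
    ∀ S, Good K S → ∀ e ∈ S, e ∉ cz K S → e * e = 1 → ∀ k ∈ S ⊓ K, k ∉ zc K S → k * k = 1 → k * e = e * k →
      ∃ a ∈ S ⊓ K, ∃ b ∈ S ⊓ K, a * k = k * a ∧ b * k = k * b ∧
        a * e ≠ e * a ∧ b * e ≠ e * b ∧ a⁻¹ * b * e ≠ e * (a⁻¹ * b))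

/-- The facts on `K`, for all 2-subgroups `S` of `N(K)` containing a Sylow 2-subgroup of `K`. -/
structure BFacts (K : Subgroup G) : Prop where
  /-- (k0) -/
  sq : ∀ S, Good K S → ∀ z ∈ zc K S, z * z = 1
  /-- (k1) the field part of `S` is cyclic: an involution of `S / C_S(Z(S ∩ K))` is unique -/
  cyc : ∀ S, Good K S → ∀ a ∈ S, ∀ b ∈ S, a * a ∈ cz K S → b * b ∈ cz K S →
    a ∈ cz K S ∨ b ∈ cz K S ∨ a⁻¹ * b ∈ cz K S
  /-- (k2) the field part of `e` is well defined -/
  field : ∀ S S₁, Good K S → Good K S₁ → ∀ e ∈ S₁, e ∈ cz K S → e ∈ cz K S₁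
  /-- (k3) lines -/
  line : ∀ S, Good K S → ∀ P ≤ S, P ≤ cz K S → ¬ S ⊓ K ≤ P →
    ∃ D ≤ P, ∃ l ≤ S ⊓ K, l ≤ normalizer (P : Set G) ∧ ¬ l ≤ P ∧ IsLineF K S D l
  /-- (k4) the graph part has order at most two -/
  graph : ∀ S, Good K S → ∀ a ∈ S, ∀ b ∈ S, a ∈ cz K S → b ∈ cz K S →
    Inner K a ∨ Inner K b ∨ Inner K (a⁻¹ * b)
  /-- (k5) -/
  out : Out5 K

/-! ### Elementary properties -/

theorem zc_le_S {K S : Subgroup G} : zc K S ≤ S := fun _ h => (mem_zc.mp h).1.1

theorem zc_le_K {K S : Subgroup G} : zc K S ≤ K := fun _ h => (mem_zc.mp h).1.2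

theorem zc_comm {K S : Subgroup G} {x y : G} (hx : x ∈ zc K S) (hy : y ∈ zc K S) : x * y = y * x :=
  (mem_zc.mp hy).2 x (mem_zc.mp hx).1

theorem zc_le_cz {K S : Subgroup G} : zc K S ≤ cz K S := fun _ hx => mem_cz.mpr fun _ hz => zc_comm hz hx

theorem inf_le_cz {K S : Subgroup G} : S ⊓ K ≤ cz K S :=
  fun _ hx => mem_cz.mpr fun _ hz => ((mem_zc.mp hz).2 _ hx).symm

theorem centralizer_le_cz {K S : Subgroup G} : centralizer (K : Set G) ≤ cz K S :=
  fun _ hc => mem_cz.mpr fun _ hz => mem_centralizer_iff.mp hc _ (zc_le_K hz)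

theorem Inner.mul {K : Subgroup G} {x y : G} (hx : Inner K x) (hy : Inner K y) : Inner K (x * y) := by
  obtain ⟨c, hc, k, hk, rfl⟩ := hx
  obtain ⟨c', hc', k', hk', rfl⟩ := hy
  refine ⟨c * c', mul_mem hc hc', k * k', mul_mem hk hk', ?_⟩
  have h1 : k * c' = c' * k := mem_centralizer_iff.mp hc' k hk
  calc c * k * (c' * k') = c * (k * c') * k' := by group
    _ = c * (c' * k) * k' := by rw [h1]
    _ = c * c' * (k * k') := by group

theorem Inner.inv {K : Subgroup G} {x : G} (hx : Inner K x) : Inner K x⁻¹ := by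
  obtain ⟨c, hc, k, hk, rfl⟩ := hx
  refine ⟨c⁻¹, inv_mem hc, k⁻¹, inv_mem hk, ?_⟩
  have h1 : k⁻¹ * c⁻¹ = c⁻¹ * k⁻¹ := mem_centralizer_iff.mp (inv_mem hc) k⁻¹ (inv_mem hk)
  rw [mul_inv_rev, h1]

theorem Inner.one {K : Subgroup G} : Inner K 1 := ⟨1, one_mem _, 1, one_mem _, by simp⟩

theorem Inner.of_C {K : Subgroup G} {x : G} (hx : x ∈ centralizer (K : Set G)) : Inner K x :=
  ⟨x, hx, 1, one_mem _, by simp⟩

theorem Inner.conj {K : Subgroup G} (hn : ∀ m ∈ normalizer (K : Set G), ∀ c ∈ centralizer (K : Set G),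
    m * c * m⁻¹ ∈ centralizer (K : Set G)) {m x : G} (hm : m ∈ normalizer (K : Set G)) (hx : Inner K x) :
    Inner K (m * x * m⁻¹) := by
  obtain ⟨c, hc, k, hk, rfl⟩ := hx
  exact ⟨m * c * m⁻¹, hn m hm c hc, m * k * m⁻¹, (mem_normalizer_iff.mp hm k).mp hk, by group⟩

/-- `Z(S ∩ K)` is normalized by `S` -/
theorem zc_conj {K S : Subgroup G} (hS : S ≤ normalizer (K : Set G)) {s z : G} (hs : s ∈ S) (hz : z ∈ zc K S) :
    s * z * s⁻¹ ∈ zc K S := by
  rw [mem_zc] at hz ⊢
  refine ⟨⟨mul_mem (mul_mem hs hz.1.1) (inv_mem hs), (mem_normalizer_iff.mp (hS hs) z).mp hz.1.2⟩, ?_⟩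
  intro u hu
  have h1 : s⁻¹ * u * s ∈ S ⊓ K :=
    ⟨S.mul_mem (S.mul_mem (S.inv_mem hs) hu.1) hs, (mem_normalizer_iff''.mp (hS hs) u).mp hu.2⟩
  have h2 := hz.2 _ h1
  calc u * (s * z * s⁻¹) = s * (s⁻¹ * u * s * z) * s⁻¹ := by group
    _ = s * (z * (s⁻¹ * u * s)) * s⁻¹ := by rw [h2]
    _ = s * z * s⁻¹ * u := by group

/-- `C_S(Z(S ∩ K))` is normalized by `S` -/
theorem cz_conj {K S : Subgroup G} (hS : S ≤ normalizer (K : Set G)) {s x : G} (hs : s ∈ S) (hx : x ∈ cz K S) :
    s * x * s⁻¹ ∈ cz K S := by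
  rw [mem_cz] at hx ⊢
  intro z hz
  have h1 := zc_conj hS (inv_mem hs) hz
  rw [inv_inv] at h1
  have h2 := hx _ h1
  calc z * (s * x * s⁻¹) = s * (s⁻¹ * z * s * x) * s⁻¹ := by group
    _ = s * (x * (s⁻¹ * z * s)) * s⁻¹ := by rw [h2]
    _ = s * x * s⁻¹ * z := by group

theorem normalizer_norm {K : Subgroup G} : ∀ m ∈ normalizer (K : Set G), ∀ c ∈ centralizer (K : Set G),
    m * c * m⁻¹ ∈ centralizer (K : Set G) := by
  intro m hm c hc
  rw [mem_centralizer_iff] at hc ⊢
  intro k hk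
  have h1 : m⁻¹ * k * m ∈ K := (mem_normalizer_iff''.mp hm k).mp hk
  have h2 := hc _ h1
  calc k * (m * c * m⁻¹) = m * (m⁻¹ * k * m * c) * m⁻¹ := by group
    _ = m * (c * (m⁻¹ * k * m)) * m⁻¹ := by rw [h2]
    _ = m * c * m⁻¹ * k := by group

/-- a Sylow 2-subgroup of `N(K)` is good -/
theorem good_of_syl [Finite G] {K S : Subgroup G} (hS : IsSyl S (normalizer (K : Set G))) : Good K S :=
  ⟨hS.two, hS.le, hS.inf le_normalizer hS.le⟩

theorem exists_good [Finite G] {K P : Subgroup G} (hP : IsPGroup 2 ↥P) (hle : P ≤ normalizer (K : Set G)) :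
    ∃ S, Good K S ∧ P ≤ S := by
  obtain ⟨T, hT, hPT⟩ := exists_isSyl hP hle
  exact ⟨T, good_of_syl hT, hPT⟩

/-- a good subgroup contained in a 2-subgroup of `N(K)` -/
theorem Good.mono [Finite G] {K S T : Subgroup G} (h : Good K S) (hT : IsPGroup 2 ↥T) (hST : S ≤ T)
    (hTK : T ≤ normalizer (K : Set G)) : Good K T := by
  refine ⟨hT, hTK, ?_⟩
  have h1 : T ⊓ K = S ⊓ K := by
    apply le_antisymm
    · exact h.syl.max _ (hT.to_le inf_le_left) (inf_le_inf_right K hST) inf_le_right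
    · exact inf_le_inf_right K hST
  rw [h1]
  exact h.syl

/-- transport -/
theorem Good.cj [Finite G] {K S : Subgroup G} (h : Good K S) (g : G) : Good (CommConj.cj g K) (CommConj.cj g S) := by
  refine ⟨h.two.map _, ?_, ?_⟩
  · rw [normalizer_cj]
    exact map_mono h.le
  · have h1 : CommConj.cj g S ⊓ CommConj.cj g K = CommConj.cj g (S ⊓ K) := by
      ext x
      simp only [mem_inf, mem_cj]
    rw [h1]
    exact h.syl.cj g

theorem zc_cj {K S : Subgroup G} (g : G) : zc (cj g K) (cj g S) = cj g (zc K S) := by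
  ext x
  rw [mem_cj, mem_zc, mem_zc, mem_cj, mem_cj]
  constructor
  · rintro ⟨h1, h2⟩
    refine ⟨h1, fun u hu => ?_⟩
    have h3 := h2 (g * u * g⁻¹) ⟨mem_cj_mul hu.1, mem_cj_mul hu.2⟩
    calc u * (g⁻¹ * x * g) = g⁻¹ * (g * u * g⁻¹ * x) * g := by group
      _ = g⁻¹ * (x * (g * u * g⁻¹)) * g := by rw [h3]
      _ = g⁻¹ * x * g * u := by group
  · rintro ⟨h1, h2⟩
    refine ⟨h1, fun u hu => ?_⟩
    have h3 := h2 (g⁻¹ * u * g) ⟨mem_cj.mp hu.1, mem_cj.mp hu.2⟩
    calc u * x = g * (g⁻¹ * u * g * (g⁻¹ * x * g)) * g⁻¹ := by group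
      _ = g * (g⁻¹ * x * g * (g⁻¹ * u * g)) * g⁻¹ := by rw [h3]
      _ = x * u := by group

theorem cz_cj {K S : Subgroup G} (g : G) : cz (cj g K) (cj g S) = cj g (cz K S) := by
  unfold cz
  rw [zc_cj, centralizer_cj]

/-! ### Free pairs -/

/-- `P` acts on `K` without field part -/
def Fr (K P : Subgroup G) : Prop := ∃ S, Good K S ∧ P ≤ S ∧ P ≤ cz K S

/-- A free pair. -/
structure FreePair (K L P : Subgroup G) : Prop where
  frK : Fr K P
  frL : Fr L P
  sylK : IsSyl (P ⊓ centralizer (K : Set G)) (centralizer (K : Set G))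
  sylL : IsSyl (P ⊓ centralizer (L : Set G)) (centralizer (L : Set G))
  zK : ∃ S, Good K S ∧ zc K S ≤ P
  zL : ∃ S, Good L S ∧ zc L S ≤ P

theorem FreePair.symm {K L P : Subgroup G} (h : FreePair K L P) : FreePair L K P :=
  ⟨h.frL, h.frK, h.sylL, h.sylK, h.zL, h.zK⟩

theorem Fr.two {K P : Subgroup G} (h : Fr K P) : IsPGroup 2 ↥P := by
  obtain ⟨S, hS, hPS, -⟩ := h
  exact hS.two.to_le hPS

theorem Fr.le {K P : Subgroup G} (h : Fr K P) : P ≤ normalizer (K : Set G) := by
  obtain ⟨S, hS, hPS, -⟩ := h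
  exact hPS.trans hS.le

/-- by (k2) every good `S ≥ P` may be used -/
theorem Fr.le_cz {K P : Subgroup G} (hB : BFacts K) (h : Fr K P) {S : Subgroup G} (hS : Good K S) (hPS : P ≤ S) :
    P ≤ cz K S := by
  obtain ⟨S₀, hS₀, _, hPz⟩ := h
  intro e he
  exact hB.field S₀ S hS₀ hS e (hPS he) (hPz he)

theorem FreePair.up {K L P P₁ : Subgroup G} (h : FreePair K L P) (hle : P ≤ P₁) (hK : Fr K P₁) (hL : Fr L P₁) :
    FreePair K L P₁ := by
  have key : ∀ C : Subgroup G, IsSyl (P ⊓ C) C → IsSyl (P₁ ⊓ C) C := by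
    intro C hC
    have h1 : P₁ ⊓ C = P ⊓ C := by
      apply le_antisymm
      · exact hC.max _ (hK.two.to_le inf_le_left) (inf_le_inf_right C hle) inf_le_right
      · exact inf_le_inf_right C hle
    rw [h1]; exact hC
  obtain ⟨S, hS, hzS⟩ := h.zK
  obtain ⟨T, hT, hzT⟩ := h.zL
  exact ⟨hK, hL, key _ h.sylK, key _ h.sylL, ⟨S, hS, hzS.trans hle⟩, ⟨T, hT, hzT.trans hle⟩⟩

theorem Fr.cj [Finite G] {K P : Subgroup G} (h : Fr K P) (g : G) : Fr (CommConj.cj g K) (CommConj.cj g P) := by
  obtain ⟨S, hS, hPS, hPz⟩ := h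
  refine ⟨CommConj.cj g S, hS.cj g, map_mono hPS, ?_⟩
  rw [cz_cj]
  exact map_mono hPz

theorem FreePair.cj [Finite G] {K L P : Subgroup G} (h : FreePair K L P) (g : G) :
    FreePair (CommConj.cj g K) (CommConj.cj g L) (CommConj.cj g P) := by
  have key : ∀ C : Subgroup G, IsSyl (P ⊓ C) C → IsSyl (CommConj.cj g P ⊓ CommConj.cj g C) (CommConj.cj g C) := by
    intro C hC
    have h1 : CommConj.cj g P ⊓ CommConj.cj g C = CommConj.cj g (P ⊓ C) := by
      ext x
      simp only [mem_inf, mem_cj]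
    rw [h1]
    exact hC.cj g
  obtain ⟨S, hS, hzS⟩ := h.zK
  obtain ⟨T, hT, hzT⟩ := h.zL
  refine ⟨h.frK.cj g, h.frL.cj g, ?_, ?_, ⟨CommConj.cj g S, hS.cj g, ?_⟩, ⟨CommConj.cj g T, hT.cj g, ?_⟩⟩
  · rw [centralizer_cj]; exact key _ h.sylK
  · rw [centralizer_cj]; exact key _ h.sylL
  · rw [zc_cj]; exact map_mono hzS
  · rw [zc_cj]; exact map_mono hzT

end Cfsg.Agent.OddHalf.D4.Free
end

-- part: OddHalf/D4/Free/FiltLine
section
set_option linter.all false
open scoped Cfsg.Agent.FastGrp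

/-!
# ODD, D4, (1B): (k3) from a filtration

`FltS K S U L`: a filtration of `S ∩ K` generated by lines (`IsLineF`, star only for the involutions of
`C_S(Z(S ∩ K))`), on which `C_S(Z(S ∩ K))` acts trivially. It gives `BFacts.line`.

For graph automorphisms refine the height filtration: first `U (j+1)` together with the `X_r`, `r = τ r`, and the
diagonal lines `{x_r(t) x_τr(t)}`, then the lines `X_r`, `r ≠ τ r`.
-/

set_option autoImplicit false

namespace Cfsg.Agent.OddHalf.D4.Free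

open Cfsg Subgroup

variable {G : Type*} [Group G]

/-- A filtration of `S ∩ K` by lines; `C_S(Z(S ∩ K))` acts trivially on each line modulo the next term. -/
structure FltS (K S : Subgroup G) (U : ℕ → Subgroup G) (L : ℕ → Set (Subgroup G)) : Prop where
  zero : U 0 = S ⊓ K
  bot : ∃ n, U n = ⊥
  le : ∀ j, U (j + 1) ≤ U j
  gen : ∀ j, ∀ u ∈ U j, u ∈ closure ({x | ∃ l ∈ L j, x ∈ l} ∪ (U (j + 1) : Set G))
  line_le : ∀ j, ∀ l ∈ L j, l ≤ U j
  line : ∀ j, ∀ l ∈ L j, IsLineF K S (U (j + 1)) l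
  fix : ∀ j, ∀ l ∈ L j, ∀ x ∈ l, ∀ e ∈ S, e ∈ cz K S → e * x * e⁻¹ * x⁻¹ ∈ U (j + 1)

theorem FltS.le_zero {K S : Subgroup G} {U : ℕ → Subgroup G} {L : ℕ → Set (Subgroup G)} (h : FltS K S U L)
    (i : ℕ) : U i ≤ S ⊓ K := by
  induction i with
  | zero => exact h.zero.le
  | succ i ih => exact (h.le i).trans ih

/-- **(k3)** for one `S` -/
theorem FltS.k3 [Finite G] {K S P : Subgroup G} {U : ℕ → Subgroup G} {L : ℕ → Set (Subgroup G)}
    (h : FltS K S U L) (hPS : P ≤ S) (hPZ : P ≤ cz K S) (hKP : ¬ S ⊓ K ≤ P) :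
    ∃ D ≤ P, ∃ l ≤ S ⊓ K, l ≤ normalizer (P : Set G) ∧ ¬ l ≤ P ∧ IsLineF K S D l := by
  classical
  have hex : ∃ j, U j ≤ P := by
    obtain ⟨n, hn⟩ := h.bot
    exact ⟨n, by rw [hn]; exact bot_le⟩
  have h1 := Nat.find_spec hex
  have h2 : Nat.find hex ≠ 0 := by
    intro h0
    rw [h0, h.zero] at h1
    exact hKP h1
  obtain ⟨i, hi⟩ := Nat.exists_eq_succ_of_ne_zero h2
  rw [hi] at h1
  have h3 : ¬ U i ≤ P := Nat.find_min hex (by omega)
  obtain ⟨l, hlL, hlP⟩ : ∃ l ∈ L i, ¬ l ≤ P := by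
    by_contra hcon
    push Not at hcon
    apply h3
    intro u hu
    have h5 := h.gen i u hu
    have h6 : closure ({x | ∃ l ∈ L i, x ∈ l} ∪ (U (i + 1) : Set G)) ≤ P := by
      rw [closure_le]
      rintro x (⟨l, hl, hx⟩ | hx)
      · exact hcon l hl hx
      · exact h1 hx
    exact h6 h5
  refine ⟨U (i + 1), h1, l, (h.line_le i l hlL).trans (h.le_zero i), ?_, hlP, h.line i l hlL⟩
  intro x hx
  apply mem_normalizer_fintype
  intro e he
  have h5 := h1 (h.fix i l hlL x hx e (hPS he) (hPZ he))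
  have e1 : x * e * x⁻¹ = (e * x * e⁻¹ * x⁻¹)⁻¹ * e := by group
  rw [e1]
  exact mul_mem (inv_mem h5) he

/-- **`BFacts.line`** from filtrations -/
theorem line_of_fltS [Finite G] {K : Subgroup G} (h : ∀ S, Good K S → ∃ U L, FltS K S U L) :
    ∀ S, Good K S → ∀ P ≤ S, P ≤ cz K S → ¬ S ⊓ K ≤ P →
      ∃ D ≤ P, ∃ l ≤ S ⊓ K, l ≤ normalizer (P : Set G) ∧ ¬ l ≤ P ∧ IsLineF K S D l := by
  intro S hS P hPS hPZ hKP
  obtain ⟨U, L, hU⟩ := h S hS
  exact hU.k3 hPS hPZ hKP

end Cfsg.Agent.OddHalf.D4.Free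
end

-- part: OddHalf/D4/Sz/KFB
section
prune_inst 0x4003040601822000000000580e1001846de000190006000018800080400808b400000094024a01010102aa20000340048171810d4200000000000000000040401000892040040a000000000000084000000000000000000000000000000000004200000000
set_option linter.all false
open scoped Cfsg.Agent.FastGrp

-- merged: Cfsg.Agent.OddHalf.D4.Sz.KF
section

/-!
# ODD, D4, `K ≅ Sz(q)`: the facts on `K` in `G` (piece (T4) of helper216's text, bb ODD #11407)

`KD K F m p h S`: `p a b`, `a b : F`, are the elements of the Sylow 2-subgroup `S` of `K ≅ Sz(F)`,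
`|F| = 2 ^ (2 m + 1)`, `h k`, `k : Fˣ`, is the torus. `exists_kd`: the coordinates exist for every Sylow 2-subgroup
`S` of `K`.
-/

set_option autoImplicit false

namespace Cfsg.Agent.OddHalf.D4.Sz

open Subgroup Cfsg.Agent.OddHalf.D4 Cfsg.Agent.OddHalf.D4.Basic
open Cfsg.Agent.ThreePrime Cfsg.Agent.ThreePrime.SzRel Cfsg.Agent.LieRecognition
open Cfsg.Agent.OddHalf.D4.CommConj (Tight cj mem_cj cj_mul card_cj cj_eq_of_mem_normalizer mem_cj_mul)

/-- coordinates and facts of `K ≅ Sz(F)` in `G` -/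
structure KD {G : Type*} [Group G] (K : Subgroup G) (F : Type*) [Field F] (m : ℕ) (p : F → F → G) (h : Fˣ → G)
    (S : Subgroup G) : Prop where
  hm : 1 ≤ m
  card_F : Nat.card F = 2 ^ (2 * m + 1)
  two : (2 : F) = 0
  p_mul : ∀ a b c d, p a b * p c d = p (a + c) (b + d + a ^ 2 ^ (m + 1) * c)
  p_inj : ∀ a b c d, p a b = p c d → a = c ∧ b = d
  h_mul : ∀ k l, h (k * l) = h k * h l
  h_inj : Function.Injective h
  /-- `h k * p a b * (h k)⁻¹ = p (k a) (k ^ (1 + 2 ^ (m + 1)) b)` -/
  act : ∀ k, StdSz.Env.Acts m p (h k) k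
  mem_S : ∀ x, x ∈ S ↔ ∃ a b, x = p a b
  h_mem : ∀ k, h k ∈ K
  syl : IsSyl S K
  /-- TI and `N_K(S) = S H` -/
  ti : ∀ x ∈ K, ∀ s ∈ S, s ≠ 1 → x * s * x⁻¹ ∈ S → ∃ s ∈ S, ∃ k, x = s * h k
  /-- `C_K(s) ≤ S` for `1 ≠ s ∈ S` -/
  cent : ∀ x ∈ K, ∀ s ∈ S, s ≠ 1 → x * s = s * x → x ∈ S
  cen : ∀ x ∈ K, x ∈ centralizer (K : Set G) → x = 1
  /-- 2-elements of `N(K)` lie in `K × C(K)` -/
  inner : ∀ x ∈ normalizer (K : Set G), (∃ n : ℕ, x ^ 2 ^ n = 1) →
    ∃ k ∈ K, ∃ c ∈ centralizer (K : Set G), x = k * c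
  /-- `C_{N(K)}(Z) = C(K) × S` -/
  cz : ∀ x ∈ normalizer (K : Set G), (∀ b, x * p 0 b = p 0 b * x) →
    ∃ c ∈ centralizer (K : Set G), ∃ s ∈ S, x = c * s
  /-- `K` is generated by two Sylow 2-subgroups -/
  gen : ∀ S' : Subgroup G, IsSyl S' K → S' ≠ S → S ⊔ S' = K

namespace KD

/-! ### existence -/

section exist

variable {J : Type*} [Group J] {F : Type*} [Field F]

/-- `k ↦ k ^ 2 / θ k` -/
def lamHom (R : SzRel.Rel J F) : Fˣ →* Fˣ where
  toFun k := k ^ 2 * (Units.map (R.θ : F →* F) k)⁻¹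
  map_one' := by simp
  map_mul' k l := by
    rw [map_mul, _root_.mul_inv_rev, mul_pow, mul_comm (Units.map (R.θ : F →* F) l)⁻¹]
    exact mul_mul_mul_comm _ _ _ _

theorem lamHom_coe (R : SzRel.Rel J F) (k : Fˣ) : ((lamHom R k : Fˣ) : F) = (k : F) ^ 2 * (R.θ k)⁻¹ := by
  unfold lamHom
  simp

theorem lam_bij (R : SzRel.Rel J F) [Finite F] : Function.Bijective (lamHom R) := by
  have hs : Function.Surjective (lamHom R) := by
    intro x
    obtain ⟨k, hk⟩ := R.exists_sq_div x
    exact ⟨k, Units.ext (by rw [lamHom_coe, hk])⟩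
  exact ⟨Finite.injective_iff_surjective.mpr hs, hs⟩

/-- the torus with its natural parameter -/
noncomputable def tor (R : SzRel.Rel J F) [Finite F] (k : Fˣ) : J :=
  R.d ((MulEquiv.ofBijective (lamHom R) (lam_bij R)).symm k)

/-- the coordinates of `StdSz.Env` -/
def cor (R : SzRel.Rel J F) (a b : F) : J := R.u a (b + a * R.θ a)

theorem cor_mul (R : SzRel.Rel J F) {m : ℕ} (hθ : ∀ x, R.θ x = x ^ 2 ^ (m + 1)) (a b c d : F) :
    cor R a b * cor R c d = cor R (a + c) (b + d + a ^ 2 ^ (m + 1) * c) := by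
  unfold cor
  rw [R.u_mul]
  congr 1
  rw [← hθ, map_add]
  have := R.two
  linear_combination (- a * R.θ a - c * R.θ c - R.θ a * c + R.θ a * c + a * R.θ a + c * R.θ c - c * R.θ a) * this

theorem cor_act (R : SzRel.Rel J F) [Finite F] {m : ℕ} (hθ : ∀ x, R.θ x = x ^ 2 ^ (m + 1)) (k : Fˣ) (a b : F) :
    tor R k * cor R a b * (tor R k)⁻¹ = cor R (k * a) ((k : F) ^ (1 + 2 ^ (m + 1)) * b) := by
  obtain ⟨l, hl⟩ : ∃ l, l = (MulEquiv.ofBijective (lamHom R) (lam_bij R)).symm k := ⟨_, rfl⟩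
  have h1 : lamHom R l = k := by
    rw [hl]
    exact (MulEquiv.ofBijective (lamHom R) (lam_bij R)).apply_symm_apply k
  have h2 : (k : F) = (l : F) ^ 2 * (R.θ l)⁻¹ := by rw [← h1, lamHom_coe]
  have h3 : (k : F) ^ (1 + 2 ^ (m + 1)) = R.θ l := by
    rw [pow_add, pow_one, ← hθ, h2, map_mul, map_pow, map_inv₀, R.sq]
    have h4 := l.ne_zero
    have h5 := R.theta_ne_zero l
    field_simp
  unfold tor cor
  rw [← hl, R.conj_d]
  congr 1
  · rw [h2]; ring
  · rw [h3, map_mul]
    have h4 : (k : F) * R.θ k = R.θ l := by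
      rw [← h3, pow_add, pow_one, ← hθ]
    linear_combination (- a * R.θ a) * h4

/-- the relations adapted to a Sylow subgroup, over the given field -/
theorem exists_rel_fixed [Finite J] [Fintype F] {m : ℕ} (hm : 1 ≤ m) (hF : Fintype.card F = 2 ^ (2 * m + 1))
    (e : J ≃* ↥(Cfsg.Lie.Sz F (2 ^ (m + 1)))) (P : Sylow 2 J) :
    ∃ R : SzRel.Rel J F, (∀ x, R.θ x = x ^ 2 ^ (m + 1)) ∧ R.T = (P : Subgroup J) := by
  have : Fact (Nat.Prime 2) := ⟨Nat.prime_two⟩
  obtain ⟨R₀, hθ₀⟩ : ∃ R₀ : SzRel.Rel J F, ∀ x, R₀.θ x = x ^ 2 ^ (m + 1) :=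
    ⟨(SzRel.ofGood (SzMatrix.good hF)).map e.symm, fun x => ((SzMatrix.good hF).pow x).symm⟩
  obtain ⟨P₀, hP₀⟩ := R₀.exists_sylow_eq hm hF
  obtain ⟨g, hg⟩ := MulAction.exists_smul_eq J P₀ P
  let R : SzRel.Rel J F := R₀.map (MulAut.conj g)
  refine ⟨R, hθ₀, ?_⟩
  rw [← hg]
  ext x
  rw [Sylow.coe_subgroup_smul, Subgroup.mem_pointwise_smul_iff_inv_smul_mem, hP₀]
  constructor
  · rintro ⟨a, b, rfl⟩
    refine ⟨a, b, ?_⟩
    show (MulAut.conj g)⁻¹ (MulAut.conj g (R₀.u a b)) = _
    rw [MulAut.inv_apply_self]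
  · rintro ⟨a, b, hx⟩
    refine ⟨a, b, ?_⟩
    show x = MulAut.conj g (R₀.u a b)
    rw [← hx]
    show x = MulAut.conj g ((MulAut.conj g)⁻¹ x)
    rw [MulAut.apply_inv_self]

end exist

section main

variable {G : Type*} [Group G] [Finite G] {K S : Subgroup G}

omit [Finite G] in
/-- the two formats of Sylow subgroups -/
theorem isSyl2_of_isSyl (hS : IsSyl S K) : Cfsg.Agent.LieExceptional.CITDefs.IsSyl2 K S :=
  ⟨hS.le, hS.two, fun Y hY hY2 hle => le_antisymm (hS.max Y hY2 hle hY) hle⟩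

/-- **existence of the coordinates** -/
theorem exists_kd {F : Type} [Field F] [Fintype F] {m : ℕ} (hm : 1 ≤ m) (hF : Fintype.card F = 2 ^ (2 * m + 1))
    (e : ↥K ≃* ↥(Cfsg.Lie.Sz F (2 ^ (m + 1)))) (hS : IsSyl S K) :
    ∃ (p : F → F → G) (h : Fˣ → G), KD K F m p h S := by
  have h2f : Fact (Nat.Prime 2) := ⟨Nat.prime_two⟩
  have hIso : Cfsg.Lie.IsoSuzuki ↥K := ⟨F, _, _, m, hm, hF, ⟨e⟩⟩
  obtain ⟨P, hP⟩ := Cfsg.Agent.OddCyclic.CaseESz.exists_sylow (isSyl2_of_isSyl hS)
  obtain ⟨R, hθ, hT⟩ := exists_rel_fixed hm hF e P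
  have hFn : Nat.card F = 2 ^ (2 * m + 1) := by rw [Nat.card_eq_fintype_card, hF]
  have hB := Cfsg.Agent.OddCyclic.CaseESz.szB_of_rel R hm hFn
  obtain ⟨q, hK⟩ := Cfsg.Agent.OddCyclic.CaseESz.szK hIso
  have h8 : 8 ≤ Nat.card F := by
    rw [hFn]
    exact SzRel.Rel.eight_le hm
  have hST : S = R.T.map K.subtype := by rw [hP, hT]
  have hcor : ∀ x, x ∈ S ↔ ∃ a b, x = ((cor R a b : ↥K) : G) := by
    intro x
    rw [hST]
    constructor
    · rintro ⟨_, ⟨a, b, rfl⟩, rfl⟩
      refine ⟨a, b + a * R.θ a, ?_⟩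
      unfold cor
      rw [add_assoc, R.add_self, add_zero]
      rfl
    · rintro ⟨a, b, rfl⟩
      exact ⟨_, R.u_mem _ _, rfl⟩
  have hmemT : ∀ {x : G} (hx : x ∈ S), ∃ hxK : x ∈ K, (⟨x, hxK⟩ : ↥K) ∈ R.T := by
    intro x hx
    rw [hST] at hx
    obtain ⟨y, hy, rfl⟩ := hx
    exact ⟨y.2, hy⟩
  refine ⟨fun a b => ((cor R a b : ↥K) : G), fun k => ((tor R k : ↥K) : G), ?_⟩
  refine
    { hm := hm
      card_F := hFn
      two := R.two
      p_mul := fun a b c d => congrArg Subtype.val (cor_mul R hθ a b c d)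
      p_inj := ?_
      h_mul := ?_
      h_inj := ?_
      act := fun k a b => congrArg Subtype.val (cor_act R hθ k a b)
      mem_S := hcor
      h_mem := fun k => (tor R k).2
      syl := hS
      ti := ?_
      cent := ?_
      cen := ?_
      inner := ?_
      cz := ?_
      gen := ?_ }
  · intro a b c d h
    obtain ⟨h1, h2⟩ := R.u_inj (Subtype.ext h)
    subst h1
    exact ⟨rfl, add_right_cancel h2⟩
  · intro k l
    have h1 : tor R (k * l) = tor R k * tor R l := by
      unfold tor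
      rw [map_mul, R.d_mul]
    exact congrArg Subtype.val h1
  · intro k l h
    have h1 : tor R k = tor R l := Subtype.ext h
    exact (MulEquiv.ofBijective (lamHom R) (lam_bij R)).symm.injective (R.d_inj h1)
  · intro x hxK s hs hs1 hx
    obtain ⟨hsK, hsT⟩ := hmemT hs
    obtain ⟨hxsK, hxsT⟩ := hmemT hx
    obtain ⟨a, b, k, h1⟩ := R.exists_ud (g := ⟨x, hxK⟩) hsT (fun h => hs1 (congrArg Subtype.val h)) hxsT
    refine ⟨((R.u a b : ↥K) : G), by rw [hST]; exact ⟨_, R.u_mem a b, rfl⟩, lamHom R k, ?_⟩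
    have h2 : tor R (lamHom R k) = R.d k := by
      unfold tor
      congr 1
      exact (MulEquiv.ofBijective (lamHom R) (lam_bij R)).symm_apply_apply k
    rw [h2]
    exact congrArg Subtype.val h1
  · intro x hxK s hs hs1 hx
    have h1 := hB.cent s (by rw [← hST]; exact hs) hs1 x hxK hx
    rwa [← hST] at h1
  · intro x hxK hxc
    have h1 := Cfsg.Agent.OddCyclic.CaseESz.inf_centralizer hIso
    have h2 : x ∈ K ⊓ centralizer (K : Set G) := ⟨hxK, hxc⟩
    rwa [h1, mem_bot] at h2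
  · intro x hx hn
    exact (Cfsg.Agent.OddCyclic.CaseESz.mem_sup_iff x).mp (Cfsg.Agent.OddCyclic.CaseESz.inner hIso hx hn)
  · intro x hx hc
    obtain ⟨y, hy, u, hu, h1⟩ := Cfsg.Agent.OddCyclic.CaseESz.centZ hIso h8
      (Q := R.T.map K.subtype) (by rw [← hST]; exact isSyl2_of_isSyl hS) hB hx (by
        rintro _ ⟨_, ⟨b, rfl⟩, rfl⟩
        have h2 := hc b
        have h3 : cor R 0 b = R.u 0 b := by
          unfold cor
          rw [zero_mul, add_zero]
        rw [h3] at h2
        exact h2)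
    exact ⟨y, hy, u, by rw [hST]; exact hu, h1⟩
  · intro S' hS' hne
    exact (hK.sylow S S' (isSyl2_of_isSyl hS) (isSyl2_of_isSyl hS') hne.symm).2

end main

end KD

end Cfsg.Agent.OddHalf.D4.Sz

end

-- merged: Cfsg.Agent.OddHalf.D4.Sz.KFB
section

/-!
# ODD, D4, `K ≅ Sz(q)`: derived facts

Everything from the structure `KD`: algebra of the coordinates, the centre, the torus, Sylow 2-subgroups of `N(K)`,
the hypothesis `inner` of `Exists.fullPair_of_maxE`, transport to conjugates.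
-/

set_option autoImplicit false

namespace Cfsg.Agent.OddHalf.D4.Sz.KD

open Subgroup Cfsg.Agent.OddHalf.D4 Cfsg.Agent.OddHalf.D4.Basic
open Cfsg.Agent.OddHalf.D4.CommConj (Tight cj mem_cj cj_mul card_cj cj_eq_of_mem_normalizer mem_cj_mul)

variable {G : Type*} [Group G] {K S : Subgroup G} {F : Type*} [Field F] {m : ℕ} {p : F → F → G} {h : Fˣ → G}

/-! ### Algebra of the coordinates -/

theorem charP (V : KD K F m p h S) : CharP F 2 := CharTwo.of_one_ne_zero_of_two_eq_zero one_ne_zero V.two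

theorem add_self (V : KD K F m p h S) (x : F) : x + x = 0 := by linear_combination x * V.two

theorem eq_of_add (V : KD K F m p h S) {x y : F} (hxy : x + y = 0) : x = y := by
  linear_combination hxy - y * V.two

theorem finF (V : KD K F m p h S) : Finite F := by
  apply Nat.finite_of_card_ne_zero
  rw [V.card_F]
  positivity

theorem le (V : KD K F m p h S) : S ≤ K := V.syl.le

theorem p_mem (V : KD K F m p h S) (a b : F) : p a b ∈ S := (V.mem_S _).mpr ⟨a, b, rfl⟩

theorem th_zero (m : ℕ) : (0 : F) ^ 2 ^ (m + 1) = 0 := zero_pow (by positivity)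

theorem th_add (V : KD K F m p h S) (x y : F) : (x + y) ^ 2 ^ (m + 1) = x ^ 2 ^ (m + 1) + y ^ 2 ^ (m + 1) := by
  have := V.charP
  exact add_pow_char_pow x y 2 (m + 1)

theorem p_zero (V : KD K F m p h S) : p 0 0 = 1 := by
  have h1 := V.p_mul 0 0 0 0
  rw [mul_zero, add_zero, add_zero] at h1
  exact mul_eq_left.mp h1

theorem z_mul (V : KD K F m p h S) (b d : F) : p 0 b * p 0 d = p 0 (b + d) := by
  rw [V.p_mul, mul_zero, add_zero, add_zero]

theorem z_self (V : KD K F m p h S) (b : F) : p 0 b * p 0 b = 1 := by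
  rw [V.z_mul, V.add_self, V.p_zero]

theorem z_inv (V : KD K F m p h S) (b : F) : (p 0 b)⁻¹ = p 0 b := by
  rw [inv_eq_iff_mul_eq_one, V.z_self]

theorem z_inj (V : KD K F m p h S) {b d : F} (hbd : p 0 b = p 0 d) : b = d := (V.p_inj _ _ _ _ hbd).2

theorem z_eq_one (V : KD K F m p h S) {b : F} (hb : p 0 b = 1) : b = 0 := by
  rw [← V.p_zero] at hb
  exact V.z_inj hb

theorem z_mul_p (V : KD K F m p h S) (a b c : F) : p 0 c * p a b = p a (b + c) := by
  rw [V.p_mul, th_zero, zero_mul, add_zero, zero_add, add_comm]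

theorem p_mul_z (V : KD K F m p h S) (a b c : F) : p a b * p 0 c = p a (b + c) := by
  rw [V.p_mul, mul_zero, add_zero, add_zero]

theorem z_comm (V : KD K F m p h S) (a b c : F) : p a b * p 0 c = p 0 c * p a b := by
  rw [V.p_mul_z, V.z_mul_p]

theorem p_eq (V : KD K F m p h S) (a b : F) : p a b = p a 0 * p 0 b := by
  rw [V.p_mul_z, zero_add]

theorem p_sq (V : KD K F m p h S) (a b : F) : p a b * p a b = p 0 (a ^ (1 + 2 ^ (m + 1))) := by
  rw [V.p_mul, V.add_self, V.add_self, zero_add, pow_add a 1, pow_one, mul_comm a]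

/-- conjugation in `S` -/
theorem p_conj (V : KD K F m p h S) (a b c d : F) :
    p a b * p c d * (p a b)⁻¹ = p c (d + (a ^ 2 ^ (m + 1) * c + a * c ^ 2 ^ (m + 1))) := by
  rw [mul_inv_eq_iff_eq_mul, V.p_mul, V.p_mul]
  congr 1
  · ring
  · linear_combination (- (c ^ 2 ^ (m + 1) * a)) * V.two

/-- commutators in `S` -/
theorem p_commutator (V : KD K F m p h S) (a b c d : F) :
    p a b * p c d * (p a b)⁻¹ * (p c d)⁻¹ = p 0 (a ^ 2 ^ (m + 1) * c + a * c ^ 2 ^ (m + 1)) := by
  rw [V.p_conj, mul_inv_eq_iff_eq_mul, V.z_mul_p]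

theorem p_comm_iff (V : KD K F m p h S) (a b c d : F) :
    p a b * p c d = p c d * p a b ↔ a ^ 2 ^ (m + 1) * c = a * c ^ 2 ^ (m + 1) := by
  rw [V.p_mul, V.p_mul]
  constructor
  · intro h1
    have h2 := (V.p_inj _ _ _ _ h1).2
    linear_combination h2
  · intro h1
    congr 1
    · ring
    · linear_combination h1

theorem p_sq_eq_one (V : KD K F m p h S) {a b : F} (hab : p a b * p a b = 1) : a = 0 := by
  rw [V.p_sq] at hab
  exact pow_eq_zero_iff (by positivity) |>.mp (V.z_eq_one hab)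

/-- involutions of `S` -/
theorem eq_of_sq (V : KD K F m p h S) {s : G} (hs : s ∈ S) (h2 : s * s = 1) : ∃ b, s = p 0 b := by
  obtain ⟨a, b, rfl⟩ := (V.mem_S s).mp hs
  exact ⟨b, by rw [V.p_sq_eq_one h2]⟩

/-- `θ² = 2` -/
theorem th_th (V : KD K F m p h S) (x : F) : (x ^ 2 ^ (m + 1)) ^ 2 ^ (m + 1) = x ^ 2 := by
  have := V.finF
  have := Fintype.ofFinite F
  have h1 : Fintype.card F = 2 ^ (2 * m + 1) := by rw [← Nat.card_eq_fintype_card, V.card_F]
  rw [← pow_mul, ← pow_add]
  have h2 : m + 1 + (m + 1) = (2 * m + 1) + 1 := by ring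
  rw [h2, pow_succ 2 (2 * m + 1), ← h1, pow_mul, FiniteField.pow_card]

theorem fix_th (V : KD K F m p h S) {x : F} (hx : x ^ 2 ^ (m + 1) = x) : x = 0 ∨ x = 1 := by
  have h1 := V.th_th x
  rw [hx, hx] at h1
  have h2 : x * (x - 1) = 0 := by linear_combination -h1
  rcases mul_eq_zero.mp h2 with h3 | h3
  · exact Or.inl h3
  · exact Or.inr (sub_eq_zero.mp h3)

/-- centralizers in `S` -/
theorem comm_cases (V : KD K F m p h S) {a b c d : F} (ha : a ≠ 0) (hc : p a b * p c d = p c d * p a b) :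
    c = 0 ∨ c = a := by
  rw [V.p_comm_iff] at hc
  have ha' : a ^ 2 ^ (m + 1) ≠ 0 := pow_ne_zero _ ha
  have h1 : (c / a) ^ 2 ^ (m + 1) = c / a := by
    rw [div_pow, div_eq_div_iff ha' ha]
    linear_combination (-1 : F) * hc
  rcases V.fix_th h1 with h2 | h2
  · left
    rcases div_eq_zero_iff.mp h2 with h3 | h3
    · exact h3
    · exact absurd h3 ha
  · right
    exact (div_eq_one_iff_eq ha).mp h2

/-! ### The centre as a subgroup -/

/-- `Z(S)` -/
def Z (V : KD K F m p h S) : Subgroup G where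
  carrier := {x | ∃ b, x = p 0 b}
  mul_mem' := by
    rintro _ _ ⟨b, rfl⟩ ⟨c, rfl⟩
    exact ⟨b + c, V.z_mul b c⟩
  one_mem' := ⟨0, V.p_zero.symm⟩
  inv_mem' := by
    rintro _ ⟨b, rfl⟩
    exact ⟨b, V.z_inv b⟩

theorem mem_Z (V : KD K F m p h S) {x : G} : x ∈ V.Z ↔ ∃ b, x = p 0 b := Iff.rfl

theorem z_mem (V : KD K F m p h S) (b : F) : p 0 b ∈ V.Z := ⟨b, rfl⟩

theorem Z_le (V : KD K F m p h S) : V.Z ≤ S := by
  rintro _ ⟨b, rfl⟩
  exact V.p_mem 0 b

theorem Z_comm (V : KD K F m p h S) {z s : G} (hz : z ∈ V.Z) (hs : s ∈ S) : s * z = z * s := by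
  obtain ⟨b, rfl⟩ := hz
  obtain ⟨a, c, rfl⟩ := (V.mem_S s).mp hs
  exact V.z_comm a c b

theorem Z_sq (V : KD K F m p h S) {z : G} (hz : z ∈ V.Z) : z * z = 1 := by
  obtain ⟨b, rfl⟩ := hz
  exact V.z_self b

theorem sq_mem_Z (V : KD K F m p h S) {s : G} (hs : s ∈ S) : s * s ∈ V.Z := by
  obtain ⟨a, b, rfl⟩ := (V.mem_S s).mp hs
  exact ⟨_, V.p_sq a b⟩

theorem comm_mem_Z (V : KD K F m p h S) {s t : G} (hs : s ∈ S) (ht : t ∈ S) : s * t * s⁻¹ * t⁻¹ ∈ V.Z := by
  obtain ⟨a, b, rfl⟩ := (V.mem_S s).mp hs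
  obtain ⟨c, d, rfl⟩ := (V.mem_S t).mp ht
  exact ⟨_, V.p_commutator a b c d⟩

theorem pow_four (V : KD K F m p h S) {s : G} (hs : s ∈ S) : s ^ 4 = 1 := by
  have h1 : s ^ 4 = (s * s) * (s * s) := by
    simp only [pow_succ, pow_zero, one_mul, mul_assoc]
  rw [h1]
  exact V.Z_sq (V.sq_mem_Z hs)

theorem card_Z (V : KD K F m p h S) : Nat.card ↥V.Z = Nat.card F := by
  refine (Nat.card_congr (Equiv.ofBijective (fun b : F => (⟨p 0 b, V.z_mem b⟩ : ↥V.Z)) ⟨?_, ?_⟩)).symm
  · intro b c hbc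
    exact V.z_inj (congrArg Subtype.val hbc)
  · rintro ⟨_, b, rfl⟩
    exact ⟨b, rfl⟩

theorem card_S (V : KD K F m p h S) : Nat.card ↥S = Nat.card F ^ 2 := by
  have h1 : Nat.card (F × F) = Nat.card F ^ 2 := by rw [Nat.card_prod, pow_two]
  rw [← h1]
  refine (Nat.card_congr (Equiv.ofBijective (fun x : F × F => (⟨p x.1 x.2, V.p_mem x.1 x.2⟩ : ↥S)) ⟨?_, ?_⟩)).symm
  · rintro ⟨a, b⟩ ⟨c, d⟩ hx
    obtain ⟨h1, h2⟩ := V.p_inj _ _ _ _ (congrArg Subtype.val hx)
    exact Prod.ext h1 h2
  · rintro ⟨x, hx⟩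
    obtain ⟨a, b, rfl⟩ := (V.mem_S x).mp hx
    exact ⟨(a, b), rfl⟩

/-! ### The torus -/

theorem h_one (V : KD K F m p h S) : h 1 = 1 := by
  have h1 := V.h_mul 1 1
  rw [mul_one] at h1
  exact (mul_eq_left.mp h1.symm)

theorem h_inv (V : KD K F m p h S) (k : Fˣ) : (h k)⁻¹ = h k⁻¹ := by
  rw [inv_eq_iff_mul_eq_one, ← V.h_mul, mul_inv_cancel, V.h_one]

theorem h_z (V : KD K F m p h S) (k : Fˣ) (b : F) :
    h k * p 0 b * (h k)⁻¹ = p 0 ((k : F) ^ (1 + 2 ^ (m + 1)) * b) := by
  rw [V.act, mul_zero]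

theorem h_norm (V : KD K F m p h S) (k : Fˣ) {s : G} (hs : s ∈ S) : h k * s * (h k)⁻¹ ∈ S := by
  obtain ⟨a, b, rfl⟩ := (V.mem_S s).mp hs
  rw [V.act]
  exact V.p_mem _ _

/-- `κ ↦ κ ^ (1 + θ)` is surjective -/
theorem exists_norm (V : KD K F m p h S) {b : F} (hb : b ≠ 0) : ∃ k : Fˣ, (k : F) ^ (1 + 2 ^ (m + 1)) = b := by
  have := V.finF
  have hc : ∀ x : F, x ≠ 0 → x ^ (2 ^ (2 * m + 1) - 1) = 1 := by
    intro x hx
    have := Fintype.ofFinite F
    rw [← V.card_F, Nat.card_eq_fintype_card]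
    exact FiniteField.pow_card_sub_one_eq_one x hx
  -- `(1 + θ)(θ - 1) = θ² - 1 = 1`
  have h1 : ∀ x : F, x ≠ 0 → (x ^ (2 ^ (m + 1) - 1)) ^ (1 + 2 ^ (m + 1)) = x := by
    intro x hx
    rw [← pow_mul]
    have h2 : (2 ^ (m + 1) - 1) * (1 + 2 ^ (m + 1)) = (2 ^ (2 * m + 1) - 1) * 2 + 1 := by
      have e1 : 2 ^ (2 * m + 1) * 2 = 2 ^ (m + 1) * 2 ^ (m + 1) := by
        rw [← pow_succ, ← pow_add]; congr 1; ring
      have e2 : 1 ≤ 2 ^ (m + 1) := Nat.one_le_two_pow
      have e3 : 1 ≤ 2 ^ (2 * m + 1) := Nat.one_le_two_pow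
      zify [e2, e3]
      have e1' : (2 : ℤ) ^ (2 * m + 1) * 2 = 2 ^ (m + 1) * 2 ^ (m + 1) := by exact_mod_cast e1
      linear_combination -e1'
    rw [h2, pow_add, pow_mul, hc x hx, one_pow, one_mul, pow_one]
  exact ⟨Units.mk0 (b ^ (2 ^ (m + 1) - 1)) (pow_ne_zero _ hb), h1 b hb⟩

/-- the torus acts freely on `Z#` -/
theorem free_Z (V : KD K F m p h S) {k : Fˣ} {b : F} (hb : b ≠ 0) (hk : h k * p 0 b = p 0 b * h k) : k = 1 := by
  have h1 : h k * p 0 b * (h k)⁻¹ = p 0 b := by rw [hk, mul_inv_cancel_right]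
  rw [V.h_z] at h1
  have h2 : (k : F) ^ (1 + 2 ^ (m + 1)) = 1 := by
    have h3 := V.z_inj h1
    exact mul_right_cancel₀ hb (by rw [h3, one_mul])
  rw [pow_add, pow_one] at h2
  have h3 : ((k : F) * (k : F) ^ 2 ^ (m + 1)) ^ 2 ^ (m + 1) = 1 := by rw [h2, one_pow]
  rw [mul_pow, V.th_th] at h3
  apply Units.ext
  rw [Units.val_one]
  linear_combination h3 - (k : F) * h2

/-- `[s, S]` has index two in `Z` for `s ∈ S \ Z`: two elements of `Z` outside `[s, S]` differ by an element of
`[s, S]`; `[s, S] = {a ^ θ c + a c ^ θ}` -/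
theorem card_comm (V : KD K F m p h S) {a : F} (ha : a ≠ 0) :
    2 * Nat.card ↥({x : F | ∃ c, a ^ 2 ^ (m + 1) * c + a * c ^ 2 ^ (m + 1) = x} : Set F) = Nat.card F := by
  classical
  have := V.finF
  have := V.charP
  let f : F →+ F := AddMonoidHom.mk' (fun c => a ^ 2 ^ (m + 1) * c + a * c ^ 2 ^ (m + 1)) (by
    intro x y
    rw [V.th_add]; ring)
  have h1 : Nat.card ↥f.ker = 2 := by
    have h2 : (f.ker : Set F) = {0, a} := by
      ext x
      rw [SetLike.mem_coe, AddMonoidHom.mem_ker]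
      constructor
      · intro hx
        have hx' : a ^ 2 ^ (m + 1) * x + a * x ^ 2 ^ (m + 1) = 0 := hx
        have h3 : p a 0 * p x 0 = p x 0 * p a 0 := by
          rw [V.p_comm_iff]
          exact V.eq_of_add hx'
        rcases V.comm_cases ha h3 with h4 | h4
        · simp [h4]
        · simp [h4]
      · rintro (h3 | h3)
        · rw [h3, map_zero]
        · have h4 : x = a := h3
          show a ^ 2 ^ (m + 1) * x + a * x ^ 2 ^ (m + 1) = 0
          rw [h4]
          linear_combination (a ^ 2 ^ (m + 1) * a) * V.two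
    have h3 : Nat.card ↥f.ker = Nat.card ↥(f.ker : Set F) := rfl
    rw [h3, h2, Nat.card_coe_set_eq, Set.ncard_pair ha.symm]
  have h2 : Nat.card ↥f.range * Nat.card ↥f.ker = Nat.card F := by
    rw [← Nat.card_congr (QuotientAddGroup.quotientKerEquivRange f).toEquiv]
    exact (AddSubgroup.card_eq_card_quotient_mul_card_addSubgroup f.ker).symm
  have h3 : Nat.card ↥f.range = Nat.card ↥({x : F | ∃ c, a ^ 2 ^ (m + 1) * c + a * c ^ 2 ^ (m + 1) = x} : Set F) :=
    rfl
  rw [← h3, mul_comm, ← h1, h2]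

/-! ### In `N(K)` -/

theorem c_comm (V : KD K F m p h S) {c : G} (hc : c ∈ centralizer (K : Set G)) {s : G} (hs : s ∈ S) :
    c * s = s * c := (mem_centralizer_iff.mp hc s (V.le hs)).symm

/-- 2-elements of `N(K) ∩ N(S)` are in `C(K) × S` -/
theorem inner_S (V : KD K F m p h S) {x : G} (hx : x ∈ normalizer (K : Set G)) (h2 : ∃ n : ℕ, x ^ 2 ^ n = 1)
    (hxS : x ∈ normalizer (S : Set G)) : ∃ c ∈ centralizer (K : Set G), ∃ s ∈ S, x = c * s := by
  obtain ⟨k, hk, c, hc, rfl⟩ := V.inner x hx h2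
  have hkN : k ∈ normalizer (S : Set G) := by
    have h3 : c ∈ normalizer (S : Set G) := by
      rw [mem_normalizer_iff]
      intro s
      constructor
      · intro hs
        rw [V.c_comm hc hs, mul_inv_cancel_right]
        exact hs
      · intro hs
        have h4 := V.c_comm (inv_mem hc) hs
        have h5 : s = c⁻¹ * (c * s * c⁻¹) * c := by group
        rw [h5, h4, inv_mul_cancel_right]
        exact hs
    have h4 := mul_mem hx hx
    have h5 : k = k * c * c⁻¹ := by group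
    rw [h5]
    exact mul_mem hxS (inv_mem h3)
  have h3 : k * p 0 1 * k⁻¹ ∈ S := (mem_normalizer_iff.mp hkN _).mp (V.p_mem 0 1)
  obtain ⟨s, hs, l, hkl⟩ := V.ti k hk (p 0 1) (V.p_mem 0 1) (fun h1 => one_ne_zero (V.z_eq_one h1)) h3
  obtain ⟨n, hn⟩ := h2
  -- `l = 1`
  have hkc : k * c = c * k := mem_centralizer_iff.mp hc k hk
  have h4 : k ^ 2 ^ n = 1 := by
    have h5 : (k * c) ^ 2 ^ n = k ^ 2 ^ n * c ^ 2 ^ n := (Commute.mul_pow (show Commute k c from hkc) _)
    rw [hn] at h5
    have h6 : k ^ 2 ^ n = (c ^ 2 ^ n)⁻¹ := (mul_eq_one_iff_eq_inv.mp h5.symm)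
    apply V.cen _ (pow_mem hk _)
    rw [h6]
    exact inv_mem (pow_mem hc _)
  have hmod : ∀ j : ℕ, ∃ t ∈ S, k ^ j = t * h (l ^ j) := by
    intro j
    induction j with
    | zero => exact ⟨1, one_mem _, by rw [pow_zero, pow_zero, V.h_one, mul_one]⟩
    | succ j ih =>
      obtain ⟨t, ht, hj⟩ := ih
      refine ⟨t * (h (l ^ j) * s * (h (l ^ j))⁻¹), mul_mem ht (V.h_norm _ hs), ?_⟩
      rw [pow_succ, hj, hkl, pow_succ, V.h_mul]
      group
  obtain ⟨t, ht, h5⟩ := hmod (2 ^ n)
  rw [h4] at h5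
  have h6 : h (l ^ 2 ^ n) ∈ S := by
    have h7 : h (l ^ 2 ^ n) = t⁻¹ * (t * h (l ^ 2 ^ n)) := by group
    rw [h7, ← h5, mul_one]
    exact inv_mem ht
  have h7 : l ^ 2 ^ n = 1 := by
    apply V.free_Z (b := 1) one_ne_zero
    exact V.Z_comm (V.z_mem 1) h6
  have := V.finF
  have h8 : l = 1 := by
    have := Fintype.ofFinite F
    have h9 : orderOf l ∣ 2 ^ n := orderOf_dvd_of_pow_eq_one h7
    have h10 : l ^ (2 ^ (2 * m + 1) - 1) = 1 := by
      apply Units.ext
      rw [Units.val_pow_eq_pow_val, Units.val_one, ← V.card_F, Nat.card_eq_fintype_card]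
      exact FiniteField.pow_card_sub_one_eq_one _ l.ne_zero
    have h11 : orderOf l ∣ 2 ^ (2 * m + 1) - 1 := orderOf_dvd_of_pow_eq_one h10
    have h12 : Nat.Coprime (2 ^ n) (2 ^ (2 * m + 1) - 1) := by
      apply Nat.Coprime.pow_left
      rw [Nat.coprime_two_left]
      have e1 : 2 ^ (2 * m + 1) = 2 * 2 ^ (2 * m) := by rw [pow_succ]; ring
      have e2 : 1 ≤ 2 ^ (2 * m) := Nat.one_le_two_pow
      rw [e1]
      exact ⟨2 ^ (2 * m) - 1, by omega⟩
    exact orderOf_eq_one_iff.mp (Nat.eq_one_of_dvd_coprimes h12 h9 h11)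
  refine ⟨c, hc, s, hs, ?_⟩
  rw [hkc, hkl, h8, V.h_one, mul_one]

/-! ### Sylow 2-subgroups of `N(K)` -/

/-- elements of `Q S` -/
theorem mem_sup (V : KD K F m p h S) {Q : Subgroup G} (hQ : Q ≤ centralizer (K : Set G)) {x : G} :
    x ∈ Q ⊔ S ↔ ∃ q ∈ Q, ∃ s ∈ S, x = q * s := by
  have hn : Q ≤ normalizer (S : Set G) := by
    intro q hq
    rw [mem_normalizer_iff]
    intro s
    constructor
    · intro hs
      rw [V.c_comm (hQ hq) hs, mul_inv_cancel_right]
      exact hs
    · intro hs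
      have h4 := V.c_comm (inv_mem (hQ hq)) hs
      have h5 : s = q⁻¹ * (q * s * q⁻¹) * q := by group
      rw [h5, h4, inv_mul_cancel_right]
      exact hs
  constructor
  · intro hx
    rw [← SetLike.mem_coe, coe_mul_of_left_le_normalizer_right Q S hn] at hx
    obtain ⟨q, hq, s, hs, rfl⟩ := hx
    exact ⟨q, hq, s, hs, rfl⟩
  · rintro ⟨q, hq, s, hs, rfl⟩
    exact mul_mem (mem_sup_left hq) (mem_sup_right hs)

theorem sup_two (V : KD K F m p h S) {Q : Subgroup G} (hQ : Q ≤ centralizer (K : Set G)) (hQ2 : IsPGroup 2 ↥Q) :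
    IsPGroup 2 ↥(Q ⊔ S) := by
  intro x
  obtain ⟨q, hq, s, hs, hx⟩ := (V.mem_sup hQ).mp x.2
  obtain ⟨n, hn⟩ := hQ2 ⟨q, hq⟩
  have hn' : q ^ 2 ^ n = 1 := congrArg Subtype.val hn
  refine ⟨n + 2, Subtype.ext ?_⟩
  show (x : G) ^ 2 ^ (n + 2) = 1
  rw [hx, Commute.mul_pow (show Commute q s from V.c_comm (hQ hq) hs), pow_add, pow_mul, hn', one_pow, one_mul,
    mul_comm, pow_mul]
  norm_num
  rw [V.pow_four hs, one_pow]

/-- **the Sylow 2-subgroups of `N(K)`** -/
theorem syl_sup [Finite G] (V : KD K F m p h S) {Q : Subgroup G} (hQ : IsSyl Q (centralizer (K : Set G))) :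
    IsSyl (Q ⊔ S) (normalizer (K : Set G)) := by
  refine ⟨V.sup_two hQ.le hQ.two, sup_le (hQ.le.trans (centralizer_le_normalizer _)) (V.le.trans le_normalizer), ?_⟩
  intro X hX hle hXN x hx
  have hX2 : ∀ y ∈ X, ∃ n : ℕ, y ^ 2 ^ n = 1 := by
    intro y hy
    obtain ⟨n, hn⟩ := hX ⟨y, hy⟩
    exact ⟨n, congrArg Subtype.val hn⟩
  -- `X ∩ K = S`
  have hXK : X ⊓ K ≤ S := by
    apply V.syl.max _ (hX.to_le inf_le_left) _ inf_le_right
    exact le_inf (le_sup_right.trans hle) V.le
  have hXS : ∀ y ∈ X, y ∈ normalizer (S : Set G) := by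
    intro y hy
    apply mem_normalizer_fintype
    intro s hs
    exact hXK ⟨X.mul_mem (X.mul_mem hy (hle (mem_sup_right hs))) (X.inv_mem hy),
      (mem_normalizer_iff.mp (hXN hy) s).mp (V.le hs)⟩
  obtain ⟨c, hc, s, hs, hxcs⟩ := V.inner_S (hXN hx) (hX2 x hx) (hXS x hx)
  -- `c ∈ Q`
  have hcX : c ∈ X := by
    have h1 : c = x * s⁻¹ := by rw [hxcs]; group
    rw [h1]
    exact X.mul_mem hx (X.inv_mem (hle (mem_sup_right hs)))
  have hXC : X ⊓ centralizer (K : Set G) ≤ Q := by
    apply hQ.max _ (hX.to_le inf_le_left) _ inf_le_right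
    exact le_inf (le_sup_left.trans hle) hQ.le
  rw [hxcs]
  exact mul_mem (mem_sup_left (hXC ⟨hcX, hc⟩)) (mem_sup_right hs)

theorem syl_K [Finite G] {T : Subgroup G} (hT : IsSyl T (normalizer (K : Set G))) : IsSyl (T ⊓ K) K :=
  hT.inf le_normalizer hT.le

theorem syl_C [Finite G] {T : Subgroup G} (hT : IsSyl T (normalizer (K : Set G))) :
    IsSyl (T ⊓ centralizer (K : Set G)) (centralizer (K : Set G)) := by
  apply hT.inf (centralizer_le_normalizer _)
  intro t ht
  apply mem_normalizer_fintype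
  intro c hc
  rw [SetLike.mem_coe, mem_centralizer_iff] at hc ⊢
  intro k hk
  have h1 : t⁻¹ * k * t ∈ K := (mem_normalizer_iff''.mp (hT.le ht) k).mp hk
  have h2 := hc _ h1
  calc k * (t * c * t⁻¹) = t * ((t⁻¹ * k * t) * c) * t⁻¹ := by group
    _ = t * (c * (t⁻¹ * k * t)) * t⁻¹ := by rw [h2]
    _ = t * c * t⁻¹ * k := by group

/-- a Sylow 2-subgroup of `N(K)` containing `S` is `Q S` -/
theorem syl_eq [Finite G] (V : KD K F m p h S) {T : Subgroup G} (hT : IsSyl T (normalizer (K : Set G)))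
    (hS : S ≤ T) : T = (T ⊓ centralizer (K : Set G)) ⊔ S := by
  have h1 := V.syl_sup (syl_C hT)
  apply le_antisymm
  · exact h1.max T hT.two (sup_le inf_le_left hS) hT.le
  · exact sup_le inf_le_left hS

/-! ### Transport to conjugates -/

theorem cj_conj {A : Subgroup G} {g x : G} (hx : x ∈ CommConj.cj g A) : ∃ a ∈ A, x = g * a * g⁻¹ := by
  refine ⟨g⁻¹ * x * g, mem_cj.mp hx, by group⟩

theorem mem_cj_iff {A : Subgroup G} {g a : G} : g * a * g⁻¹ ∈ CommConj.cj g A ↔ a ∈ A := by
  rw [mem_cj]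
  have h1 : g⁻¹ * (g * a * g⁻¹) * g = a := by group
  rw [h1]

theorem conj_eq_mul {g a b : G} : g * (a * b) * g⁻¹ = (g * a * g⁻¹) * (g * b * g⁻¹) := by group

theorem cj_sup (g : G) (A B : Subgroup G) : CommConj.cj g (A ⊔ B) = CommConj.cj g A ⊔ CommConj.cj g B :=
  Subgroup.map_sup A B _

/-- **coordinates of the conjugates of `K`** -/
theorem conj (V : KD K F m p h S) (g : G) :
    KD (CommConj.cj g K) F m (fun a b => g * p a b * g⁻¹) (fun k => g * h k * g⁻¹) (CommConj.cj g S) where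
  hm := V.hm
  card_F := V.card_F
  two := V.two
  p_mul a b c d := by rw [← V.p_mul]; group
  p_inj a b c d he := V.p_inj _ _ _ _ (mul_left_cancel (mul_right_cancel he))
  h_mul k l := by rw [V.h_mul]; group
  h_inj k l he := V.h_inj (mul_left_cancel (mul_right_cancel he))
  act k a b := by
    have h1 := V.act k a b
    show g * h k * g⁻¹ * (g * p a b * g⁻¹) * (g * h k * g⁻¹)⁻¹ = g * p _ _ * g⁻¹
    rw [← h1]
    group
  mem_S x := by
    rw [mem_cj, V.mem_S]
    constructor
    · rintro ⟨a, b, hab⟩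
      exact ⟨a, b, by rw [← hab]; group⟩
    · rintro ⟨a, b, rfl⟩
      exact ⟨a, b, by group⟩
  h_mem k := mem_cj_mul (V.h_mem k)
  syl := V.syl.cj g
  ti x hx s hs hs1 hxs := by
    obtain ⟨y, hy, rfl⟩ := cj_conj hx
    obtain ⟨u, hu, rfl⟩ := cj_conj hs
    have h1 : g * y * g⁻¹ * (g * u * g⁻¹) * (g * y * g⁻¹)⁻¹ = g * (y * u * y⁻¹) * g⁻¹ := by group
    rw [h1, mem_cj_iff] at hxs
    obtain ⟨t, ht, k, he⟩ := V.ti y hy u hu (by rintro rfl; exact hs1 (by group)) hxs
    exact ⟨g * t * g⁻¹, mem_cj_mul ht, k, by rw [he, conj_eq_mul]⟩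
  cent x hx s hs hs1 hxs := by
    obtain ⟨y, hy, rfl⟩ := cj_conj hx
    obtain ⟨u, hu, rfl⟩ := cj_conj hs
    rw [← conj_eq_mul, ← conj_eq_mul] at hxs
    exact mem_cj_mul (V.cent y hy u hu (by rintro rfl; exact hs1 (by group))
      (mul_left_cancel (mul_right_cancel hxs)))
  cen x hx hxc := by
    obtain ⟨y, hy, rfl⟩ := cj_conj hx
    rw [centralizer_cj, mem_cj_iff] at hxc
    rw [V.cen y hy hxc]; group
  inner x hx h2 := by
    rw [normalizer_cj] at hx
    obtain ⟨y, hy, rfl⟩ := cj_conj hx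
    obtain ⟨n, hn⟩ := h2
    rw [conj_pow] at hn
    have h3 : y ^ 2 ^ n = 1 := by
      have h4 : y ^ 2 ^ n = g⁻¹ * (g * y ^ 2 ^ n * g⁻¹) * g := by group
      rw [h4, hn]; group
    obtain ⟨k, hk, c, hc, rfl⟩ := V.inner y hy ⟨n, h3⟩
    refine ⟨g * k * g⁻¹, mem_cj_mul hk, g * c * g⁻¹, ?_, conj_eq_mul⟩
    rw [centralizer_cj]
    exact mem_cj_mul hc
  cz x hx hc := by
    rw [normalizer_cj] at hx
    obtain ⟨y, hy, rfl⟩ := cj_conj hx
    obtain ⟨c, hc', s, hs, rfl⟩ := V.cz y hy (by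
      intro b
      have h1 := hc b
      rw [← conj_eq_mul, ← conj_eq_mul] at h1
      exact mul_left_cancel (mul_right_cancel h1))
    refine ⟨g * c * g⁻¹, ?_, g * s * g⁻¹, mem_cj_mul hs, conj_eq_mul⟩
    rw [centralizer_cj]
    exact mem_cj_mul hc'
  gen S' hS' hne := by
    have h1 : IsSyl (CommConj.cj g⁻¹ S') K := by
      have h2 := hS'.cj g⁻¹
      rwa [cj_inv_cj] at h2
    have h2 := V.gen _ h1 (by
      rintro rfl
      apply hne
      rw [cj_cj_inv])
    rw [← h2, cj_sup, cj_cj_inv]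

/-- coordinates for every Sylow 2-subgroup of `K` -/
theorem exists_of_syl [Finite G] (V : KD K F m p h S) {S' : Subgroup G} (hS' : IsSyl S' K) :
    ∃ k ∈ K, CommConj.cj k S = S' ∧ KD K F m (fun a b => k * p a b * k⁻¹) (fun l => k * h l * k⁻¹) S' := by
  obtain ⟨k, hk, hkS⟩ := hS'.conj_into V.syl.two V.syl.le
  have h1 : CommConj.cj k S ≤ S' := by
    intro x hx
    obtain ⟨s, hs, rfl⟩ := cj_conj hx
    exact hkS s hs
  have h2 := V.conj k
  rw [cj_eq_of_mem_normalizer (le_normalizer hk)] at h2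
  have h3 : CommConj.cj k S = S' :=
    le_antisymm h1 (h2.syl.max S' hS'.two h1 hS'.le)
  refine ⟨k, hk, h3, ?_⟩
  rwa [h3] at h2

/-- **the hypothesis `inner` of `Exists.fullPair_of_maxE`** -/
theorem innerIn [Finite G] (V : KD K F m p h S) (T : Subgroup G) (hT : IsSyl T (normalizer (K : Set G)))
    (y : G) (hy : y ∈ T) (hc : ∀ s ∈ T, s ∈ K → s * y = y * s) :
    ∃ k ∈ centralizer (K : Set G), ∃ s ∈ T, s ∈ K ∧ (∀ u ∈ T, u ∈ K → u * s = s * u) ∧ y = k * s := by
  obtain ⟨k, hk, -, V'⟩ := V.exists_of_syl (syl_K hT)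
  have h1 : ∀ b, y * (fun a b => k * p a b * k⁻¹) 0 b = (fun a b => k * p a b * k⁻¹) 0 b * y := by
    intro b
    have h2 := V'.p_mem 0 b
    exact (hc _ h2.1 h2.2).symm
  obtain ⟨c, hcc, s, hs, rfl⟩ := V'.cz y (hT.le hy) h1
  refine ⟨c, hcc, s, hs.1, hs.2, ?_, rfl⟩
  intro u hu huK
  have h3 := hc u hu huK
  have h4 := V'.c_comm hcc (s := u) ⟨hu, huK⟩
  have h5 : c * (u * s) = c * (s * u) := by
    calc c * (u * s) = (c * u) * s := by group
      _ = u * (c * s) := by rw [h4]; group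
      _ = c * s * u := h3
      _ = c * (s * u) := by group
  exact mul_left_cancel h5

end Cfsg.Agent.OddHalf.D4.Sz.KD

end
end

-- part: OddHalf/D6/QThree/U43Facts
section
set_option linter.all false
open scoped Cfsg.Agent.FastGrp

/-!
# ODD half, D6, `q = 3`: the facts `Two` for `U₄(3)` (helper577)

`two_of_tw`: for every finite group with the configuration `Tw`, one class of involutions and `z` 2-central;
`exists_two`: `U₄(3)`.
-/

set_option autoImplicit false

namespace Cfsg.Agent.OddHalf.D6.QThree.U43Facts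

open Subgroup Cfsg.Agent.Co2Type.Quad Cfsg.Agent.LargeExtra.W2 Cfsg.Agent.LargeExtra.W2.CM
open Cfsg.Agent.LargeExtra.W2.U43 Cfsg.Agent.LargeExtra.W2.U43.ExistsD Cfsg.Agent.LargeExtra.W2.U43.InvClass
open Cfsg.Agent.OddHalf.D6.QThree.Facts

/-! ### Checks in the model -/

/-- all elements of the model of `Q` -/
def allQ (P : Qt → Bool) : Bool :=
  allB fun s => allB fun a => allB fun b => allB fun c => allB fun d => P ⟨s, a, b, c, d⟩

theorem allQ_spec {P : Qt → Bool} (h : allQ P = true) (w : Qt) : P w = true := by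
  obtain ⟨s, a, b, c, d⟩ := w
  exact allB_spec (allB_spec (allB_spec (allB_spec (allB_spec h s) a) b) c) d

/-- an element of `Q \ ⟨z⟩` does not commute with its image under `x₁` or `x₂` -/
theorem chkA : allQ (fun w => Qt.beq w T.one.w || (Qt.beq w tz.w ||
    (!(Qt.beq (w.mul w.x1) (w.x1.mul w)) || !(Qt.beq (w.mul w.x2) (w.x2.mul w))))) = true := by
  decide +kernel

/-- the element of `Q` -/
def qt (w : Qt) : T := ⟨w, C3.o, C3.o, false, false⟩

/-- the involutions of `s Q` are conjugate to `s` -/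
theorem chkB : allQ (fun w => !(T.beq (mu (mu ts (qt w)) (mu ts (qt w))) T.one) ||
    anyL conjs (fun c => T.beq (mu c (mu ts (qt w))) (mu ts c))) = true := by
  decide +kernel

variable {G : Type*} [Group G] {Q : Subgroup G} {z i j k l x₁ x₂ y s : G}

theorem qbeq_eq {p q : Qt} (h : Qt.beq p q = true) : p = q := by
  have h1 : T.beq (qt p) (qt q) = true := by
    unfold T.beq qt
    simp [h, C3.eqb_self]
  exact congrArg T.w (T.eq_of_beq h1)

theorem ev_qt (w : Qt) : (qt w).ev z i j k l x₁ x₂ y s = w.ev z i j k l := by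
  simp [T.ev, qt, pw, pw3]

/-- elements of `Q` -/
theorem exists_qt (h : Tw Q z i j k l x₁ x₂ y s) {x : G} (hx : x ∈ Q) :
    ∃ w : Qt, x = w.ev z i j k l := by
  obtain ⟨w, hw⟩ := Fusion.mem_Q h.toCase9aa h.rules hx
  exact ⟨w, by rw [hw, Fusion.E_tq]⟩

theorem evQ_inj [Finite G] (h : Tw Q z i j k l x₁ x₂ y s) {p q : Qt}
    (hpq : p.ev z i j k l = q.ev z i j k l) : p = q := by
  have h1 : qt p = qt q := by
    apply ev_inj h.toCase9aa h.rules
    show (qt p).ev z i j k l x₁ x₂ y s = (qt q).ev z i j k l x₁ x₂ y s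
    rw [ev_qt, ev_qt, hpq]
  exact congrArg T.w h1

/-- `⟨i, …⟩ ∩ …` : abelian subgroups of `Q` normal in `C(z)` -/
theorem ab [Finite G] (h : Tw Q z i j k l x₁ x₂ y s) (B : Subgroup G) (hB : B ≤ Q)
    (hab : ∀ a ∈ B, ∀ b ∈ B, a * b = b * a) (hn : ∀ g, g * z = z * g → ∀ b ∈ B, g * b * g⁻¹ ∈ B)
    (b : G) (hb : b ∈ B) : b = 1 ∨ b = z := by
  have R := h.rules
  obtain ⟨w, rfl⟩ := exists_qt h (hB hb)
  have h1 := allQ_spec chkA w
  simp only [Bool.or_eq_true, Bool.not_eq_true'] at h1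
  have e0 : T.one.w.ev z i j k l = 1 := by simp [Qt.ev, pw, T.one]
  have ez : tz.w.ev z i j k l = z := by simp [Qt.ev, pw, tz]
  rcases h1 with h1 | h1 | h1 | h1
  · left; rw [qbeq_eq h1, e0]
  · right; rw [qbeq_eq h1, ez]
  · exfalso
    have h2 : x₁ * w.ev z i j k l * x₁⁻¹ = w.x1.ev z i j k l := by
      rw [ax1 R w, mul_inv_cancel_right]
    have h3 := hn x₁ h.x₁_act.comm_z _ hb
    rw [h2] at h3
    have h4 := hab _ hb _ h3
    rw [evQ_mul R, evQ_mul R] at h4
    rw [evQ_inj h h4] at h1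
    have : Qt.beq (w.x1.mul w) (w.x1.mul w) = true := by
      have := T.beq_self (qt (w.x1.mul w))
      unfold T.beq qt at this
      simp only [Bool.and_eq_true] at this
      exact this.1
    rw [this] at h1
    exact Bool.noConfusion h1
  · exfalso
    have h2 : x₂ * w.ev z i j k l * x₂⁻¹ = w.x2.ev z i j k l := by
      rw [ax2 R w, mul_inv_cancel_right]
    have h3 := hn x₂ h.x₂_act.comm_z _ hb
    rw [h2] at h3
    have h4 := hab _ hb _ h3
    rw [evQ_mul R, evQ_mul R] at h4
    rw [evQ_inj h h4] at h1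
    have : Qt.beq (w.x2.mul w) (w.x2.mul w) = true := by
      have := T.beq_self (qt (w.x2.mul w))
      unfold T.beq qt at this
      simp only [Bool.and_eq_true] at this
      exact this.1
    rw [this] at h1
    exact Bool.noConfusion h1

theorem odd_of_cube {x : G} (h : x ^ 3 = 1) : Odd (orderOf x) := by
  have h1 : orderOf x ∣ 3 := orderOf_dvd_of_pow_eq_one h
  exact Odd.of_dvd_nat (by decide) h1

/-- `z ∈ O²(C(z))` -/
theorem oz (h : Tw Q z i j k l x₁ x₂ y s) :
    z ∈ closure {x : G | x * z = z * x ∧ Odd (orderOf x)} := by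
  have R := h.rules
  have m1 : x₁ ∈ closure {x : G | x * z = z * x ∧ Odd (orderOf x)} :=
    subset_closure ⟨h.x₁_act.comm_z, odd_of_cube h.x₁3⟩
  have ci : i * z = z * i := R.zi
  have m2 : i * x₁ * i⁻¹ ∈ closure {x : G | x * z = z * x ∧ Odd (orderOf x)} := by
    refine subset_closure ⟨?_, odd_of_cube ?_⟩
    · have h1 : Commute z i := ci.symm
      have h2 : Commute z x₁ := h.x₁_act.comm_z.symm
      exact ((h1.mul_right h2).mul_right h1.inv_right).eq.symm
    · rw [conj_pow, h.x₁3, mul_one, mul_inv_cancel]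
  have e : x₁ * (i * x₁ * i⁻¹)⁻¹ = i * j := by
    have h1 : x₁ * i * x₁⁻¹ = j := h.x₁_act.i
    have h2 : i⁻¹ = i * z := by
      rw [inv_eq_iff_mul_eq_one, ← mul_assoc, h.ii, h.large.z_sq]
    calc x₁ * (i * x₁ * i⁻¹)⁻¹ = (x₁ * i * x₁⁻¹) * i⁻¹ := by group
      _ = j * (i * z) := by rw [h1, h2]
      _ = (j * i) * z := by rw [mul_assoc]
      _ = i * j * (z * z) := by rw [h.ji]; simp only [mul_assoc]
      _ = i * j := by rw [h.large.z_sq, mul_one]
  have e2 : i * j * (i * j) = z := by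
    calc i * j * (i * j) = i * (j * i) * j := by simp only [mul_assoc]
      _ = i * i * (j * z) * j := by rw [h.ji]; simp only [mul_assoc]
      _ = z * (z * j) * j := by rw [h.ii, R.zj]
      _ = (z * z) * (j * j) := by simp only [mul_assoc]
      _ = z := by rw [h.large.z_sq, h.jj, one_mul]
  have m3 := mul_mem m1 (inv_mem m2)
  have m4 := mul_mem m3 m3
  rw [e, e2] at m4
  exact m4

/-- `C(z)` is generated by involutions. -/
theorem gen [Finite G] (h : Tw Q z i j k l x₁ x₂ y s) (g : G) (hg : g * z = z * g) :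
    g ∈ closure {p : G | p * z = z * p ∧ p * p = 1} := by
  have R := h.rules
  have hc := mem_centralizer_singleton_iff.2 hg
  rw [h.cent] at hc
  refine (closure_le _).2 ?_ hc
  have hin : ∀ t : T, T.beq (mu t t) T.one = true →
      t.ev z i j k l x₁ x₂ y s ∈ closure {p : G | p * z = z * p ∧ p * p = 1} := by
    intro t ht
    refine subset_closure ⟨ev_comm R t, ?_⟩
    rw [ev_mul R]
    have h1 : mu t t = T.one := T.eq_of_beq ht
    have h2 : T.mul true false true t t = T.one := h1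
    rw [h2, ev_one]
  have emul : ∀ t u : T, t.ev z i j k l x₁ x₂ y s * u.ev z i j k l x₁ x₂ y s =
      (mu t u).ev z i j k l x₁ x₂ y s := fun t u => ev_mul R t u
  have hmul : ∀ t u : T, t.ev z i j k l x₁ x₂ y s ∈ closure {p : G | p * z = z * p ∧ p * p = 1} →
      u.ev z i j k l x₁ x₂ y s ∈ closure {p : G | p * z = z * p ∧ p * p = 1} →
      (mu t u).ev z i j k l x₁ x₂ y s ∈ closure {p : G | p * z = z * p ∧ p * p = 1} := by
    intro t u ht hu
    rw [← emul]
    exact mul_mem ht hu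
  have fin : ∀ t u : T, T.beq t u = true → t.ev z i j k l x₁ x₂ y s ∈ closure {p : G | p * z = z * p ∧ p * p = 1} →
      u.ev z i j k l x₁ x₂ y s ∈ closure {p : G | p * z = z * p ∧ p * p = 1} := by
    intro t u htu ht
    rw [← T.eq_of_beq htu]; exact ht
  -- involutions
  have v1 := hin (mu ti tk) (by decide +kernel)
  have v2 := hin (mu tj tk) (by decide +kernel)
  have v3 := hin (mu ti tl) (by decide +kernel)
  have v4 := hin (mu (mu ti tj) tk) (by decide +kernel)
  have vz := hin tz (by decide +kernel)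
  have vs := hin ts (by decide +kernel)
  have vys := hin (mu ty ts) (by decide +kernel)
  have v5 := hin (mu ts (mu tx₁ (mu tx₂ tx₂))) (by decide +kernel)
  have v6 := hin (mu (mu ty ts) (mu tx₁ tx₂)) (by decide +kernel)
  have v7 := hin (mu (mu ti tj) tl) (by decide +kernel)
  have mij := fin _ (mu ti tj) (by decide +kernel) (hmul _ _ (hmul _ _ v1 v2) vz)
  have mk := fin _ tk (by decide +kernel) (hmul _ _ (hmul _ _ mij vz) v4)
  have ml := fin _ tl (by decide +kernel) (hmul _ _ (hmul _ _ mij vz) v7)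
  have mi := fin _ ti (by decide +kernel) (hmul _ _ (hmul _ _ v1 mk) vz)
  have mj := fin _ tj (by decide +kernel) (hmul _ _ (hmul _ _ v2 mk) vz)
  have my := fin _ ty (by decide +kernel) (hmul _ _ vys vs)
  have w5 := fin _ (mu tx₁ (mu tx₂ tx₂)) (by decide +kernel) (hmul _ _ vs v5)
  have w6 := fin _ (mu tx₁ tx₂) (by decide +kernel) (hmul _ _ vys v6)
  have w7 := fin _ (mu tx₁ tx₁) (by decide +kernel) (hmul _ _ w5 w6)
  have mx₁ := fin _ tx₁ (by decide +kernel) (hmul _ _ w7 w7)
  have mx₂ := fin _ tx₂ (by decide +kernel) (hmul _ _ w7 w6)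
  rw [ev_k] at mk
  rw [ev_l] at ml
  rw [ev_i] at mi
  rw [ev_j] at mj
  rw [ev_y] at my
  rw [ev_s] at vs
  rw [ev_x₁] at mx₁
  rw [ev_x₂] at mx₂
  intro x hx
  simp only [Set.mem_insert_iff, Set.mem_singleton_iff] at hx
  rcases hx with rfl | rfl | rfl | rfl | rfl | rfl | rfl | rfl
  · exact mi
  · exact mj
  · exact mk
  · exact ml
  · exact mx₁
  · exact mx₂
  · exact my
  · exact vs

/-- `s ∉ Q` -/
theorem s_not [Finite G] (h : Tw Q z i j k l x₁ x₂ y s) : s ∉ Q := by
  intro hs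
  obtain ⟨w, hw⟩ := exists_qt h hs
  have h1 : ts = qt w := by
    apply ev_inj h.toCase9aa h.rules
    show ts.ev z i j k l x₁ x₂ y s = (qt w).ev z i j k l x₁ x₂ y s
    rw [ev_qt, ← hw, ev_s]
  exact Bool.noConfusion (congrArg T.f h1 : true = false)

/-- `U₄(3)`: the facts. -/
theorem two_of_tw [Finite G] (h : Tw Q z i j k l x₁ x₂ y s) (hs : IsConj z s)
    (odd : Odd (centralizer ({z} : Set G)).index)
    (one : ∀ p : G, p * p = 1 → p ≠ 1 → ∃ k, k * z * k⁻¹ = p) : Two z Q := by
  have R := h.rules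
  refine { zz := h.large.z_sq, z1 := h.large.z_ne, odd := odd, zR := h.large.z_mem,
           pR := LargeExtra.Base.isPGroup h.large, RP := fun r hr => h.large.comm_z r hr,
           nR := fun g hg r hr => h.large.conj_mem g hg r hr,
           max := fun N h1 h2 h3 => U43Tw.le_of_act h.toPlus h.x₁_act h.x₂_act N
             (fun n hn => mem_centralizer_singleton_iff.2 (h2 n hn))
             (fun c hc n hn => h3 c (mem_centralizer_singleton_iff.1 hc) n hn) h1,
           cR := fun g hg hr => h.large.cent g (h.large.self g hg hr) hr, ab := ab h, oz := oz h, one := one, gen := gen h, ex := ?_ }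
  · obtain ⟨d, hd⟩ := exists_del h hs
    refine ⟨s, d, h.sz, R.zs, hd.dz, ?_, ?_⟩
    · intro hn
      have h1 : d⁻¹ * z * d = s * z := by
        have h2 : d * (s * z) * d⁻¹ = z := by
          calc d * (s * z) * d⁻¹ = (d * s * d⁻¹) * (d * z * d⁻¹) := by group
            _ = s * z * s := by rw [hd.ds, hd.dz]
            _ = z := by coll R
        calc d⁻¹ * z * d = d⁻¹ * (d * (s * z) * d⁻¹) * d := by rw [h2]
          _ = s * z := by group
      rw [h1] at hn
      have h2 := mul_mem hn h.large.z_mem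
      rw [mul_assoc, h.large.z_sq, mul_one] at h2
      exact s_not h h2
    · intro r hr h2
      obtain ⟨w, rfl⟩ := exists_qt h hr
      have h1 := allQ_spec chkB w
      have e1 : s * w.ev z i j k l = (mu ts (qt w)).ev z i j k l x₁ x₂ y s := by
        rw [mu, ← ev_mul R, ev_s, ev_qt]
      rw [Bool.or_eq_true, Bool.not_eq_true'] at h1
      rcases h1 with h1 | h1
      · exfalso
        rw [e1, ev_mul R] at h2
        have h3 : mu (mu ts (qt w)) (mu ts (qt w)) = T.one := by
          apply ev_inj h.toCase9aa R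
          show (mu (mu ts (qt w)) (mu ts (qt w))).ev z i j k l x₁ x₂ y s = T.one.ev z i j k l x₁ x₂ y s
          rw [ev_one]; exact h2
        rw [h3, T.beq_self] at h1
        exact Bool.noConfusion h1
      · obtain ⟨c, -, hc⟩ := anyL_mem h1
        have h3 := T.eq_of_beq hc
        refine ⟨c.ev z i j k l x₁ x₂ y s, ev_comm R c, ?_⟩
        rw [e1, mul_inv_eq_iff_eq_mul]
        calc c.ev z i j k l x₁ x₂ y s * (mu ts (qt w)).ev z i j k l x₁ x₂ y s
            = (mu c (mu ts (qt w))).ev z i j k l x₁ x₂ y s := ev_mul R _ _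
          _ = (mu ts c).ev z i j k l x₁ x₂ y s := by rw [h3]
          _ = s * c.ev z i j k l x₁ x₂ y s := by rw [mu, ← ev_mul R, ev_s]

/-- **`U₄(3)`.** -/
theorem exists_two {F : Type*} [Field F] [Fintype F] (hF : Fintype.card F = 9) :
    ∃ (z : Cfsg.PSU 4 F 3) (Q : Subgroup (Cfsg.PSU 4 F 3)), Two z Q := by
  have : Fact (Nat.Prime 3) := ⟨Nat.prime_three⟩
  have : CharP F 3 := charP_of_card_eq_prime_pow (f := 2) (by rw [hF]; norm_num)
  have : Finite (Cfsg.PSU 4 F 3) := inferInstance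
  obtain ⟨i, j, k, l, x₁, x₂, y, s, h, hs, -⟩ := U43Tw.exists_tw (F := F) hF
  have hcls := U43Tw.one_class (F := F) hF
  exact ⟨_, _, two_of_tw h hs (U43Tw.odd_index (by rw [U43Tw.card_K hF]; norm_num) hcls) hcls⟩

end Cfsg.Agent.OddHalf.D6.QThree.U43Facts

private theorem dce_d30ec2d2ba7c : _root_.True := by
  try have : _root_.True := by simp only [_root_.Cfsg.Agent.LargeExtra.W2.U43.ExistsD.mu.eq_1]
  try have : _root_.True := by simp only [_root_.Cfsg.Agent.OddHalf.D6.QThree.U43Facts.qt.eq_1]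
  exact _root_.True.intro
end

-- part: OddHalf/D6/QThree/PumpKnown
section
prune_inst 0x4303075647522020000000592830020247c00019000208000a9a00b060b09c320890229400e801100006eb28010040028170810d4620000000a00300000070521802a920411500d04260009801085000000000000000000000000000000000004200000000
set_option linter.all false
open scoped Cfsg.Agent.FastGrp

-- part: OddHalf/D6/QThree/PumpHyp
section
/-!
# The pump-up fact of the row `U₄(3)` / `L₄(3)`: the order bounds for the heavy families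

`Big P`: every group with the property `P` whose order is divisible by `25920 = |PSp₄(3)|` has order larger than
`6531840 = |2.U₄(3)|` (and `6065280 = |L₄(3)|`). The bounds for the sporadic groups and the Tits group are collected in `SpOrd`, those for the
other exceptional families in `ExcOrd`; they are proved one by one in `PumpOrd/*.lean`.
-/

set_option autoImplicit false

namespace Cfsg.Agent.OddHalf.D6.QThree.Pump

universe u

/-- Every group with property `P` and order divisible by `25920` has order larger than `6531840`. -/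
def Big (P : ∀ (G : Type u) [Group G], Prop) : Prop :=
  ∀ (G : Type u) [Group G], P G → 25920 ∣ Nat.card G → 6531840 < Nat.card G

/-- the bound for each sporadic group and for the Tits group -/
structure SpOrd : Prop where
  m11 : Big.{u} (fun G _ => Spor.IsoM11 G)
  m12 : Big.{u} (fun G _ => Spor.IsoM12 G)
  m22 : Big.{u} (fun G _ => Spor.IsoM22 G)
  m23 : Big.{u} (fun G _ => Spor.IsoM23 G)
  m24 : Big.{u} (fun G _ => Spor.IsoM24 G)
  j1 : Big.{u} (fun G _ => Spor.IsoJ1 G)
  j2 : Big.{u} (fun G _ => Spor.IsoJ2 G)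
  j3 : Big.{u} (fun G _ => Spor.IsoJ3 G)
  j4 : Big.{u} (fun G _ => Spor.IsoJ4 G)
  co1 : Big.{u} (fun G _ => Spor.IsoCo1 G)
  co2 : Big.{u} (fun G _ => Spor.IsoCo2 G)
  co3 : Big.{u} (fun G _ => Spor.IsoCo3 G)
  mcl : Big.{u} (fun G _ => Spor.IsoMcL G)
  hs : Big.{u} (fun G _ => Spor.IsoHS G)
  suz : Big.{u} (fun G _ => Spor.IsoSuz G)
  he : Big.{u} (fun G _ => Spor.IsoHe G)
  ru : Big.{u} (fun G _ => Spor.IsoRu G)
  on : Big.{u} (fun G _ => Spor.IsoON G)
  ly : Big.{u} (fun G _ => Spor.IsoLy G)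
  fi22 : Big.{u} (fun G _ => Spor.IsoFi22 G)
  fi23 : Big.{u} (fun G _ => Spor.IsoFi23 G)
  fi24 : Big.{u} (fun G _ => Spor.IsoFi24' G)
  hn : Big.{u} (fun G _ => Spor.IsoHN G)
  th : Big.{u} (fun G _ => Spor.IsoTh G)
  b : Big.{u} (fun G _ => Spor.IsoB G)
  m : Big.{u} (fun G _ => Spor.IsoM G)
  tits : Big.{u} (fun G _ => Lie.IsoTits G)

/-- the bound for each other exceptional family -/
structure ExcOrd : Prop where
  g2 : Big.{u} (fun G _ => Lie.IsoChevG2 G)
  f4 : Big.{u} (fun G _ => Lie.IsoF4 G)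
  e6 : Big.{u} (fun G _ => Lie.IsoChevE6 G)
  e7 : Big.{u} (fun G _ => Lie.IsoE7 G)
  e8 : Big.{u} (fun G _ => Lie.IsoE8 G)
  te6 : Big.{u} (fun G _ => Lie.Iso2E6 G)
  td4 : Big.{u} (fun G _ => Lie.Iso3D4 G)
  sz : Big.{u} (fun G _ => Lie.IsoSuzuki G)
  ree : Big.{u} (fun G _ => Lie.IsoRee G)
  tf4 : Big.{u} (fun G _ => Lie.Iso2F4 G)

theorem SpOrd.sporadic (h : SpOrd.{u}) {G : Type u} [Group G] (hG : IsSporadicGroup G)
    (hd : 25920 ∣ Nat.card G) : 6531840 < Nat.card G := by
  rcases hG with h1 | h1 | h1 | h1 | h1 | h1 | h1 | h1 | h1 | h1 | h1 | h1 | h1 | h1 | h1 | h1 | h1 |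
    h1 | h1 | h1 | h1 | h1 | h1 | h1 | h1 | h1
  · exact h.m11 G h1 hd
  · exact h.m12 G h1 hd
  · exact h.m22 G h1 hd
  · exact h.m23 G h1 hd
  · exact h.m24 G h1 hd
  · exact h.j1 G h1 hd
  · exact h.j2 G h1 hd
  · exact h.j3 G h1 hd
  · exact h.j4 G h1 hd
  · exact h.co1 G h1 hd
  · exact h.co2 G h1 hd
  · exact h.co3 G h1 hd
  · exact h.mcl G h1 hd
  · exact h.hs G h1 hd
  · exact h.suz G h1 hd
  · exact h.he G h1 hd
  · exact h.ru G h1 hd
  · exact h.on G h1 hd
  · exact h.ly G h1 hd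
  · exact h.fi22 G h1 hd
  · exact h.fi23 G h1 hd
  · exact h.fi24 G h1 hd
  · exact h.hn G h1 hd
  · exact h.th G h1 hd
  · exact h.b G h1 hd
  · exact h.m G h1 hd

theorem exceptional (h : SpOrd.{u}) (h' : ExcOrd.{u}) {G : Type u} [Group G] (hG : IsExceptionalLieType G)
    (hd : 25920 ∣ Nat.card G) : 6531840 < Nat.card G := by
  rcases hG with h1 | h1 | h1 | h1 | h1 | h1 | h1 | h1 | h1 | h1 | h1
  · exact h'.g2 G h1 hd
  · exact h'.f4 G h1 hd
  · exact h'.e6 G h1 hd
  · exact h'.e7 G h1 hd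
  · exact h'.e8 G h1 hd
  · exact h'.te6 G h1 hd
  · exact h'.td4 G h1 hd
  · exact h'.sz G h1 hd
  · exact h'.ree G h1 hd
  · exact h'.tf4 G h1 hd
  · exact h.tits G h1 hd

end Cfsg.Agent.OddHalf.D6.QThree.Pump
end

-- part: OddHalf/D6/QThree/PumpKnown
section
-- merged: Cfsg.Agent.OddHalf.D6.QThree.PumpArith
section

/-!
# The pump-up fact: arithmetic of the order formulas of the classical families

For each classical family: the order formula together with `25920 ∣ c` and `c ≤ 6531840` leaves only finitely many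
parameters.
-/

set_option autoImplicit false

namespace Cfsg.Agent.OddHalf.D6.QThree.PumpArith

open Finset

/-! ### `PSL_n(q)` -/

theorem psl_two {q c : ℕ} (hq : 2 ≤ q) (h : Nat.gcd 2 (q - 1) * ((q - 1) * c) = (q ^ 2 - 1) * (q ^ 2 - q))
    (hd : 25920 ∣ c) (hc : c ≤ 6531840) : False := by
  obtain ⟨d, rfl⟩ : ∃ d, q = d + 1 := ⟨q - 1, by omega⟩
  have hd1 : 1 ≤ d := by omega
  have e1 : (d + 1) ^ 2 - 1 = d * (d + 2) := by
    have : (d + 1) ^ 2 = d * (d + 2) + 1 := by ring
    omega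
  have e2 : (d + 1) ^ 2 - (d + 1) = d * (d + 1) := by
    have : (d + 1) ^ 2 = d * (d + 1) + (d + 1) := by ring
    omega
  rw [e1, e2, Nat.add_sub_cancel] at h
  have h' : Nat.gcd 2 d * c = d * (d + 1) * (d + 2) := by
    apply Nat.eq_of_mul_eq_mul_left (show 0 < d by omega)
    calc d * (Nat.gcd 2 d * c) = Nat.gcd 2 d * (d * c) := by ring
      _ = d * (d + 2) * (d * (d + 1)) := h
      _ = _ := by ring
  have hb : d * d * d ≤ 13063680 := by
    have h1 : d * d * d ≤ d * (d + 1) * (d + 2) := by linarith only [_root_.mul_self_nonneg (↑d : ℤ)]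
    have h2 : Nat.gcd 2 d * c ≤ 2 * c := Nat.mul_le_mul_right _ (Nat.gcd_le_left _ (by norm_num))
    omega
  have hd236 : d < 236 := by
    by_contra hcon
    have h3 : 236 ≤ d := by omega
    have h4 : 236 * 236 * 236 ≤ d * d * d := Nat.mul_le_mul (Nat.mul_le_mul h3 h3) h3
    omega
  have hm : Nat.gcd 2 d * 25920 ∣ d * (d + 1) * (d + 2) := by
    rw [← h']
    exact Nat.mul_dvd_mul_left _ hd
  have key : ∀ d < 236, 1 ≤ d → ¬ (Nat.gcd 2 d * 25920 ∣ d * (d + 1) * (d + 2)) := by
    decide +kernel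
  exact key d hd236 hd1 hm

theorem psl_ge {n q c : ℕ} (hn : 2 ≤ n) (hq : 2 ≤ q)
    (h : Nat.gcd n (q - 1) * ((q - 1) * c) = ∏ i : Fin n, (q ^ n - q ^ (i : ℕ))) :
    q ^ (n * (n - 1)) * (q - 1) ^ (n - 2) ≤ c := by
  obtain ⟨d, rfl⟩ : ∃ d, q = d + 1 := ⟨q - 1, by omega⟩
  rw [Nat.add_sub_cancel] at *
  have h1 : ((d + 1) ^ (n - 1) * d) ^ n ≤ ∏ i : Fin n, ((d + 1) ^ n - (d + 1) ^ (i : ℕ)) := by
    calc ((d + 1) ^ (n - 1) * d) ^ n = ∏ _i : Fin n, ((d + 1) ^ (n - 1) * d) := by simp only [_root_.Finset.prod_const, _root_.Finset.card_univ, _root_.Fintype.card_fin]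
      _ ≤ _ := by
        apply Finset.prod_le_prod'
        intro i _
        have h2 : (d + 1) ^ (i : ℕ) ≤ (d + 1) ^ (n - 1) := Nat.pow_le_pow_right (by omega) (by omega)
        have h3 : (d + 1) ^ n = (d + 1) ^ (n - 1) * d + (d + 1) ^ (n - 1) := by
          conv_lhs => rw [show n = (n - 1) + 1 by omega, pow_succ]
          ring
        omega
  have h2 : Nat.gcd n d * (d * c) ≤ d * (d * c) := Nat.mul_le_mul_right _ (Nat.gcd_le_right _ (by omega))
  have h3 : ((d + 1) ^ (n - 1) * d) ^ n = (d * d) * ((d + 1) ^ (n * (n - 1)) * d ^ (n - 2)) := by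
    rw [mul_pow, ← pow_mul, mul_comm (n - 1) n]
    conv_lhs => rw [show d ^ n = d ^ (n - 2 + 2) by congr 1; omega, pow_add]
    ring
  have h4 : (d * d) * ((d + 1) ^ (n * (n - 1)) * d ^ (n - 2)) ≤ (d * d) * c := by
    calc _ = ((d + 1) ^ (n - 1) * d) ^ n := h3.symm
      _ ≤ _ := h1
      _ = Nat.gcd n d * (d * c) := h.symm
      _ ≤ d * (d * c) := h2
      _ = _ := by ring
  exact Nat.le_of_mul_le_mul_left h4 (Nat.mul_pos (by omega) (by omega))

theorem psl {n q c : ℕ} (hn : 2 ≤ n) (hq : 2 ≤ q)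
    (h : Nat.gcd n (q - 1) * ((q - 1) * c) = ∏ i : Fin n, (q ^ n - q ^ (i : ℕ)))
    (hd : 25920 ∣ c) (hc : c ≤ 6531840) : n = 4 ∧ q = 3 := by
  have hge := psl_ge hn hq h
  have hn5 : n < 6 := by
    by_contra hcon
    have h6 : 6 ≤ n := by omega
    have h1 : 30 ≤ n * (n - 1) := by
      calc 30 = 6 * 5 := by norm_num
        _ ≤ n * (n - 1) := Nat.mul_le_mul h6 (by omega)
    have h2 : 2 ^ 30 ≤ q ^ (n * (n - 1)) :=
      (Nat.pow_le_pow_right (by norm_num) h1).trans (Nat.pow_le_pow_left hq _)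
    have h3 : 1 ≤ (q - 1) ^ (n - 2) := Nat.one_le_pow _ _ (by omega)
    have h4 : 2 ^ 30 * 1 ≤ q ^ (n * (n - 1)) * (q - 1) ^ (n - 2) := Nat.mul_le_mul h2 h3
    omega
  interval_cases n
  · exfalso
    apply psl_two hq _ hd hc
    rw [h]
    simp only [Fin.prod_univ_succ, _root_.Fin.isValue, _root_.Fin.coe_ofNat_eq_mod, _root_.Nat.zero_mod, _root_.pow_zero, _root_.Finset.univ_unique, _root_.Fin.default_eq_zero, _root_.Fin.val_succ, _root_.Fin.val_eq_zero, _root_.zero_add, _root_.pow_one, _root_.Finset.prod_const, _root_.Finset.card_singleton]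
  · exfalso
    have hq9 : q < 10 := by
      by_contra hcon
      have h1 : 10 ≤ q := by omega
      have h2 : 10 ^ 6 * 9 ^ 1 ≤ q ^ 6 * (q - 1) ^ 1 :=
        Nat.mul_le_mul (Nat.pow_le_pow_left h1 _) (Nat.pow_le_pow_left (by omega) _)
      norm_num only [_root_.pow_one] at h2 hge
      omega
    interval_cases q <;> simp only [Fin.prod_univ_succ, _root_.Nat.add_one_sub_one, _root_.Nat.gcd_one_right, _root_.one_mul, _root_.Nat.reducePow, _root_.Fin.isValue, _root_.Fin.coe_ofNat_eq_mod, _root_.Nat.zero_mod, _root_.pow_zero, _root_.Fin.val_succ, _root_.zero_add, _root_.pow_one, _root_.Nat.reduceSub, _root_.Finset.univ_unique, _root_.Fin.default_eq_zero, _root_.Fin.val_eq_zero, _root_.Nat.reduceAdd, _root_.Finset.prod_const, _root_.Finset.card_singleton, _root_.Nat.reduceMul, _root_.Nat.reduceGcd, _root_.Nat.gcd_self] at h <;> (clear * - hd h hc hge; omega)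
  · have hq4 : q < 4 := by
      by_contra hcon
      have h1 : 4 ≤ q := by omega
      have h2 : 4 ^ 12 * 3 ^ 2 ≤ q ^ 12 * (q - 1) ^ 2 :=
        Nat.mul_le_mul (Nat.pow_le_pow_left h1 _) (Nat.pow_le_pow_left (by omega) _)
      norm_num only [] at h2 hge
      omega
    interval_cases q
    · exfalso
      simp only [Fin.prod_univ_succ, _root_.Nat.add_one_sub_one, _root_.Nat.gcd_one_right, _root_.one_mul, _root_.Nat.reducePow, _root_.Fin.isValue, _root_.Fin.coe_ofNat_eq_mod, _root_.Nat.zero_mod, _root_.pow_zero, _root_.Fin.val_succ, _root_.zero_add, _root_.pow_one, _root_.Nat.reduceSub, _root_.Nat.reduceAdd, _root_.Finset.univ_unique, _root_.Fin.default_eq_zero, _root_.Fin.val_eq_zero, _root_.Finset.prod_const, _root_.Finset.card_singleton, _root_.Nat.reduceMul] at h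
      omega
    · exact ⟨rfl, rfl⟩
  · exfalso
    have hq3 : q < 3 := by
      by_contra hcon
      have h1 : 3 ≤ q := by omega
      have h2 : 3 ^ 20 * 2 ^ 3 ≤ q ^ 20 * (q - 1) ^ 3 :=
        Nat.mul_le_mul (Nat.pow_le_pow_left h1 _) (Nat.pow_le_pow_left (by omega) _)
      norm_num only [] at h2 hge
      omega
    interval_cases q
    simp only [Fin.prod_univ_succ, _root_.Nat.add_one_sub_one, _root_.Nat.gcd_one_right, _root_.one_mul, _root_.Nat.reducePow, _root_.Fin.isValue, _root_.Fin.coe_ofNat_eq_mod, _root_.Nat.zero_mod, _root_.pow_zero, _root_.Fin.val_succ, _root_.zero_add, _root_.pow_one, _root_.Nat.reduceSub, _root_.Nat.reduceAdd, _root_.Finset.univ_unique, _root_.Fin.default_eq_zero, _root_.Fin.val_eq_zero, _root_.Finset.prod_const, _root_.Finset.card_singleton, _root_.Nat.reduceMul] at h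
    omega

/-! ### symplectic orders -/

theorem sp_ge {m q : ℕ} (hq : 2 ≤ q) :
    q ^ (m ^ 2) ≤ ∏ i ∈ range m, (q ^ (2 * (i + 1)) - 1) := by
  have h1 : ∏ i ∈ range m, q ^ (2 * i + 1) ≤ ∏ i ∈ range m, (q ^ (2 * (i + 1)) - 1) := by
    apply Finset.prod_le_prod'
    intro i _
    have h2 : q ^ (2 * (i + 1)) = q ^ (2 * i + 1) * q := by
      rw [show 2 * (i + 1) = 2 * i + 1 + 1 by ring, pow_succ]
    have h3 : 1 ≤ q ^ (2 * i + 1) := Nat.one_le_pow _ _ (by omega)
    have h4 : q ^ (2 * i + 1) * 2 ≤ q ^ (2 * i + 1) * q := Nat.mul_le_mul_left _ hq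
    omega
  refine le_trans (le_of_eq ?_) h1
  rw [Finset.prod_pow_eq_pow_sum]
  congr 1
  induction m with
  | zero => simp
  | succ m ih =>
    rw [Finset.sum_range_succ, ← ih]
    · ring
    · exact (Finset.prod_le_prod' (fun i _ => by
        have h2 : q ^ (2 * (i + 1)) = q ^ (2 * i + 1) * q := by
          rw [show 2 * (i + 1) = 2 * i + 1 + 1 by ring, pow_succ]
        have h3 : 1 ≤ q ^ (2 * i + 1) := Nat.one_le_pow _ _ (by omega)
        have h4 : q ^ (2 * i + 1) * 2 ≤ q ^ (2 * i + 1) * q := Nat.mul_le_mul_left _ hq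
        omega))

theorem sp {m q c : ℕ} (hm : 2 ≤ m) (hq : 2 ≤ q) (h3 : m = 2 → 3 ≤ q)
    (h : Nat.gcd 2 (q - 1) * c = q ^ (m ^ 2) * ∏ i ∈ range m, (q ^ (2 * (i + 1)) - 1))
    (hd : 25920 ∣ c) (hc : c ≤ 6531840) : (m = 2 ∧ q = 3) ∨ (m = 3 ∧ q = 2) := by
  have hge : q ^ (2 * m ^ 2) ≤ 2 * c := by
    calc q ^ (2 * m ^ 2) = q ^ (m ^ 2) * q ^ (m ^ 2) := by rw [two_mul, pow_add]
      _ ≤ q ^ (m ^ 2) * ∏ i ∈ range m, (q ^ (2 * (i + 1)) - 1) := Nat.mul_le_mul_left _ (sp_ge hq)
      _ = _ := h.symm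
      _ ≤ 2 * c := Nat.mul_le_mul_right _ (Nat.gcd_le_left _ (by norm_num))
  have hm4 : m < 4 := by
    by_contra hcon
    have h1 : 32 ≤ 2 * m ^ 2 := by nlinarith only [hcon]
    have h2 : 2 ^ 32 ≤ q ^ (2 * m ^ 2) :=
      (Nat.pow_le_pow_right (by norm_num) h1).trans (Nat.pow_le_pow_left hq _)
    omega
  interval_cases m
  · have hq8 : q < 8 := by
      by_contra hcon
      have h2 : 8 ^ 8 ≤ q ^ 8 := Nat.pow_le_pow_left (by omega) _
      norm_num at h2 hge
      omega
    have h33 := h3 rfl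
    interval_cases q
    · exact Or.inl ⟨rfl, rfl⟩
    all_goals
      exfalso
      simp only [Finset.prod_range_succ, _root_.Nat.add_one_sub_one, _root_.Nat.reduceGcd, _root_.one_mul, _root_.Nat.reducePow, _root_.Finset.range_one, _root_.Finset.prod_singleton, _root_.zero_add, _root_.mul_one, _root_.Nat.reduceAdd, _root_.Nat.reduceMul] at h
      (clear * - hd h hc hge; omega)
  · have hq3 : q < 3 := by
      by_contra hcon
      have h2 : 3 ^ 18 ≤ q ^ 18 := Nat.pow_le_pow_left (by omega) _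
      norm_num at h2 hge
      omega
    interval_cases q
    exact Or.inr ⟨rfl, rfl⟩

/-! ### orthogonal orders -/

theorem odd {m q c : ℕ} (hm : 3 ≤ m) (hq : 3 ≤ q)
    (h : 2 * c = q ^ (m ^ 2) * ∏ i ∈ range m, (q ^ (2 * (i + 1)) - 1)) : 6531840 < c := by
  have hge : q ^ (2 * m ^ 2) ≤ 2 * c := by
    calc q ^ (2 * m ^ 2) = q ^ (m ^ 2) * q ^ (m ^ 2) := by rw [two_mul, pow_add]
      _ ≤ q ^ (m ^ 2) * ∏ i ∈ range m, (q ^ (2 * (i + 1)) - 1) := Nat.mul_le_mul_left _ (sp_ge (by omega))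
      _ = _ := h.symm
  have h1 : 18 ≤ 2 * m ^ 2 := by nlinarith only [hm]
  have h2 : 3 ^ 18 ≤ q ^ (2 * m ^ 2) :=
    (Nat.pow_le_pow_right (by norm_num) h1).trans (Nat.pow_le_pow_left hq _)
  norm_num at h2
  omega

/-- `q ^ (m(m-1)) * x * ∏_{i<m-1}` with `x ≥ 15`, `q ^ m - 1 ≤ x`. -/
theorem even_aux {m q x c g : ℕ} (hm : 4 ≤ m) (hq : 2 ≤ q) (hx : 15 ≤ x) (hg : g ≤ 4)
    (h : g * c = q ^ (m * (m - 1)) * x * ∏ i ∈ range (m - 1), (q ^ (2 * (i + 1)) - 1)) : 6531840 < c := by
  have h1 : 12 ≤ m * (m - 1) := by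
    calc 12 = 4 * 3 := by norm_num
      _ ≤ m * (m - 1) := Nat.mul_le_mul hm (by omega)
  have h2 : 2 ^ 12 ≤ q ^ (m * (m - 1)) :=
    (Nat.pow_le_pow_right (by norm_num) h1).trans (Nat.pow_le_pow_left hq _)
  have h3 : 2 ^ 9 ≤ ∏ i ∈ range (m - 1), (q ^ (2 * (i + 1)) - 1) := by
    refine le_trans ?_ (sp_ge hq)
    have h4 : 9 ≤ (m - 1) ^ 2 := by
      have : 3 ≤ m - 1 := by omega
      nlinarith only [this]
    exact (Nat.pow_le_pow_right (by norm_num) h4).trans (Nat.pow_le_pow_left hq _)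
  have h5 : 2 ^ 12 * 15 * 2 ^ 9 ≤ g * c := by
    rw [h]
    exact Nat.mul_le_mul (Nat.mul_le_mul h2 hx) h3
  have h6 : g * c ≤ 4 * c := Nat.mul_le_mul_right _ hg
  norm_num at h5
  omega

theorem plus {m q c : ℕ} (hm : 4 ≤ m) (hq : 2 ≤ q)
    (h : Nat.gcd 4 (q ^ m - 1) * c = q ^ (m * (m - 1)) * (q ^ m - 1) * ∏ i ∈ range (m - 1), (q ^ (2 * (i + 1)) - 1)) :
    6531840 < c := by
  refine even_aux hm hq ?_ (Nat.gcd_le_left _ (by norm_num)) h
  have h2 : 2 ^ 4 ≤ q ^ m := (Nat.pow_le_pow_right (by norm_num) hm).trans (Nat.pow_le_pow_left hq _)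
  omega

theorem minus {m q c : ℕ} (hm : 4 ≤ m) (hq : 2 ≤ q)
    (h : Nat.gcd 4 (q ^ m + 1) * c = q ^ (m * (m - 1)) * (q ^ m + 1) * ∏ i ∈ range (m - 1), (q ^ (2 * (i + 1)) - 1)) :
    6531840 < c := by
  refine even_aux hm hq ?_ (Nat.gcd_le_left _ (by norm_num)) h
  have h2 : 2 ^ 4 ≤ q ^ m := (Nat.pow_le_pow_right (by norm_num) hm).trans (Nat.pow_le_pow_left hq _)
  omega

/-! ### unitary orders -/

theorem psu_ge {n q : ℕ} (hq : 2 ≤ q) :
    q ^ (n * (n - 1) / 2) ≤ ∏ i ∈ range n, (if Even i then q ^ (i + 1) + 1 else q ^ (i + 1) - 1) := by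
  have h1 : ∏ i ∈ range n, q ^ i ≤
      ∏ i ∈ range n, (if Even i then q ^ (i + 1) + 1 else q ^ (i + 1) - 1) := by
    apply Finset.prod_le_prod'
    intro i _
    have h2 : q ^ (i + 1) = q ^ i * q := pow_succ _ _
    have h3 : 1 ≤ q ^ i := Nat.one_le_pow _ _ (by omega)
    have h4 : q ^ i * 2 ≤ q ^ i * q := Nat.mul_le_mul_left _ hq
    split_ifs <;> omega
  refine le_trans (le_of_eq ?_) h1
  rw [Finset.prod_pow_eq_pow_sum, Finset.sum_range_id]

theorem psu {n q c : ℕ} (hn : 3 ≤ n) (hq : 2 ≤ q) (h32 : ¬ (n = 3 ∧ q = 2))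
    (h : Nat.gcd n (q + 1) * ((q + 1) * c) =
      q ^ (n * (n - 1) / 2) * ∏ i ∈ range n, (if Even i then q ^ (i + 1) + 1 else q ^ (i + 1) - 1))
    (hd : 25920 ∣ c) (hc : c ≤ 6531840) : (n = 4 ∧ q = 2) ∨ (n = 4 ∧ q = 3) := by
  have hge : q ^ (2 * (n * (n - 1) / 2)) ≤ (q + 1) * ((q + 1) * c) := by
    calc q ^ (2 * (n * (n - 1) / 2)) = q ^ (n * (n - 1) / 2) * q ^ (n * (n - 1) / 2) := by
          rw [two_mul, pow_add]
      _ ≤ _ := Nat.mul_le_mul_left _ (psu_ge hq)
      _ = _ := h.symm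
      _ ≤ _ := Nat.mul_le_mul_right _ (Nat.gcd_le_right _ (by omega))
  have hn5 : n < 6 := by
    by_contra hcon
    have h1 : 15 ≤ n * (n - 1) / 2 := by
      rw [Nat.le_div_iff_mul_le (by norm_num)]
      calc 15 * 2 = 6 * 5 := by norm_num
        _ ≤ n * (n - 1) := Nat.mul_le_mul (by omega) (by omega)
    have h2 : q ^ 30 ≤ q ^ (2 * (n * (n - 1) / 2)) := Nat.pow_le_pow_right (by omega) (by omega)
    have h3 : q + 1 ≤ q * q := by nlinarith only [hq]
    have h4 : (q + 1) * ((q + 1) * c) ≤ q * q * (q * q * c) :=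
      Nat.mul_le_mul h3 (Nat.mul_le_mul h3 le_rfl)
    have h5 : q * q * (q * q * c) = q ^ 4 * c := by ring
    have h6 : q ^ 30 = q ^ 4 * q ^ 26 := by ring
    have h7 : q ^ 4 * q ^ 26 ≤ q ^ 4 * c := by omega
    have h8 : q ^ 26 ≤ c := Nat.le_of_mul_le_mul_left h7 (Nat.pow_pos (by omega))
    have h9 : 2 ^ 26 ≤ q ^ 26 := Nat.pow_le_pow_left hq _
    norm_num at h9
    omega
  interval_cases n
  · exfalso
    have e : ∏ i ∈ range 3, (if Even i then q ^ (i + 1) + 1 else q ^ (i + 1) - 1)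
        = (q + 1) * ((q ^ 2 - 1) * (q ^ 3 + 1)) := by
      have h1 : ¬ Even 1 := by decide
      have h2 : Even 2 := by decide
      simp only [Finset.prod_range_succ, Finset.prod_range_zero, Even.zero, if_true, h1, if_false, h2]
      ring
    have e2 : Nat.gcd 3 (q + 1) * c = q ^ 3 * ((q ^ 2 - 1) * (q ^ 3 + 1)) := by
      apply Nat.eq_of_mul_eq_mul_left (show 0 < q + 1 by omega)
      rw [e] at h
      calc (q + 1) * (Nat.gcd 3 (q + 1) * c) = Nat.gcd 3 (q + 1) * ((q + 1) * c) := by ring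
        _ = q ^ (3 * (3 - 1) / 2) * ((q + 1) * ((q ^ 2 - 1) * (q ^ 3 + 1))) := h
        _ = _ := by norm_num only []; ring
    have e3 : Nat.gcd 3 (q + 1) * c ≤ 3 * c := Nat.mul_le_mul_right _ (Nat.gcd_le_left _ (by norm_num))
    have hq9 : q < 9 := by
      by_contra hcon
      have h9 : 9 ≤ q := by omega
      have h1 : 9 ^ 3 ≤ q ^ 3 := Nat.pow_le_pow_left h9 _
      have h2 : 9 ^ 2 ≤ q ^ 2 := Nat.pow_le_pow_left h9 _
      have h3 : 9 ^ 3 * (80 * 730) ≤ q ^ 3 * ((q ^ 2 - 1) * (q ^ 3 + 1)) :=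
        Nat.mul_le_mul h1 (Nat.mul_le_mul (by omega) (by omega))
      norm_num only [] at h3
      omega
    interval_cases q
    · exact h32 ⟨rfl, rfl⟩
    all_goals
      norm_num only [_root_.one_mul] at e2
      (clear * - hd e2; omega)
  · have e : ∏ i ∈ range 4, (if Even i then q ^ (i + 1) + 1 else q ^ (i + 1) - 1)
        = (q + 1) * ((q ^ 2 - 1) * (q ^ 3 + 1) * (q ^ 4 - 1)) := by
      have h1 : ¬ Even 1 := by decide
      have h2 : Even 2 := by decide
      have h3 : ¬ Even 3 := by decide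
      simp only [Finset.prod_range_succ, Finset.prod_range_zero, Even.zero, if_true, h1, if_false, h2, h3]
      ring
    have e2 : Nat.gcd 4 (q + 1) * c = q ^ 6 * ((q ^ 2 - 1) * (q ^ 3 + 1) * (q ^ 4 - 1)) := by
      apply Nat.eq_of_mul_eq_mul_left (show 0 < q + 1 by omega)
      rw [e] at h
      calc (q + 1) * (Nat.gcd 4 (q + 1) * c) = Nat.gcd 4 (q + 1) * ((q + 1) * c) := by ring
        _ = q ^ (4 * (4 - 1) / 2) * ((q + 1) * ((q ^ 2 - 1) * (q ^ 3 + 1) * (q ^ 4 - 1))) := h
        _ = _ := by norm_num only []; ring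
    have e3 : Nat.gcd 4 (q + 1) * c ≤ 4 * c := Nat.mul_le_mul_right _ (Nat.gcd_le_left _ (by norm_num))
    have hq4 : q < 4 := by
      by_contra hcon
      have h9 : 4 ≤ q := by omega
      have h1 : 4 ^ 6 ≤ q ^ 6 := Nat.pow_le_pow_left h9 _
      have h2 : 4 ^ 2 ≤ q ^ 2 := Nat.pow_le_pow_left h9 _
      have h3 : 4 ^ 3 ≤ q ^ 3 := Nat.pow_le_pow_left h9 _
      have h4 : 4 ^ 4 ≤ q ^ 4 := Nat.pow_le_pow_left h9 _
      have h5 : 4 ^ 6 * (15 * 65 * 255) ≤ q ^ 6 * ((q ^ 2 - 1) * (q ^ 3 + 1) * (q ^ 4 - 1)) :=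
        Nat.mul_le_mul h1 (Nat.mul_le_mul (Nat.mul_le_mul (by omega) (by omega)) (by omega))
      norm_num only [] at h5
      omega
    interval_cases q
    · exact Or.inl ⟨rfl, rfl⟩
    · exact Or.inr ⟨rfl, rfl⟩
  · exfalso
    have e : ∏ i ∈ range 5, (if Even i then q ^ (i + 1) + 1 else q ^ (i + 1) - 1)
        = (q + 1) * ((q ^ 2 - 1) * (q ^ 3 + 1) * (q ^ 4 - 1) * (q ^ 5 + 1)) := by
      have h1 : ¬ Even 1 := by decide
      have h2 : Even 2 := by decide
      have h3 : ¬ Even 3 := by decide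
      have h4 : Even 4 := by decide
      simp only [Finset.prod_range_succ, Finset.prod_range_zero, Even.zero, if_true, h1, if_false, h2, h3, h4]
      ring
    have e2 : Nat.gcd 5 (q + 1) * c = q ^ 10 * ((q ^ 2 - 1) * (q ^ 3 + 1) * (q ^ 4 - 1) * (q ^ 5 + 1)) := by
      apply Nat.eq_of_mul_eq_mul_left (show 0 < q + 1 by omega)
      rw [e] at h
      calc (q + 1) * (Nat.gcd 5 (q + 1) * c) = Nat.gcd 5 (q + 1) * ((q + 1) * c) := by ring
        _ = q ^ (5 * (5 - 1) / 2) * ((q + 1) * ((q ^ 2 - 1) * (q ^ 3 + 1) * (q ^ 4 - 1) * (q ^ 5 + 1))) := h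
        _ = _ := by norm_num only []; ring
    have e3 : Nat.gcd 5 (q + 1) * c ≤ 5 * c := Nat.mul_le_mul_right _ (Nat.gcd_le_left _ (by norm_num))
    have hq3 : q < 3 := by
      by_contra hcon
      have h9 : 3 ≤ q := by omega
      have h1 : 3 ^ 10 ≤ q ^ 10 := Nat.pow_le_pow_left h9 _
      have h2 : 3 ^ 2 ≤ q ^ 2 := Nat.pow_le_pow_left h9 _
      have h3 : 3 ^ 3 ≤ q ^ 3 := Nat.pow_le_pow_left h9 _
      have h4 : 3 ^ 4 ≤ q ^ 4 := Nat.pow_le_pow_left h9 _
      have h5 : 3 ^ 5 ≤ q ^ 5 := Nat.pow_le_pow_left h9 _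
      have h6 : 3 ^ 10 * (8 * 28 * 80 * 244) ≤ q ^ 10 * ((q ^ 2 - 1) * (q ^ 3 + 1) * (q ^ 4 - 1) * (q ^ 5 + 1)) :=
        Nat.mul_le_mul h1 (Nat.mul_le_mul (Nat.mul_le_mul (Nat.mul_le_mul (by omega) (by omega)) (by omega))
          (by omega))
      norm_num only [] at h6
      omega
    interval_cases q
    norm_num at e2
    omega

end Cfsg.Agent.OddHalf.D6.QThree.PumpArith

end

-- merged: Cfsg.Agent.OddHalf.D6.QThree.PumpKnown
section

/-!
# The pump-up fact: known simple groups of order divisible by `|PSp₄(3)|` and at most `|L₄(3)|`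
-/

set_option autoImplicit false

namespace Cfsg.Agent.OddHalf.D6.QThree.Pump

universe u

/-- The outcomes. -/
inductive Seven (X : Type u) [Group X] : Prop
  | psp (F : Type) [Field F] [Fintype F] (h : Fintype.card F = 3) (e : Nonempty (X ≃* PSp 2 F)) : Seven X
  | psu (F : Type) [Field F] [Fintype F] (h : Fintype.card F = 9) (e : Nonempty (X ≃* PSU 4 F 3)) : Seven X
  | psl (F : Type) [Field F] [Fintype F] (h : Fintype.card F = 3)
      (e : Nonempty (X ≃* Matrix.ProjectiveSpecialLinearGroup (Fin 4) F)) : Seven X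
  | sp6 (F : Type) [Field F] [Fintype F] (h : Fintype.card F = 2) (e : Nonempty (X ≃* PSp 3 F)) : Seven X
  | a9 (e : Nonempty (X ≃* alternatingGroup (Fin 9))) : Seven X
  | a10 (e : Nonempty (X ≃* alternatingGroup (Fin 10))) : Seven X

theorem card_alt (n : ℕ) (hn : 2 ≤ n) : 2 * Nat.card (alternatingGroup (Fin n)) = n.factorial := by
  haveI : Nontrivial (Fin n) := Fin.nontrivial_iff_two_le.2 hn
  rw [Nat.card_eq_fintype_card, two_mul_card_alternatingGroup, Fintype.card_perm, Fintype.card_fin]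

theorem alternating {X : Type u} [Group X] (hX : IsAlternating X) (hd : 25920 ∣ Nat.card X)
    (hc : Nat.card X ≤ 6531840) : Seven X := by
  obtain ⟨n, hn, ⟨e⟩⟩ := hX
  have h1 := card_alt n (by omega)
  rw [← Nat.card_congr e.toEquiv] at h1
  have hn11 : n < 11 := by
    by_contra hcon
    have h2 : Nat.factorial 11 ≤ Nat.factorial n := Nat.factorial_le (by omega)
    have h3 : Nat.factorial 11 = 39916800 := by decide +kernel
    omega
  interval_cases n
  · exfalso
    have : Nat.factorial 5 = 120 := by decide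
    omega
  · exfalso
    have : Nat.factorial 6 = 720 := by decide
    omega
  · exfalso
    have : Nat.factorial 7 = 5040 := by decide
    omega
  · exfalso
    have : Nat.factorial 8 = 40320 := by decide
    omega
  · exact Seven.a9 ⟨e⟩
  · exact Seven.a10 ⟨e⟩

theorem psl {X : Type u} [Group X] (hX : IsPSL X) (hd : 25920 ∣ Nat.card X)
    (hc : Nat.card X ≤ 6531840) : Seven X := by
  obtain ⟨F, _, _, n, hn, _, ⟨e⟩⟩ := hX
  have h1 := Cfsg.Agent.S0243.result (F := F) rfl n hn
  rw [← Nat.card_congr e.toEquiv] at h1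
  have hq : 2 ≤ Fintype.card F := Fintype.one_lt_card
  obtain ⟨rfl, hF⟩ := PumpArith.psl hn hq h1 hd hc
  exact Seven.psl F hF ⟨e⟩

theorem card_psp (F : Type) [Field F] [Fintype F] (m : ℕ) (hm : 1 ≤ m) :
    Nat.gcd 2 (Fintype.card F - 1) * Nat.card (PSp m F)
      = (Fintype.card F) ^ (m ^ 2) * ∏ i ∈ Finset.range m, ((Fintype.card F) ^ (2 * (i + 1)) - 1) := by
  rw [← Cfsg.Agent.S0245.result (F := F) rfl m, ← Cfsg.Agent.S0246.result (F := F) rfl m hm]
  exact Subgroup.card_mul_index (Subgroup.center (Matrix.symplecticGroup (Fin m) F))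

theorem psp {X : Type u} [Group X] (hX : IsPSp X) (hd : 25920 ∣ Nat.card X)
    (hc : Nat.card X ≤ 6531840) : Seven X := by
  obtain ⟨F, _, _, m, hm, hm3, ⟨e⟩⟩ := hX
  have h1 := card_psp F m (by omega)
  rw [← Nat.card_congr e.toEquiv] at h1
  have hq : 2 ≤ Fintype.card F := Fintype.one_lt_card
  rcases PumpArith.sp hm hq hm3 h1 hd hc with ⟨rfl, hF⟩ | ⟨rfl, hF⟩
  · exact Seven.psp F hF ⟨e⟩
  · exact Seven.sp6 F hF ⟨e⟩

theorem psu {X : Type u} [Group X] (hX : IsPSU X) (hd : 25920 ∣ Nat.card X)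
    (hc : Nat.card X ≤ 6531840) : Seven X := by
  obtain ⟨F, _, _, n, q, hF, hn, h32, ⟨e⟩⟩ := hX
  have h1 := Cfsg.Agent.S0280.result hF n (by omega)
  rw [← Nat.card_congr e.toEquiv] at h1
  have hq : 2 ≤ q := by
    have h2 : 2 ≤ Fintype.card F := Fintype.one_lt_card
    rw [hF] at h2
    by_contra hcon
    have : q = 0 ∨ q = 1 := by omega
    rcases this with rfl | rfl <;> norm_num at h2
  rcases PumpArith.psu hn hq h32 h1 hd hc with ⟨rfl, rfl⟩ | ⟨rfl, rfl⟩
  · have e3 : Fintype.card (ZMod 3) = 3 := ZMod.card 3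
    obtain ⟨e'⟩ := Cfsg.Agent.S0822.result (F := F) (K := ZMod 3) (by simpa using hF) e3
    exact Seven.psp (ZMod 3) e3 ⟨e.trans e'⟩
  · exact Seven.psu F (by simpa using hF) ⟨e⟩

theorem omegaOdd {X : Type u} [Group X] (hX : IsPOmegaOdd X) : 6531840 < Nat.card X := by
  obtain ⟨F, _, _, m, hm, hodd, ⟨e⟩⟩ := hX
  have h1 := Cfsg.Agent.S0292.result (F := F) rfl hodd m hm
  rw [← Nat.card_congr e.toEquiv] at h1
  have hq : 3 ≤ Fintype.card F := by
    have h2 : 2 ≤ Fintype.card F := Fintype.one_lt_card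
    rcases hodd with ⟨k, hk⟩
    omega
  exact PumpArith.odd hm hq h1

theorem omegaPlus {X : Type u} [Group X] (hX : IsPOmegaPlus X) : 6531840 < Nat.card X := by
  obtain ⟨F, _, _, m, hm, ⟨e⟩⟩ := hX
  have h1 := Cfsg.Agent.S0293.result (F := F) rfl m hm
  rw [← Nat.card_congr e.toEquiv] at h1
  exact PumpArith.plus hm Fintype.one_lt_card h1

theorem omegaMinus {X : Type u} [Group X] (hX : IsPOmegaMinus X) : 6531840 < Nat.card X := by
  obtain ⟨F, _, _, m, a, b, hm, hab, ⟨e⟩⟩ := hX
  have h1 := Cfsg.Agent.S0294.result (F := F) rfl m hm a b hab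
  rw [← Nat.card_congr e.toEquiv] at h1
  exact PumpArith.minus hm Fintype.one_lt_card h1

/-- **(PU1)** -/
theorem seven (hS : SpOrd.{u}) (hE : ExcOrd.{u}) {X : Type u} [Group X] (hX : IsKnownSimple' X)
    (hd : 25920 ∣ Nat.card X) (hc : Nat.card X ≤ 6531840) : Seven X := by
  rcases hX with h | h | h | h | h | h | h | h | h | h
  · exfalso
    have h2 : Nat.Prime (Nat.card X) := h
    have h3 : 2 ∣ Nat.card X := Dvd.dvd.trans (by norm_num) hd
    have h4 : 3 ∣ Nat.card X := Dvd.dvd.trans (by norm_num) hd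
    have h5 := (Nat.prime_dvd_prime_iff_eq Nat.prime_two h2).1 h3
    have h6 := (Nat.prime_dvd_prime_iff_eq Nat.prime_three h2).1 h4
    omega
  · exact alternating h hd hc
  · exact psl h hd hc
  · exact psp h hd hc
  · exact psu h hd hc
  · exact absurd (omegaOdd h) (by omega)
  · exact absurd (omegaPlus h) (by omega)
  · exact absurd (omegaMinus h) (by omega)
  · exact absurd (exceptional hS hE h hd) (by omega)
  · exact absurd (hS.sporadic h hd) (by omega)

end Cfsg.Agent.OddHalf.D6.QThree.Pump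

end
end
end

-- part: OddHalf/D6/QThree/TransferMu
section
prune_inst 0x3030644822020000000582e1003c46de000190006b800199e00e04068edf2109002f61f4a01a0011282a2400380048171810dd2010000000000200411d0481802a72c49348a10407000980f887180c00000000000000000000000000041004200000000
set_option linter.all false
open scoped Cfsg.Agent.FastGrp

/-!
# ODD half, D6, `U₄(3)` with an outer part: `T` is not a Sylow 2-subgroup of `G` (helper801's #12978 (1), K-free)

`C = C_G(t)`, `K` normal in `C`, `μ : C → {±1}` trivial on `K C_C(K)`; every 2-element `y` of `C` with `μ y = -1` has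
a multiple `k y`, `k ∈ K`, which acts on `K` as an involution with the property `Good`. Then the transfer of `μ` at
an element `y` of minimal order with `μ y = -1` is `-1`.
-/

set_option autoImplicit false

namespace Cfsg.Agent.OddHalf.D6.QThree.TransferMu

open MulAction Subgroup Cfsg.Agent.OddHalf.Front.OrbitTransfer Cfsg.Agent.OddHalf.TR
open scoped commutatorElement

variable {G : Type*} [Group G]

/-! ### A transfer formula -/

/-- **transfer of a sign at an element `y` whose proper powers do not contribute**, with a 2-group `D` commuting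
with `y` -/
theorem transfer_eq_prod_fixed [Finite G] (H : Subgroup G) (φ : H →* ℤˣ) (y : G)
    (hmin : ∀ (g : G) (k : ℕ), 2 ≤ k → k ∣ orderOf y → ∀ h : g⁻¹ * y ^ k * g ∈ H,
      φ ⟨g⁻¹ * y ^ k * g, h⟩ = 1)
    (D : Subgroup G) (hD : IsPGroup 2 D) (hDy : ∀ d ∈ D, d * y = y * d) :
    ∃ f : G ⧸ H → ℤˣ, (∀ (g : G) (h : g⁻¹ * y * g ∈ H), f (g : G ⧸ H) = φ ⟨g⁻¹ * y * g, h⟩) ∧
      ∃ s : Finset (G ⧸ H), (∀ q, q ∈ s ↔ y • q = q ∧ ∀ d ∈ D, d • q = q) ∧
        MonoidHom.transfer φ y = ∏ q ∈ s, f q := by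
  classical
  have : Fintype (Orb H y) := Fintype.ofFinite _
  have : Fintype (G ⧸ H) := Fintype.ofFinite _
  have hF : MonoidHom.transfer φ y = ∏ o : Orb H y, F H φ y o := by
    rw [MonoidHom.transfer_eq_prod_quotient_orbitRel_zpowers_quot]
    rfl
  have hper : ∀ g : G, g⁻¹ * y ^ (Function.minimalPeriod (y • ·) (g : G ⧸ H)) * g ∈ H := by
    intro g
    rw [← smul_mk_eq]
    exact pow_smul_eq_iff_minimalPeriod_dvd.2 dvd_rfl
  -- the function on cosets
  set f : G ⧸ H → ℤˣ := fun q => F H φ y (Quotient.mk'' q) with hf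
  have hfg : ∀ (g : G) (h : g⁻¹ * y * g ∈ H), f (g : G ⧸ H) = φ ⟨g⁻¹ * y * g, h⟩ := by
    intro g h
    have h1 : Function.minimalPeriod (y • ·) (g : G ⧸ H) = 1 := by
      rw [Function.minimalPeriod_eq_one_iff_isFixedPt]
      exact (smul_mk_eq H y g).2 h
    have h2 : g⁻¹ * y ^ 1 * g ∈ H := by rw [pow_one]; exact h
    rw [hf]
    show F H φ y (Quotient.mk'' (g : G ⧸ H)) = _
    rw [F_mk H φ y g h1 h2]
    congr 1
    exact Subtype.ext (by show g⁻¹ * y ^ 1 * g = g⁻¹ * y * g; rw [pow_one])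
  -- the other orbits do not contribute
  have hone : ∀ q : G ⧸ H, y • q ≠ q → f q = 1 := by
    intro q hq
    obtain ⟨g, rfl⟩ := QuotientGroup.mk_surjective q
    rw [hf]
    show F H φ y (Quotient.mk'' (g : G ⧸ H)) = 1
    rw [F_mk H φ y g rfl (hper g)]
    apply hmin
    · have h1 : Function.minimalPeriod (y • ·) (g : G ⧸ H) ≠ 1 := by
        intro h
        rw [Function.minimalPeriod_eq_one_iff_isFixedPt] at h
        exact hq h
      have h2 : Function.minimalPeriod (y • ·) (g : G ⧸ H) ≠ 0 := by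
        intro h
        have h3 : y ^ (orderOf y) • (g : G ⧸ H) = (g : G ⧸ H) := by rw [pow_orderOf_eq_one, one_smul]
        have h4 := pow_smul_eq_iff_minimalPeriod_dvd.1 h3
        rw [h, zero_dvd_iff] at h4
        exact (orderOf_pos y).ne' h4
      omega
    · have h3 : y ^ (orderOf y) • (g : G ⧸ H) = (g : G ⧸ H) := by rw [pow_orderOf_eq_one, one_smul]
      exact pow_smul_eq_iff_minimalPeriod_dvd.1 h3
  have hfo : ∀ o : Orb H y, ∃ q : G ⧸ H, (Quotient.mk'' q : Orb H y) = o := fun o => Quotient.exists_rep o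
  set s0 : Finset (G ⧸ H) := Finset.univ.filter (fun q => y • q = q) with hs0
  have h1 : ∏ o : Orb H y, F H φ y o = ∏ q ∈ s0, f q := by
    symm
    apply Finset.prod_bij_ne_one (fun q _ _ => (Quotient.mk'' q : Orb H y))
    · intro q _ _
      exact Finset.mem_univ _
    · intro q hq _ q' hq' _ he
      rw [hs0, Finset.mem_filter] at hq hq'
      obtain ⟨⟨w, hw⟩, hwq⟩ := Quotient.exact he
      obtain ⟨m, rfl⟩ := mem_zpowers_iff.1 hw
      have h2 : y ^ m • q' = q := hwq
      have h3 : y ^ m • q' = q' := by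
        have : y ∈ stabilizer G q' := hq'.2
        exact (zpow_mem this m : y ^ m ∈ stabilizer G q')
      rw [← h2, h3]
    · intro o _ ho
      obtain ⟨q, rfl⟩ := hfo o
      have hq : y • q = q := by
        by_contra h
        exact ho (hone q h)
      exact ⟨q, by rw [hs0, Finset.mem_filter]; exact ⟨Finset.mem_univ _, hq⟩, ho, rfl⟩
    · intro q _ _
      rfl
  have hgmem : ∀ g : G, y • (g : G ⧸ H) = g → g⁻¹ * y * g ∈ H := fun g h => (smul_mk_eq H y g).1 h
  have h2 := prod_fixed hD s0 (X := G ⧸ H) (by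
    intro d q hq
    rw [hs0, Finset.mem_filter] at hq ⊢
    refine ⟨Finset.mem_univ _, ?_⟩
    show y • ((d : G) • q) = (d : G) • q
    rw [← mul_smul, ← hDy d d.2, mul_smul, hq.2]) f (by
    intro d q hq
    rw [hs0, Finset.mem_filter] at hq
    obtain ⟨g, rfl⟩ := QuotientGroup.mk_surjective q
    have h3 := hgmem g hq.2
    have e : ((d : G) * g)⁻¹ * y * ((d : G) * g) = g⁻¹ * y * g := by
      calc ((d : G) * g)⁻¹ * y * ((d : G) * g) = g⁻¹ * ((d : G)⁻¹ * (y * d)) * g := by group
        _ = g⁻¹ * ((d : G)⁻¹ * (d * y)) * g := by rw [hDy d d.2]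
        _ = g⁻¹ * y * g := by group
    have h4 : ((d : G) * g)⁻¹ * y * ((d : G) * g) ∈ H := by rw [e]; exact h3
    show f (((d : G) * g : G) : G ⧸ H) = f (g : G ⧸ H)
    rw [hfg _ h4, hfg _ h3]
    congr 1
    exact Subtype.ext e) (by
    intro q _
    rw [pow_two]
    exact Int.units_mul_self _)
  refine ⟨f, hfg, s0.filter (fun q => ∀ d : D, d • q = q), ?_, ?_⟩
  · intro q
    rw [Finset.mem_filter, hs0, Finset.mem_filter]
    constructor
    · rintro ⟨⟨-, h3⟩, h4⟩
      exact ⟨h3, fun d hd => h4 ⟨d, hd⟩⟩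
    · rintro ⟨h3, h4⟩
      exact ⟨⟨Finset.mem_univ _, h3⟩, fun d => h4 d d.2⟩
  · rw [hF, h1, h2]

/-! ### The property of the involutory automorphisms -/

/-- `y ∈ C(t)` acts on `K` as an involution `α`; `v = z'`, `S` a Sylow 2-subgroup of `C_K(y)`, `p ∈ K` with
`α ^ p = α v` -/
structure Good (t : G) (K : Subgroup G) (y v p : G) (S : Subgroup G) : Prop where
  yt : y * t = t * y
  /-- `y²` centralises `K` -/
  yy : ∀ k ∈ K, y * y * k = k * (y * y)
  vv : v * v = 1
  v1 : v ≠ 1
  /-- `v ∈ [C_K(y), C_K(y)]` -/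
  vc : v ∈ ⁅K ⊓ centralizer {y}, K ⊓ centralizer {y}⁆
  pK : p ∈ K
  py : p * y * p⁻¹ = y * v
  pv : p * v * p⁻¹ = v
  SK : S ≤ K
  Sy : ∀ s ∈ S, s * y = y * s
  pS : IsPGroup 2 S
  max : ∀ P : Subgroup G, IsPGroup 2 P → S ≤ P → P ≤ K → (∀ x ∈ P, x * y = y * x) → P ≤ S
  vS : v ∈ S
  vs : ∀ s ∈ S, s * v = v * s
  /-- the involutions of `C(t)` commuting with `y` and `S` act on `K` as `1, v, y, y v` -/
  cen : ∀ u, u * u = 1 → u * t = t * u → u * y = y * u → (∀ s ∈ S, s * u = u * s) →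
    (∀ k ∈ K, u * k = k * u) ∨ (∀ k ∈ K, v * u * k = k * (v * u)) ∨ (∀ k ∈ K, y⁻¹ * u * k = k * (y⁻¹ * u)) ∨
      (∀ k ∈ K, (y * v)⁻¹ * u * k = k * ((y * v)⁻¹ * u))

/-- the environment: `K` normal in `C(t)`, a sign `μ` of `C(t)` trivial on `K C_C(K)` -/
structure Env (t z : G) (K T : Subgroup G) (μ : centralizer ({t} : Set G) →* ℤˣ) : Prop extends Frame t z T where
  Kt : ∀ x ∈ K, x * t = t * x
  Kn : ∀ g, g * t = t * g → ∀ x ∈ K, g * x * g⁻¹ ∈ K
  Kc : ∀ x ∈ K, (∀ k ∈ K, x * k = k * x) → x = 1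
  /-- `t` is the only involution of `C_C(K)` -/
  uniq : ∀ c, c * t = t * c → (∀ k ∈ K, c * k = k * c) → c * c = 1 → c = 1 ∨ c = t
  muK : ∀ x (hx : x * t = t * x), x ∈ K → μ ⟨x, mem_centralizer_singleton_iff.2 hx⟩ = 1
  muC : ∀ x (hx : x * t = t * x), (∀ k ∈ K, x * k = k * x) → μ ⟨x, mem_centralizer_singleton_iff.2 hx⟩ = 1
  al : ∀ y (hy : y * t = t * y), IsPGroup 2 (zpowers y) → μ ⟨y, mem_centralizer_singleton_iff.2 hy⟩ = -1 →
    ∃ k ∈ K, ∃ (v p : G) (S : Subgroup G), Good t K (k * y) v p S ∧ ∃ l ∈ K, l * z * l⁻¹ = v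

section burn

variable {t z : G} {T : Subgroup G}

/-- if `T` is a Sylow subgroup of `G` then `N(T)` centralizes `t` -/
theorem no_swap [Finite G] (Fr : Frame t z T) (S : Sylow 2 G) (hST : (S : Subgroup G) = T) {g : G}
    (hgN : g ∈ normalizer (T : Set G)) : g * t * g⁻¹ = t := by
  have hmem : ∀ y, y ∈ (S : Subgroup G) → y ∈ T := by
    intro y hy
    rwa [hST] at hy
  obtain ⟨hz, h1 | h1⟩ := Fr.act hgN
  · exact h1
  · exfalso
    obtain ⟨k, m, hm, hk⟩ := Nat.exists_eq_two_pow_mul_odd (orderOf_pos g).ne'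
    set x := g ^ m with hx
    have hxp : IsPGroup 2 (zpowers x) := by
      apply IsPGroup.of_card (n := k)
      rw [Nat.card_zpowers, hx, orderOf_pow, hk, Nat.gcd_mul_left_left,
        Nat.mul_div_cancel _ hm.pos]
    have hxN : x ∈ normalizer (T : Set G) := pow_mem hgN m
    have hxT : x ∈ T := by
      apply hmem
      have h2 : IsPGroup 2 ((zpowers x ⊔ T : Subgroup G)) :=
        hxp.to_sup_of_normal_right' Fr.pT (by rw [zpowers_le]; exact hxN)
      have h3 := S.is_maximal' h2 (by rw [hST]; exact le_sup_right)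
      show x ∈ (S : Subgroup G)
      rw [← h3]
      exact (le_sup_left : zpowers x ≤ _) (mem_zpowers x)
    have hxt := Fr.tc x hxT
    have hg2t : Commute (g * g) t := by
      show g * g * t = t * (g * g)
      rw [← mul_inv_eq_iff_eq_mul]
      calc g * g * t * (g * g)⁻¹ = g * (g * t * g⁻¹) * g⁻¹ := by group
        _ = g * (t * z) * g⁻¹ := by rw [h1]
        _ = (g * t * g⁻¹) * (g * z * g⁻¹) := by group
        _ = t := by rw [h1, hz, mul_assoc, Fr.zz, mul_one]
    obtain ⟨j, hj⟩ := hm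
    have hx' : x = (g * g) ^ j * g := by
      rw [hx, hj, pow_succ, pow_mul, pow_two]
    have h4 : Commute ((g * g) ^ j) t := hg2t.pow_left j
    have h5 : Commute ((g * g) ^ j * g) t := by
      rw [← hx']; exact hxt
    have h6 : Commute g t := by
      have := h4.inv_left.mul_left h5
      rwa [inv_mul_cancel_left] at this
    have h7 : g * t * g⁻¹ = t := by rw [h6.eq]; group
    rw [h7] at h1
    exact Fr.z1 (mul_eq_left.1 h1.symm)

/-- if `T` is a Sylow subgroup of `G`, then `t` is the only conjugate of `t` commuting with `T` -/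
theorem burn [Finite G] (Fr : Frame t z T) (S : Sylow 2 G) (hST : (S : Subgroup G) = T) {g : G}
    (hg : ∀ x ∈ T, x * (g * t * g⁻¹) = g * t * g⁻¹ * x) : g * t * g⁻¹ = t := by
  have hmem : ∀ y, y ∈ (S : Subgroup G) → y ∈ T := by
    intro y hy
    rwa [hST] at hy
  have h1 : t ∈ centralizer ((S : Subgroup G) : Set G) :=
    mem_centralizer_iff.2 fun x hx => Fr.tc x (hmem x hx)
  have h2 : g⁻¹⁻¹ * t * g⁻¹ ∈ centralizer ((S : Subgroup G) : Set G) := by
    rw [inv_inv]
    exact mem_centralizer_iff.2 fun x hx => hg x (hmem x hx)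
  obtain ⟨n, hn, hnt⟩ := S.conj_eq_normalizer_conj_of_mem_centralizer t g⁻¹ h1 h2
  rw [inv_inv] at hnt
  rw [hnt]
  have hn' : n⁻¹ ∈ normalizer (T : Set G) := by
    have h3 : n⁻¹ ∈ normalizer ((S : Subgroup G) : Set G) := inv_mem hn
    rwa [hST] at h3
  have h4 := no_swap Fr S hST hn'
  rwa [inv_inv] at h4

end burn

namespace Env

variable {t z : G} {K T : Subgroup G} {μ : centralizer ({t} : Set G) →* ℤˣ}

theorem comm_iff {t g y : G} : g⁻¹ * y * g ∈ centralizer ({t} : Set G) ↔
    y * (g * t * g⁻¹) = g * t * g⁻¹ * y := by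
  rw [mem_centralizer_singleton_iff]
  constructor
  · intro h
    calc y * (g * t * g⁻¹) = g * (g⁻¹ * y * g * t) * g⁻¹ := by group
      _ = g * (t * (g⁻¹ * y * g)) * g⁻¹ := by rw [h]
      _ = g * t * g⁻¹ * y := by group
  · intro h
    calc g⁻¹ * y * g * t = g⁻¹ * (y * (g * t * g⁻¹)) * g := by group
      _ = g⁻¹ * (g * t * g⁻¹ * y) * g := by rw [h]
      _ = t * (g⁻¹ * y * g) := by group

/-- no conjugate of `t` is `v` or `t v` -/
theorem nc [Finite G] (E : Env t z K T μ) (S : Sylow 2 G) (hST : (S : Subgroup G) = T) {v l : G} (hl : l ∈ K)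
    (hlv : l * z * l⁻¹ = v) (g : G) : g * t * g⁻¹ ≠ v ∧ g * t * g⁻¹ ≠ v * t := by
  constructor
  · intro h
    have h1 : (l⁻¹ * g) * t * (l⁻¹ * g)⁻¹ = z := by
      calc (l⁻¹ * g) * t * (l⁻¹ * g)⁻¹ = l⁻¹ * (g * t * g⁻¹) * l := by group
        _ = l⁻¹ * (l * z * l⁻¹) * l := by rw [h, hlv]
        _ = z := by group
    have h2 := burn E.toFrame S hST (g := l⁻¹ * g) (by
      intro x hx
      rw [h1]
      exact E.zc x hx)
    rw [h1] at h2
    exact E.ne h2
  · intro h
    have hlt := E.Kt l hl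
    have h1 : (l⁻¹ * g) * t * (l⁻¹ * g)⁻¹ = z * t := by
      calc (l⁻¹ * g) * t * (l⁻¹ * g)⁻¹ = l⁻¹ * (g * t * g⁻¹) * l := by group
        _ = l⁻¹ * (l * z * l⁻¹ * t) * l := by rw [h, hlv]
        _ = z * (l⁻¹ * (t * l)) := by group
        _ = z * (l⁻¹ * (l * t)) := by rw [hlt]
        _ = z * t := by group
    have h2 := burn E.toFrame S hST (g := l⁻¹ * g) (by
      intro x hx
      rw [h1]
      have h3 := E.zc x hx
      have h4 := E.tc x hx
      calc x * (z * t) = (x * z) * t := by group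
        _ = z * (x * t) := by rw [h3]; group
        _ = z * t * x := by rw [h4]; group)
    rw [h1] at h2
    exact E.z1 (mul_eq_right.1 h2)

/-- the value of `μ` -/
theorem mu_pow (x : centralizer ({t} : Set G)) (n : ℕ) (hx : μ x = -1) (hn : Odd n) : μ (x ^ n) = -1 := by
  rw [map_pow, hx, hn.neg_one_pow]

/-- an element of minimal order with `μ = -1` and the property `Good` -/
theorem exists_good [Finite G] (E : Env t z K T μ) (hμ : ∃ y, μ y = -1) :
    ∃ (y v p : G) (S : Subgroup G) (hy : y * t = t * y), Good t K y v p S ∧ (∃ l ∈ K, l * z * l⁻¹ = v) ∧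
      μ ⟨y, mem_centralizer_singleton_iff.2 hy⟩ = -1 ∧
      ∀ x : centralizer ({t} : Set G), μ x = -1 → orderOf y ≤ orderOf (x : G) := by
  classical
  obtain ⟨y₀, hy₀⟩ := hμ
  -- minimal order
  obtain ⟨y₁, hy₁, hmin⟩ : ∃ y₁ : centralizer ({t} : Set G), μ y₁ = -1 ∧
      ∀ x : centralizer ({t} : Set G), μ x = -1 → orderOf (y₁ : G) ≤ orderOf (x : G) := by
    let P : ℕ → Prop := fun n => ∃ x : centralizer ({t} : Set G), μ x = -1 ∧ orderOf (x : G) = n
    have hP : ∃ n, P n := ⟨_, y₀, hy₀, rfl⟩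
    obtain ⟨y₁, h1, h2⟩ := Nat.find_spec hP
    refine ⟨y₁, h1, ?_⟩
    intro x hx
    rw [h2]
    exact Nat.find_min' hP ⟨x, hx, rfl⟩
  have hy₁t : (y₁ : G) * t = t * y₁ := mem_centralizer_singleton_iff.1 y₁.2
  have hpos : 0 < orderOf (y₁ : G) := orderOf_pos _
  -- `y₁` is a 2-element
  have h2el : IsPGroup 2 (zpowers (y₁ : G)) := by
    obtain ⟨a, m, hm, hk⟩ := Nat.exists_eq_two_pow_mul_odd hpos.ne'
    have h1 := hmin (y₁ ^ m) (mu_pow y₁ m hy₁ hm)
    have h2 : orderOf ((y₁ ^ m : centralizer ({t} : Set G)) : G) = 2 ^ a := by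
      rw [Subgroup.coe_pow, orderOf_pow, hk, Nat.gcd_mul_left_left, Nat.mul_div_cancel _ hm.pos]
    rw [h2, hk] at h1
    have h3 : 2 ^ a * m ≤ 2 ^ a * 1 := by rw [mul_one]; exact h1
    have h4 : m ≤ 1 := Nat.le_of_mul_le_mul_left h3 (by positivity)
    have h5 : m = 1 := le_antisymm h4 hm.pos
    apply IsPGroup.of_card (n := a)
    rw [Nat.card_zpowers, hk, h5, mul_one]
  obtain ⟨k, hk, v, p, S, hgood, hl⟩ := E.al (y₁ : G) hy₁t h2el hy₁
  have hkt := E.Kt k hk
  have hyt : k * (y₁ : G) * t = t * (k * y₁) := hgood.yt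
  refine ⟨k * y₁, v, p, S, hyt, hgood, hl, ?_, ?_⟩
  · have h1 : (⟨k * (y₁ : G), mem_centralizer_singleton_iff.2 hyt⟩ : centralizer ({t} : Set G)) =
        ⟨k, mem_centralizer_singleton_iff.2 hkt⟩ * y₁ := rfl
    rw [h1, map_mul, E.muK k hkt hk, hy₁, one_mul]
  · -- the order of `k y₁` divides the order of `y₁`
    intro x hx
    refine le_trans (Nat.le_of_dvd hpos ?_) (hmin x hx)
    have heven : Even (orderOf (y₁ : G)) := by
      by_contra hodd
      rw [Nat.not_even_iff_odd] at hodd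
      have h1 := mu_pow y₁ _ hy₁ hodd
      have h2 : y₁ ^ orderOf (y₁ : G) = 1 := Subtype.ext (pow_orderOf_eq_one _)
      rw [h2, map_one] at h1
      exact absurd h1 (by decide)
    obtain ⟨j, hj⟩ := heven
    set y : G := k * y₁ with hy
    set a : G := k * (y₁ * k * (y₁ : G)⁻¹) with ha
    have haK : a ∈ K := K.mul_mem hk (E.Kn _ hy₁t k hk)
    have hyy : y * y = a * ((y₁ : G) * y₁) := by rw [hy, ha]; group
    have h1 : (y₁ : G) * y₁ = a⁻¹ * (y * y) := by rw [hyy]; group
    have hc : Commute a⁻¹ (y * y) := (hgood.yy a⁻¹ (K.inv_mem haK)).symm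
    have h2 : ((y₁ : G) * y₁) ^ j = 1 := by
      rw [← pow_two, ← pow_mul, two_mul, ← hj, pow_orderOf_eq_one]
    rw [h1, hc.mul_pow] at h2
    have h3 : (y * y) ^ j = (a⁻¹ ^ j)⁻¹ := (eq_inv_of_mul_eq_one_right h2)
    have h4 : (y * y) ^ j = 1 := by
      apply E.Kc
      · rw [h3]
        exact K.inv_mem (K.pow_mem (K.inv_mem haK) j)
      · intro l hl'
        exact ((show Commute (y * y) l from hgood.yy l hl').pow_left j)
    apply orderOf_dvd_of_pow_eq_one
    rw [hj, ← two_mul, pow_mul, pow_two]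
    exact h4

/-- **`T` is not a Sylow 2-subgroup of `G`** -/
theorem not_sylow [Finite G] (E : Env t z K T μ) (hG : ∀ H : Subgroup G, H.index ≠ 2) (hμ : ∃ y, μ y = -1)
    (S₀ : Sylow 2 G) : (S₀ : Subgroup G) ≠ T := by
  classical
  intro hST
  obtain ⟨y, v, p, S, hyt, hg, ⟨l, hl, hlv⟩, hmy, hmin⟩ := E.exists_good hμ
  have hvK : v ∈ K := hg.SK hg.vS
  have hvt := E.Kt v hvK
  have hvy : v * y = y * v := hg.Sy v hg.vS
  have hpt := E.Kt p hg.pK
  -- a Sylow 2-subgroup of `C(t) ∩ C(y)` containing `S`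
  obtain ⟨D, hD, hSD⟩ := Cfsg.Agent.OddHalf.D4.Basic.exists_isSyl (G := G)
    (M := centralizer ({t} : Set G) ⊓ centralizer ({y} : Set G)) (Q := S) hg.pS (by
      intro s hs
      exact ⟨mem_centralizer_singleton_iff.2 (E.Kt s (hg.SK hs)), mem_centralizer_singleton_iff.2 (hg.Sy s hs)⟩)
  have hDt : ∀ d ∈ D, d * t = t * d := fun d hd => mem_centralizer_singleton_iff.1 (hD.le hd).1
  have hDy : ∀ d ∈ D, d * y = y * d := fun d hd => mem_centralizer_singleton_iff.1 (hD.le hd).2
  have htD : t ∈ D := by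
    have h1 : zpowers t ≤ normalizer (D : Set G) := by
      rw [zpowers_le, mem_normalizer_iff]
      intro d
      constructor
      · intro hd
        rw [← hDt d hd, mul_inv_cancel_right]; exact hd
      · intro hd
        have h2 := hDt _ hd
        have h3 : t * d * t⁻¹ = d := by
          have h4 : t * d * t⁻¹ * t = t * (t * d * t⁻¹) := h2
          have h5 : d = t * d * t⁻¹ := by
            have h6 : t * d = t * (t * d * t⁻¹) := by rw [← h4]; group
            exact mul_left_cancel h6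
          exact h5.symm
        rwa [h3] at hd
    have h2 : IsPGroup 2 ((zpowers t ⊔ D : Subgroup G)) :=
      (Frame.isPGroup_zpowers E.tt).to_sup_of_normal_right' hD.two h1
    have h3 : zpowers t ⊔ D ≤ centralizer ({t} : Set G) ⊓ centralizer ({y} : Set G) := by
      rw [sup_le_iff, zpowers_le]
      exact ⟨⟨mem_centralizer_singleton_iff.2 rfl, mem_centralizer_singleton_iff.2 hyt.symm⟩, hD.le⟩
    exact hD.max _ h2 le_sup_right h3 ((le_sup_left : zpowers t ≤ _) (mem_zpowers t))
  -- `D ∩ K = S`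
  have hDK : ∀ d ∈ D, d ∈ K → d ∈ S := by
    intro d hd hdK
    exact hg.max (D ⊓ K) (hD.two.to_le inf_le_left) (le_inf hSD hg.SK) inf_le_right
      (fun x hx => hDy x hx.1) ⟨hd, hdK⟩
  have hDS : ∀ d ∈ D, ∀ s ∈ S, d * s * d⁻¹ ∈ S := by
    intro d hd s hs
    exact hDK _ (D.mul_mem (D.mul_mem hd (hSD hs)) (D.inv_mem hd)) (E.Kn d (hDt d hd) s (hg.SK hs))
  -- `y` is outer
  have hout : ∀ w c, w ∈ K → (∀ k ∈ K, c * k = k * c) → y ≠ w * c := by
    intro w c hw hc he
    have hwt := E.Kt w hw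
    have hct : c * t = t * c := by
      have h1 : c = w⁻¹ * y := by rw [he]; group
      have h2 : Commute w⁻¹ t := (show Commute w t from hwt).inv_left
      rw [h1]
      exact (h2.mul_left hyt)
    have h1 : (⟨y, mem_centralizer_singleton_iff.2 hyt⟩ : centralizer ({t} : Set G)) =
        ⟨w, mem_centralizer_singleton_iff.2 hwt⟩ * ⟨c, mem_centralizer_singleton_iff.2 hct⟩ := Subtype.ext he
    rw [h1, map_mul, E.muK w hwt hw, E.muC c hct hc] at hmy
    exact absurd hmy (by decide)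
  -- `v` is central in `D`
  have hDv : ∀ d ∈ D, d * v = v * d := by
    intro d hd
    obtain ⟨w, hw⟩ : ∃ w, w = d * v * d⁻¹ := ⟨_, rfl⟩
    have hwS : w ∈ S := by rw [hw]; exact hDS d hd v hg.vS
    have hwK := hg.SK hwS
    have hww : w * w = 1 := by
      calc w * w = d * (v * v) * d⁻¹ := by rw [hw]; group
        _ = 1 := by rw [hg.vv]; group
    have hws : ∀ s ∈ S, s * w = w * s := by
      intro s hs
      have h1 : d⁻¹ * s * d ∈ S := by
        have := hDS d⁻¹ (D.inv_mem hd) s hs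
        rwa [inv_inv] at this
      have h2 := hg.vs _ h1
      calc s * w = d * ((d⁻¹ * s * d) * v) * d⁻¹ := by rw [hw]; group
        _ = d * (v * (d⁻¹ * s * d)) * d⁻¹ := by rw [h2]
        _ = w * s := by rw [hw]; group
    rcases hg.cen w hww (E.Kt w hwK) (hg.Sy w hwS) hws with h1 | h1 | h1 | h1
    · exfalso
      have h2 := E.Kc w hwK h1
      apply hg.v1
      have h3 : v = d⁻¹ * w * d := by rw [hw]; group
      rw [h3, h2]; group
    · have h2 := E.Kc (v * w) (K.mul_mem hvK hwK) h1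
      have h3 : w = v := by
        have h4 : v * w = v * v := by rw [h2, hg.vv]
        exact mul_left_cancel h4
      rw [hw] at h3
      calc d * v = d * v * d⁻¹ * d := by group
        _ = v * d := by rw [h3]
    · exfalso
      refine hout w (y⁻¹ * w)⁻¹ hwK ?_ (by group)
      intro k hk
      exact ((show Commute (y⁻¹ * w) k from h1 k hk).inv_left)
    · exfalso
      have h2 : ∀ k ∈ K, ((y * v)⁻¹ * w)⁻¹ * k = k * ((y * v)⁻¹ * w)⁻¹ := fun k hk =>
        ((show Commute ((y * v)⁻¹ * w) k from h1 k hk).inv_left)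
      refine hout (w * v⁻¹) ((y * v)⁻¹ * w)⁻¹ (K.mul_mem hwK (K.inv_mem hvK)) h2 ?_
      have h3 := h2 v⁻¹ (K.inv_mem hvK)
      calc y = w * (((y * v)⁻¹ * w)⁻¹ * v⁻¹) := by group
        _ = w * v⁻¹ * ((y * v)⁻¹ * w)⁻¹ := by rw [h3]; group
  -- the transfer
  obtain ⟨f, hf, s, hs, htr⟩ := transfer_eq_prod_fixed (centralizer ({t} : Set G)) μ y (by
    intro g k hk2 hkd h
    rcases Int.units_eq_one_or (μ ⟨g⁻¹ * y ^ k * g, h⟩) with h1 | h1
    · exact h1
    · exfalso
      have h2 := hmin _ h1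
      have h3 : orderOf (g⁻¹ * y ^ k * g) = orderOf (y ^ k) := by
        have := Cfsg.Agent.OddHalf.D4.Basic.orderOf_conj g⁻¹ (y ^ k)
        rwa [inv_inv] at this
      have h4 : orderOf y ≤ orderOf (y ^ k) := by
        rw [← h3]; exact h2
      rw [orderOf_pow_of_dvd (by omega) hkd] at h4
      have h5 : orderOf y / k < orderOf y := Nat.div_lt_self (orderOf_pos y) hk2
      omega) D hD.two hDy
  have h1 : MonoidHom.transfer μ y = 1 := Frame.hom_eq_one hG _ _
  -- cosets and conjugates of `t`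
  have hco : ∀ a b : G, (a : G ⧸ centralizer ({t} : Set G)) = b ↔ a * t * a⁻¹ = b * t * b⁻¹ := by
    intro a b
    rw [QuotientGroup.eq, mem_centralizer_singleton_iff]
    constructor
    · intro h
      calc a * t * a⁻¹ = a * (t * (a⁻¹ * b)) * b⁻¹ := by group
        _ = a * (a⁻¹ * b * t) * b⁻¹ := by rw [h]
        _ = b * t * b⁻¹ := by group
    · intro h
      calc a⁻¹ * b * t = a⁻¹ * (b * t * b⁻¹) * b := by group
        _ = a⁻¹ * (a * t * a⁻¹) * b := by rw [h]
        _ = t * (a⁻¹ * b) := by group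
  have hfix : ∀ x g : G, x • (g : G ⧸ centralizer ({t} : Set G)) = g ↔
      x * (g * t * g⁻¹) = g * t * g⁻¹ * x := by
    intro x g
    rw [smul_mk_eq, comm_iff]
  have hsm : ∀ g : G, ((g : G ⧸ centralizer ({t} : Set G)) ∈ s) ↔ (y * (g * t * g⁻¹) = g * t * g⁻¹ * y) ∧
      ∀ d ∈ D, d * (g * t * g⁻¹) = g * t * g⁻¹ * d := by
    intro g
    rw [hs, hfix]
    constructor
    · rintro ⟨h2, h3⟩
      exact ⟨h2, fun d hd => (hfix d g).1 (h3 d hd)⟩
    · rintro ⟨h2, h3⟩
      exact ⟨h2, fun d hd => (hfix d g).2 (h3 d hd)⟩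
  -- the base coset
  have hq0 : ((1 : G) : G ⧸ centralizer ({t} : Set G)) ∈ s := by
    rw [hsm]
    simp only [one_mul, inv_one, mul_one]
    exact ⟨hyt, hDt⟩
  have hf0 : f ((1 : G) : G ⧸ centralizer ({t} : Set G)) = -1 := by
    rw [hf 1 (by simpa using mem_centralizer_singleton_iff.2 hyt), ← hmy]
    congr 1
    exact Subtype.ext (by simp)
  -- the other fixed conjugates `u` of `t`
  have key : ∀ g : G, ((g : G ⧸ centralizer ({t} : Set G)) ∈ s) → g * t * g⁻¹ ≠ t →
      p * (g * t * g⁻¹) * p⁻¹ = g * t * g⁻¹ * v ∧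
      ∃ h : g⁻¹ * v * g ∈ centralizer ({t} : Set G), μ ⟨g⁻¹ * v * g, h⟩ = 1 := by
    intro g hgs hgt
    obtain ⟨u, hu⟩ : ∃ u, u = g * t * g⁻¹ := ⟨_, rfl⟩
    have h2 := (hsm g).1 hgs
    rw [← hu] at h2 hgt ⊢
    obtain ⟨huy, huD⟩ := h2
    have huu : u * u = 1 := by
      calc u * u = g * (t * t) * g⁻¹ := by rw [hu]; group
        _ = 1 := by rw [E.tt]; group
    have hut : u * t = t * u := (huD t htD).symm
    have huv : u * v = v * u := (huD v (hSD hg.vS)).symm
    -- a subgroup on which the sign of `C(u)` is trivial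
    let N : Subgroup G :=
      { carrier := {x | ∃ h : g⁻¹ * x * g ∈ centralizer ({t} : Set G), μ ⟨g⁻¹ * x * g, h⟩ = 1}
        one_mem' := by
          have e : g⁻¹ * 1 * g = 1 := by group
          refine ⟨by rw [e]; exact one_mem _, ?_⟩
          have : (⟨g⁻¹ * 1 * g, by rw [e]; exact one_mem _⟩ : centralizer ({t} : Set G)) = 1 := Subtype.ext e
          rw [this, map_one]
        mul_mem' := by
          rintro a b ⟨ha, ha'⟩ ⟨hb, hb'⟩
          have e : g⁻¹ * (a * b) * g = (g⁻¹ * a * g) * (g⁻¹ * b * g) := by group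
          have hab : g⁻¹ * (a * b) * g ∈ centralizer ({t} : Set G) := by rw [e]; exact mul_mem ha hb
          refine ⟨hab, ?_⟩
          have : (⟨g⁻¹ * (a * b) * g, hab⟩ : centralizer ({t} : Set G)) =
            ⟨g⁻¹ * a * g, ha⟩ * ⟨g⁻¹ * b * g, hb⟩ := Subtype.ext e
          rw [this, map_mul, ha', hb', one_mul]
        inv_mem' := by
          rintro a ⟨ha, ha'⟩
          have e : g⁻¹ * a⁻¹ * g = (g⁻¹ * a * g)⁻¹ := by group
          have hab : g⁻¹ * a⁻¹ * g ∈ centralizer ({t} : Set G) := by rw [e]; exact inv_mem ha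
          refine ⟨hab, ?_⟩
          have : (⟨g⁻¹ * a⁻¹ * g, hab⟩ : centralizer ({t} : Set G)) = (⟨g⁻¹ * a * g, ha⟩)⁻¹ := Subtype.ext e
          rw [this, map_inv, ha', inv_one] }
    have hN : ∀ A : Subgroup G, (∀ a ∈ A, a * u = u * a) → ⁅A, A⁆ ≤ N := by
      intro A hA
      rw [commutator_le]
      intro a ha b hb
      have ha' : g⁻¹ * a * g ∈ centralizer ({t} : Set G) := comm_iff.2 (by rw [← hu]; exact hA a ha)
      have hb' : g⁻¹ * b * g ∈ centralizer ({t} : Set G) := comm_iff.2 (by rw [← hu]; exact hA b hb)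
      have e : g⁻¹ * ⁅a, b⁆ * g = (g⁻¹ * a * g) * (g⁻¹ * b * g) * (g⁻¹ * a * g)⁻¹ * (g⁻¹ * b * g)⁻¹ := by
        rw [commutatorElement_def]; group
      have hab : g⁻¹ * ⁅a, b⁆ * g ∈ centralizer ({t} : Set G) := by
        rw [e]; exact mul_mem (mul_mem (mul_mem ha' hb') (inv_mem ha')) (inv_mem hb')
      refine ⟨hab, ?_⟩
      have : (⟨g⁻¹ * ⁅a, b⁆ * g, hab⟩ : centralizer ({t} : Set G)) =
        ⟨g⁻¹ * a * g, ha'⟩ * ⟨g⁻¹ * b * g, hb'⟩ * (⟨g⁻¹ * a * g, ha'⟩)⁻¹ * (⟨g⁻¹ * b * g, hb'⟩)⁻¹ :=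
        Subtype.ext e
      rw [this, map_mul, map_mul, map_mul, map_inv, map_inv]
      rw [mul_comm (μ _) (μ _), mul_assoc, mul_assoc, mul_inv_cancel_left, mul_inv_cancel]
    rcases hg.cen u huu hut huy.symm (fun s hs => huD s (hSD hs)) with h3 | h3 | h3 | h3
    · exfalso
      rcases E.uniq u hut h3 huu with h4 | h4
      · rw [h4] at hu
        have h5 : t = g⁻¹ * 1 * g := by rw [hu]; group
        exact E.t1 (by rw [h5]; group)
      · exact hgt h4
    · exfalso
      have h4 : v * u * t = t * (v * u) := by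
        calc v * u * t = v * (u * t) := by group
          _ = (v * t) * u := by rw [hut]; group
          _ = t * (v * u) := by rw [hvt]; group
      have h5 : v * u * (v * u) = 1 := by
        calc v * u * (v * u) = v * (u * v) * u := by group
          _ = v * (v * u) * u := by rw [huv]
          _ = (v * v) * (u * u) := by group
          _ = 1 := by rw [hg.vv, huu, one_mul]
      obtain ⟨h6, h7⟩ := E.nc S₀ hST hl hlv g
      rw [← hu] at h6 h7
      rcases E.uniq _ h4 h3 h5 with h8 | h8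
      · apply h6
        have h9 : v * u = v * v := by rw [h8, hg.vv]
        exact mul_left_cancel h9
      · apply h7
        have h9 : v * u = v * (v * t) := by
          rw [h8]
          calc t = (v * v) * t := by rw [hg.vv, one_mul]
            _ = v * (v * t) := by group
        exact mul_left_cancel h9
    · -- `u` acts as `y`
      obtain ⟨c, hc⟩ : ∃ c, c = y⁻¹ * u := ⟨_, rfl⟩
      rw [← hc] at h3
      have huc : u = y * c := by rw [hc]; group
      have hpc : p * c * p⁻¹ = c := by rw [← h3 p hg.pK]; group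
      constructor
      · calc p * u * p⁻¹ = (p * y * p⁻¹) * (p * c * p⁻¹) := by rw [huc]; group
          _ = y * (v * c) := by rw [hg.py, hpc]; group
          _ = y * (c * v) := by rw [h3 v hvK]
          _ = u * v := by rw [huc]; group
      · apply hN (K ⊓ centralizer {y}) _ hg.vc
        rintro a ⟨haK, hay⟩
        have hay' : a * y = y * a := mem_centralizer_singleton_iff.1 hay
        calc a * u = (a * y) * c := by rw [huc]; group
          _ = y * (a * c) := by rw [hay']; group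
          _ = y * (c * a) := by rw [h3 a haK]
          _ = u * a := by rw [huc]; group
    · -- `u` acts as `y v`
      obtain ⟨c, hc⟩ : ∃ c, c = (y * v)⁻¹ * u := ⟨_, rfl⟩
      rw [← hc] at h3
      have huc : u = y * v * c := by rw [hc]; group
      have hpc : p * c * p⁻¹ = c := by rw [← h3 p hg.pK]; group
      constructor
      · calc p * u * p⁻¹ = (p * y * p⁻¹) * (p * v * p⁻¹) * (p * c * p⁻¹) := by rw [huc]; group
          _ = y * v * (v * c) := by rw [hg.py, hpc, hg.pv]; group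
          _ = y * v * (c * v) := by rw [h3 v hvK]
          _ = u * v := by rw [huc]; group
      · have h4 : p * v * p⁻¹ ∈ N := by
          have h5 : ⁅K ⊓ centralizer {y}, K ⊓ centralizer {y}⁆.map (MulAut.conj p).toMonoidHom ≤ N := by
            rw [map_commutator]
            apply hN
            rintro _ ⟨a, ⟨haK, hay⟩, rfl⟩
            have hay' : a * y = y * a := mem_centralizer_singleton_iff.1 hay
            show p * a * p⁻¹ * u = u * (p * a * p⁻¹)
            have hpa : p * a * p⁻¹ ∈ K := K.mul_mem (K.mul_mem hg.pK haK) (K.inv_mem hg.pK)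
            have h6 : p * a * p⁻¹ * (y * v) = y * v * (p * a * p⁻¹) := by
              rw [← hg.py]
              calc p * a * p⁻¹ * (p * y * p⁻¹) = p * (a * y) * p⁻¹ := by group
                _ = p * (y * a) * p⁻¹ := by rw [hay']
                _ = p * y * p⁻¹ * (p * a * p⁻¹) := by group
            calc p * a * p⁻¹ * u = (p * a * p⁻¹ * (y * v)) * c := by rw [huc]; group
              _ = y * v * ((p * a * p⁻¹) * c) := by rw [h6]; group
              _ = y * v * (c * (p * a * p⁻¹)) := by rw [h3 _ hpa]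
              _ = u * (p * a * p⁻¹) := by rw [huc]; group
          exact h5 ⟨v, hg.vc, rfl⟩
        rw [hg.pv] at h4
        exact h4
  -- the involution of the fixed cosets
  have hrest : ∏ q ∈ s.erase ((1 : G) : G ⧸ centralizer ({t} : Set G)), f q = 1 := by
    have hne : ∀ g : G, (g : G ⧸ centralizer ({t} : Set G)) ≠ ((1 : G) : G ⧸ centralizer ({t} : Set G)) ↔
        g * t * g⁻¹ ≠ t := by
      intro g
      rw [Ne, hco, one_mul, inv_one, mul_one]
    have hpconj : ∀ g : G, (p * g) * t * (p * g)⁻¹ = p * (g * t * g⁻¹) * p⁻¹ := by intro g; group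
    refine Finset.prod_involution (fun q _ => p • q) ?_ ?_ ?_ ?_
    · -- values
      intro q hq
      obtain ⟨g, rfl⟩ := QuotientGroup.mk_surjective q
      rw [Finset.mem_erase, hne] at hq
      obtain ⟨h2, h3, h4⟩ := key g hq.2 hq.1
      have h5 : g⁻¹ * y * g ∈ centralizer ({t} : Set G) := comm_iff.2 ((hsm g).1 hq.2).1
      have h6 : p⁻¹ * y * p = y * v := by
        have h7 : y = (p⁻¹ * y * p) * v := by
          calc y = p⁻¹ * (p * y * p⁻¹) * p := by group
            _ = p⁻¹ * (y * v) * p := by rw [hg.py]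
            _ = (p⁻¹ * y * p) * (p⁻¹ * v * p) := by group
            _ = (p⁻¹ * y * p) * (p⁻¹ * (p * v * p⁻¹) * p) := by rw [hg.pv]
            _ = (p⁻¹ * y * p) * v := by group
        calc p⁻¹ * y * p = (p⁻¹ * y * p) * (v * v) := by rw [hg.vv, mul_one]
          _ = ((p⁻¹ * y * p) * v) * v := by group
          _ = y * v := by rw [← h7]
      have h8 : (p * g)⁻¹ * y * (p * g) = (g⁻¹ * y * g) * (g⁻¹ * v * g) := by
        calc (p * g)⁻¹ * y * (p * g) = g⁻¹ * (p⁻¹ * y * p) * g := by group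
          _ = (g⁻¹ * y * g) * (g⁻¹ * v * g) := by rw [h6]; group
      have h9 : (p * g)⁻¹ * y * (p * g) ∈ centralizer ({t} : Set G) := by rw [h8]; exact mul_mem h5 h3
      have h10 : f (p • (g : G ⧸ centralizer ({t} : Set G))) = f (g : G ⧸ centralizer ({t} : Set G)) := by
        show f ((p * g : G) : G ⧸ centralizer ({t} : Set G)) = _
        rw [hf _ h9, hf _ h5]
        have h11 : (⟨(p * g)⁻¹ * y * (p * g), h9⟩ : centralizer ({t} : Set G)) =
          ⟨g⁻¹ * y * g, h5⟩ * ⟨g⁻¹ * v * g, h3⟩ := Subtype.ext h8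
        rw [h11, map_mul, h4, mul_one]
      rw [h10]
      exact Int.units_mul_self _
    · -- no fixed point
      intro q hq _ he
      obtain ⟨g, rfl⟩ := QuotientGroup.mk_surjective q
      rw [Finset.mem_erase, hne] at hq
      obtain ⟨h2, -⟩ := key g hq.2 hq.1
      have h3 : ((p * g : G) : G ⧸ centralizer ({t} : Set G)) = g := he
      rw [hco, hpconj, h2] at h3
      exact hg.v1 (mul_eq_left.1 h3)
    · -- membership
      intro q hq
      obtain ⟨g, rfl⟩ := QuotientGroup.mk_surjective q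
      rw [Finset.mem_erase, hne] at hq
      obtain ⟨h2, -⟩ := key g hq.2 hq.1
      have h3 := (hsm g).1 hq.2
      show ((p * g : G) : G ⧸ centralizer ({t} : Set G)) ∈ _
      rw [Finset.mem_erase, hne, hsm, hpconj, h2]
      refine ⟨?_, ?_, ?_⟩
      · intro h4
        apply (E.nc S₀ hST hl hlv g).2
        have hgv : g * t * g⁻¹ * v = v * (g * t * g⁻¹) := (h3.2 v (hSD hg.vS)).symm
        rw [hgv] at h4
        calc g * t * g⁻¹ = (v * v) * (g * t * g⁻¹) := by rw [hg.vv, one_mul]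
          _ = v * (v * (g * t * g⁻¹)) := by group
          _ = v * t := by rw [h4]
      · calc y * (g * t * g⁻¹ * v) = (y * (g * t * g⁻¹)) * v := by group
          _ = g * t * g⁻¹ * (y * v) := by rw [h3.1]; group
          _ = g * t * g⁻¹ * v * y := by rw [← hvy]; group
      · intro d hd
        calc d * (g * t * g⁻¹ * v) = (d * (g * t * g⁻¹)) * v := by group
          _ = g * t * g⁻¹ * (d * v) := by rw [h3.2 d hd]; group
          _ = g * t * g⁻¹ * v * d := by rw [hDv d hd]; group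
    · -- involution
      intro q hq
      obtain ⟨g, rfl⟩ := QuotientGroup.mk_surjective q
      rw [Finset.mem_erase, hne] at hq
      obtain ⟨h2, -⟩ := key g hq.2 hq.1
      show ((p * (p * g) : G) : G ⧸ centralizer ({t} : Set G)) = g
      rw [hco]
      calc p * (p * g) * t * (p * (p * g))⁻¹ = p * (p * (g * t * g⁻¹) * p⁻¹) * p⁻¹ := by group
        _ = p * (g * t * g⁻¹ * v) * p⁻¹ := by rw [h2]
        _ = (p * (g * t * g⁻¹) * p⁻¹) * (p * v * p⁻¹) := by group
        _ = g * t * g⁻¹ * v * v := by rw [h2, hg.pv]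
        _ = g * t * g⁻¹ * (v * v) := by group
        _ = g * t * g⁻¹ := by rw [hg.vv, mul_one]
  rw [h1, ← Finset.mul_prod_erase s f hq0, hf0, hrest, mul_one] at htr
  exact absurd htr (by decide)

end Env

end Cfsg.Agent.OddHalf.D6.QThree.TransferMu
end

-- part: OddHalf/D5/Setup
section
prune_inst 0x4102035640c20020000000592c1003c06fe000190002b800199e00e040686df6009022f60e4a01f00102a220400340068161810d46010000020000000411905a1802ad0049308a10427000980b087180c00000000000000000000000000041004200000000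
set_option linter.all false
open scoped Cfsg.Agent.FastGrp

-- merged: Cfsg.Agent.OddHalf.UQ4Alt
section

/-!
# Centralizers of order at least 4: the alternating groups of degree at least 7
-/

set_option autoImplicit false

namespace Cfsg.Agent.OddHalf.UQ4

open Subgroup Equiv

theorem exists_notMem {n : ℕ} (S : Finset (Fin n)) (h : S.card < n) : ∃ g, g ∉ S := by
  by_contra hcon
  push Not at hcon
  have : S = Finset.univ := Finset.eq_univ_of_forall hcon
  rw [this, Finset.card_univ, Fintype.card_fin] at h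
  exact lt_irrefl _ h

theorem sq_of_three {n : ℕ} {a b c : Fin n} (ab : a ≠ b) (ac : a ≠ c) (bc : b ≠ c) :
    (swap a b * swap a c) * (swap a b * swap a c) * ((swap a b * swap a c) * (swap a b * swap a c)) =
      swap a b * swap a c := by
  have h := (Perm.isThreeCycle_swap_mul_swap_same ab ac bc).orderOf
  have h2 : (swap a b * swap a c) ^ 3 = 1 := by rw [← h]; exact pow_orderOf_eq_one _
  set τ := swap a b * swap a c
  calc τ * τ * (τ * τ) = τ ^ 3 * τ := by rw [pow_succ, pow_two]; simp only [mul_assoc]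
    _ = τ := by rw [h2, one_mul]

theorem semi_swap {n : ℕ} {ρ : Perm (Fin n)} {x y x' y' : Fin n} (hx : ρ x = x') (hy : ρ y = y') :
    SemiconjBy ρ (swap x y) (swap x' y') := by
  show ρ * swap x y = swap x' y' * ρ
  rw [Equiv.mul_swap_eq_swap_mul, hx, hy]

theorem swap_comm' {n : ℕ} {x y z t : Fin n} (h : [x, y, z, t].Nodup) : Commute (swap x y) (swap z t) :=
  (Perm.disjoint_swap_swap h).commute

theorem alg {M : Type*} [Group M] {α β : M} (h : Commute α β) (h1 : α * α * (α * α) = α)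
    (h2 : β * β * (β * β) = β) : (α * α * (β * β)) * (α * α * (β * β)) = α * β := by
  have hc2 : Commute (α * α) (β * β) := (h.mul_right h).mul_left (h.mul_right h)
  calc α * α * (β * β) * (α * α * (β * β)) = α * α * ((β * β) * (α * α)) * (β * β) := by group
    _ = α * α * ((α * α) * (β * β)) * (β * β) := by rw [hc2.eq]
    _ = (α * α * (α * α)) * (β * β * (β * β)) := by group
    _ = α * β := by rw [h1, h2]

theorem four_cycle {n : ℕ} (hn : 7 ≤ n) (σ : Perm (Fin n)) (h2 : ∃ a, σ (σ a) ≠ a)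
    (h4 : ∀ a, σ (σ (σ (σ a))) = a)
    (H : ∀ τ : Perm (Fin n), Perm.sign τ = 1 → τ * (σ * σ) = σ * σ * τ → τ * τ * σ = σ * (τ * τ)) :
    Perm.sign σ = -1 ∧ ∃ τ : Perm (Fin n), Perm.sign τ = 1 ∧ τ * (σ * σ) = σ * σ * τ ∧ τ * σ ≠ σ * τ := by
  classical
  obtain ⟨a, ha⟩ := h2
  obtain ⟨b, hb⟩ : ∃ b, σ a = b := ⟨_, rfl⟩
  obtain ⟨c, hc⟩ : ∃ c, σ b = c := ⟨_, rfl⟩
  obtain ⟨d, hd⟩ : ∃ d, σ c = d := ⟨_, rfl⟩
  have hda : σ d = a := by rw [← hd, ← hc, ← hb]; exact h4 a
  have hca : c ≠ a := by rw [← hc, ← hb]; exact ha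
  have hba : b ≠ a := by
    intro h
    apply hca
    rw [← hc, h, hb, h]
  have hcb : c ≠ b := fun h => hba (σ.injective (by rw [hc, hb, h]))
  have hdc : d ≠ c := fun h => hcb (σ.injective (by rw [hd, hc, h]))
  have hdb : d ≠ b := fun h => hca (σ.injective (by rw [hd, hb, h]))
  have had : a ≠ d := fun h => hdc (σ.injective (by rw [hda, hd, h]))
  have hρa : (σ * σ) a = c := by rw [Perm.mul_apply, hb, hc]
  have hρb : (σ * σ) b = d := by rw [Perm.mul_apply, hc, hd]
  have hρc : (σ * σ) c = a := by rw [Perm.mul_apply, hd, hda]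
  have hρd : (σ * σ) d = b := by rw [Perm.mul_apply, hda, hb]
  -- no second 4-cycle
  have claim2 : ∀ e, e ≠ a → e ≠ b → e ≠ c → e ≠ d → σ (σ e) = e := by
    intro e ea eb ec ed
    by_contra he
    obtain ⟨f, hf⟩ : ∃ f, σ e = f := ⟨_, rfl⟩
    obtain ⟨g, hg⟩ : ∃ g, σ f = g := ⟨_, rfl⟩
    have hge : g ≠ e := by rw [← hg, ← hf]; exact he
    have hfe : f ≠ e := by
      intro h
      apply hge
      rw [← hg, h, hf, h]
    have hgf : g ≠ f := fun h => hfe (σ.injective (by rw [hg, hf, h]))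
    have fa : f ≠ a := fun h => ed (σ.injective (by rw [hf, hda, h]))
    have fb : f ≠ b := fun h => ea (σ.injective (by rw [hf, hb, h]))
    have fc : f ≠ c := fun h => eb (σ.injective (by rw [hf, hc, h]))
    have fd : f ≠ d := fun h => ec (σ.injective (by rw [hf, hd, h]))
    have ga : g ≠ a := fun h => fd (σ.injective (by rw [hg, hda, h]))
    have gb : g ≠ b := fun h => fa (σ.injective (by rw [hg, hb, h]))
    have gc : g ≠ c := fun h => fb (σ.injective (by rw [hg, hc, h]))
    have gd : g ≠ d := fun h => fc (σ.injective (by rw [hg, hd, h]))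
    have hρe : (σ * σ) e = g := by rw [Perm.mul_apply, hf, hg]
    have hρg : (σ * σ) g = e := by rw [Perm.mul_apply, ← hg, ← hf, h4]
    have hcomm : Commute (swap a b * swap a e) (swap c d * swap c g) := by
      have c1 : Commute (swap a b) (swap c d) := swap_comm' (by simp; (clear * - hca hba hcb hdc hdb had; tauto))
      have c2 : Commute (swap a b) (swap c g) := swap_comm' (by simp; (clear * - hca hba hcb ga gb gc; tauto))
      have c3 : Commute (swap a e) (swap c d) := swap_comm' (by simp; (clear * - hca hdc had ea ec ed; tauto))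
      have c4 : Commute (swap a e) (swap c g) := swap_comm' (by simp; (clear * - hca ea ec hge ga gc; tauto))
      exact (c1.mul_right c2).mul_left (c3.mul_right c4)
    have e1 : SemiconjBy (σ * σ) (swap a b * swap a e) (swap c d * swap c g) :=
      SemiconjBy.mul_right (semi_swap hρa hρb) (semi_swap hρa hρe)
    have e2 : SemiconjBy (σ * σ) (swap c d * swap c g) (swap a b * swap a e) :=
      SemiconjBy.mul_right (semi_swap hρc hρd) (semi_swap hρc hρg)
    have e3 := (e1.mul_right e1).mul_right (e2.mul_right e2)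
    have e4 : Commute ((swap a b * swap a e) * (swap a b * swap a e))
        ((swap c d * swap c g) * (swap c d * swap c g)) :=
      (hcomm.mul_right hcomm).mul_left (hcomm.mul_right hcomm)
    have hτ := H ((swap a b * swap a e) * (swap a b * swap a e) *
        ((swap c d * swap c g) * (swap c d * swap c g))) (by
      simp only [Perm.sign_mul, Perm.sign_swap hba.symm, Perm.sign_swap ea.symm, Perm.sign_swap hdc.symm,
        Perm.sign_swap gc.symm]
      rfl) (by
      rw [e3.eq, e4.eq])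
    rw [alg hcomm (sq_of_three hba.symm ea.symm eb.symm) (sq_of_three hdc.symm gc.symm gd.symm)] at hτ
    have h5 := DFunLike.congr_fun hτ f
    have k1 : (swap c d * swap c g) f = f := by
      rw [Perm.mul_apply, swap_apply_of_ne_of_ne fc (Ne.symm hgf), swap_apply_of_ne_of_ne fc fd]
    have k2 : (swap a b * swap a e) f = f := by
      rw [Perm.mul_apply, swap_apply_of_ne_of_ne fa hfe, swap_apply_of_ne_of_ne fa fb]
    have k3 : (swap c d * swap c g) g = d := by
      rw [Perm.mul_apply, swap_apply_right, swap_apply_left]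
    have k4 : (swap a b * swap a e) d = d := by
      rw [Perm.mul_apply, swap_apply_of_ne_of_ne had.symm (Ne.symm ed), swap_apply_of_ne_of_ne had.symm hdb]
    rw [Perm.mul_apply, hg, Perm.mul_apply, k3, k4, Perm.mul_apply, Perm.mul_apply, k1, k2, hg] at h5
    exact gd h5.symm
  -- no transposition
  have claim1 : ∀ e, e ≠ a → e ≠ b → e ≠ c → e ≠ d → σ e = e := by
    intro e ea eb ec ed
    by_contra he
    obtain ⟨f, hf⟩ : ∃ f, σ e = f := ⟨_, rfl⟩
    have hfe : f ≠ e := fun h => he (by rw [hf, h])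
    have hσf : σ f = e := by rw [← hf]; exact claim2 e ea eb ec ed
    have fa : f ≠ a := fun h => ed (σ.injective (by rw [hf, hda, h]))
    have fb : f ≠ b := fun h => ea (σ.injective (by rw [hf, hb, h]))
    have fc : f ≠ c := fun h => eb (σ.injective (by rw [hf, hc, h]))
    have fd : f ≠ d := fun h => ec (σ.injective (by rw [hf, hd, h]))
    obtain ⟨g, hg⟩ := exists_notMem ({a, b, c, d, e, f} : Finset (Fin n)) (lt_of_le_of_lt Finset.card_le_six (by omega))
    simp only [Finset.mem_insert, Finset.mem_singleton, not_or] at hg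
    obtain ⟨ga, gb, gc, gd, ge, gf⟩ := hg
    have hρe : (σ * σ) e = e := by rw [Perm.mul_apply, hf, hσf]
    have hρf : (σ * σ) f = f := by rw [Perm.mul_apply, hσf, hf]
    have hρg : (σ * σ) g = g := by rw [Perm.mul_apply]; exact claim2 g ga gb gc gd
    have e1 : SemiconjBy (σ * σ) (swap e f * swap e g) (swap e f * swap e g) :=
      SemiconjBy.mul_right (semi_swap hρe hρf) (semi_swap hρe hρg)
    have hτ := H ((swap e f * swap e g) * (swap e f * swap e g)) (by
      simp only [Perm.sign_mul, Perm.sign_swap (Ne.symm hfe), Perm.sign_swap (Ne.symm ge)]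
      rfl) (e1.mul_right e1).eq.symm
    rw [sq_of_three hfe.symm (Ne.symm ge) (Ne.symm gf)] at hτ
    have h5 := DFunLike.congr_fun hτ e
    have k1 : (swap e f * swap e g) f = e := by
      rw [Perm.mul_apply, swap_apply_of_ne_of_ne hfe (Ne.symm gf), swap_apply_right]
    have k2 : (swap e f * swap e g) e = g := by
      rw [Perm.mul_apply, swap_apply_left, swap_apply_of_ne_of_ne ge gf]
    rw [Perm.mul_apply, hf, k1, Perm.mul_apply, k2] at h5
    apply gf
    apply σ.injective
    rw [← h5, hσf]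
  constructor
  · -- `σ` is a 4-cycle
    have hσ : σ = swap a b * (swap b c * swap c d) := by
      ext x
      congr 1
      by_cases xa : x = a
      · subst xa
        rw [Perm.mul_apply, Perm.mul_apply, swap_apply_of_ne_of_ne (Ne.symm hca) had,
          swap_apply_of_ne_of_ne hba.symm hca.symm, swap_apply_left, hb]
      by_cases xb : x = b
      · subst xb
        rw [Perm.mul_apply, Perm.mul_apply, swap_apply_of_ne_of_ne (Ne.symm hcb) (Ne.symm hdb),
          swap_apply_left, swap_apply_of_ne_of_ne hca hcb, hc]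
      by_cases xc : x = c
      · subst xc
        rw [Perm.mul_apply, Perm.mul_apply, swap_apply_left, swap_apply_of_ne_of_ne hdb hdc,
          swap_apply_of_ne_of_ne had.symm hdb, hd]
      by_cases xd : x = d
      · subst xd
        rw [Perm.mul_apply, Perm.mul_apply, swap_apply_right, swap_apply_right, swap_apply_right, hda]
      · rw [Perm.mul_apply, Perm.mul_apply, swap_apply_of_ne_of_ne xc xd, swap_apply_of_ne_of_ne xb xc,
          swap_apply_of_ne_of_ne xa xb, claim1 x xa xb xc xd]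
    rw [hσ, Perm.sign_mul, Perm.sign_mul, Perm.sign_swap hba.symm, Perm.sign_swap hcb.symm, Perm.sign_swap hdc.symm]
    rfl
  · obtain ⟨e, he⟩ := exists_notMem ({a, b, c, d} : Finset (Fin n)) (lt_of_le_of_lt Finset.card_le_four (by omega))
    obtain ⟨f, hf⟩ := exists_notMem ({a, b, c, d, e} : Finset (Fin n)) (lt_of_le_of_lt Finset.card_le_five (by omega))
    simp only [Finset.mem_insert, Finset.mem_singleton, not_or] at he hf
    obtain ⟨ea, eb, ec, ed⟩ := he
    obtain ⟨fa, fb, fc, fd, fe⟩ := hf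
    have hρe : (σ * σ) e = e := by rw [Perm.mul_apply, claim1 e ea eb ec ed, claim1 e ea eb ec ed]
    have hρf : (σ * σ) f = f := by rw [Perm.mul_apply, claim1 f fa fb fc fd, claim1 f fa fb fc fd]
    refine ⟨swap a c * swap e f, ?_, ?_, ?_⟩
    · rw [Perm.sign_mul, Perm.sign_swap hca.symm, Perm.sign_swap (Ne.symm fe)]
      rfl
    · have e1 : SemiconjBy (σ * σ) (swap a c * swap e f) (swap c a * swap e f) :=
        SemiconjBy.mul_right (semi_swap hρa hρc) (semi_swap hρe hρf)
      rw [e1.eq, swap_comm c a]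
    · intro h
      have h5 := DFunLike.congr_fun h a
      rw [Perm.mul_apply, Perm.mul_apply, Perm.mul_apply, Perm.mul_apply, hb,
        swap_apply_of_ne_of_ne (Ne.symm eb) (Ne.symm fb), swap_apply_of_ne_of_ne hba (Ne.symm hcb),
        swap_apply_of_ne_of_ne (Ne.symm ea) (Ne.symm fa), swap_apply_left, hd] at h5
      exact hdb h5.symm

/-- The alternating groups of degree at least 7. -/
theorem kfact_alt {n : ℕ} (hn : 7 ≤ n) : KFact (alternatingGroup (Fin n)) := by
  classical
  intro α h1 h2 h3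
  obtain ⟨ψ, hψ⟩ := StandardComponent.AltAut.exists_autHom n hn
  have hmem : ∀ x : Perm (Fin n), x ∈ alternatingGroup (Fin n) ↔ Perm.sign x = 1 := fun x =>
    Perm.mem_alternatingGroup
  -- `α² = conj σ²`
  have hα2 : ∀ x : alternatingGroup (Fin n), ((α (α x) : alternatingGroup (Fin n)) : Perm (Fin n)) =
      (ψ α * ψ α) * x * (ψ α * ψ α)⁻¹ := by
    intro x
    rw [hψ, hψ, mul_inv_rev]
    simp only [mul_assoc]
  have hψ1 : ∀ β : MulAut (alternatingGroup (Fin n)), (∀ x, β x = x) → ψ β = 1 := by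
    intro β hβ
    have : β = 1 := MulEquiv.ext hβ
    rw [this, map_one]
  have h4 : ψ α * ψ α * (ψ α * ψ α) = 1 := by
    rw [← map_mul, ← map_mul]
    exact hψ1 _ h2
  obtain ⟨hs, τ, hτ1, hτ2, hτ3⟩ := four_cycle hn (ψ α) (by
    by_contra hcon
    push Not at hcon
    obtain ⟨x, hx⟩ := h1
    apply hx
    apply Subtype.ext
    have h5 : ψ α * ψ α = 1 := Equiv.ext hcon
    rw [hα2, h5, one_mul, inv_one, mul_one]) (by
    intro a
    exact DFunLike.congr_fun h4 a) (by
    intro τ hτ1 hτ2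
    have h5 := h3 ⟨τ, (hmem τ).2 hτ1⟩ (by
      apply Subtype.ext
      rw [hα2]
      show ψ α * ψ α * τ * (ψ α * ψ α)⁻¹ = τ
      rw [← hτ2]
      group)
    have h6 := congrArg Subtype.val h5
    rw [hψ] at h6
    exact (mul_inv_eq_iff_eq_mul.1 h6).symm)
  refine ⟨⟨⟨ψ α * ψ α, ?_⟩, ?_⟩, ?_, ⟨τ, (hmem τ).2 hτ1⟩, ?_, ?_⟩
  · rw [hmem, Perm.sign_mul, hs]
    rfl
  · intro h
    apply Subtype.ext
    rw [hα2]
    rfl
  · rintro ⟨y, hy⟩
    have h5 : ψ α = (y : Perm (Fin n)) := by
      obtain ⟨m, rfl⟩ : ∃ m, n = m + 2 := ⟨n - 2, by omega⟩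
      apply StandardComponent.AltAut.conj_unique (m := m) (by omega)
      intro x
      have h6 := congrArg Subtype.val (hy x)
      rw [hψ] at h6
      exact h6
    have h7 := (hmem _).1 y.2
    rw [← h5, hs] at h7
    exact absurd h7 (by decide)
  · apply Subtype.ext
    rw [hα2]
    show ψ α * ψ α * τ * (ψ α * ψ α)⁻¹ = τ
    rw [← hτ2]
    group
  · intro h
    apply hτ3
    have h6 := congrArg Subtype.val h
    rw [hψ] at h6
    exact (mul_inv_eq_iff_eq_mul.1 h6).symm

/-- `Aut(A_n)/A_n` has order at most 2. -/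
def OutTwo (X : Type*) [Group X] : Prop := ∀ α β : MulAut X, (¬ ∃ y : X, ∀ h, α h = y * h * y⁻¹) →
  (¬ ∃ y : X, ∀ h, β h = y * h * y⁻¹) → ∃ y : X, ∀ h, (α⁻¹ * β) h = y * h * y⁻¹

theorem OutTwo.congr {X Y : Type*} [Group X] [Group Y] (e : X ≃* Y) (h : OutTwo X) : OutTwo Y := by
  intro α β h1 h2
  have key : ∀ γ : MulAut Y, (∃ y : X, ∀ h, (MulAut.congr e.symm γ) h = y * h * y⁻¹) ↔
      ∃ y : Y, ∀ h, γ h = y * h * y⁻¹ := by
    intro γ
    have hγ : ∀ x, (MulAut.congr e.symm γ) x = e.symm (γ (e x)) := fun x => rfl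
    constructor
    · rintro ⟨y, hy⟩
      refine ⟨e y, fun x => ?_⟩
      have h3 := hy (e.symm x)
      rw [hγ, e.apply_symm_apply] at h3
      rw [← e.apply_symm_apply (γ x), h3, map_mul, map_mul, map_inv, e.apply_symm_apply]
    · rintro ⟨y, hy⟩
      refine ⟨e.symm y, fun x => ?_⟩
      rw [hγ, hy, map_mul, map_mul, map_inv, e.symm_apply_apply]
  have h3 := h (MulAut.congr e.symm α) (MulAut.congr e.symm β) (fun hh => h1 ((key α).1 hh))
    (fun hh => h2 ((key β).1 hh))
  rw [← map_inv, ← map_mul] at h3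
  exact (key _).1 h3

theorem outTwo_alt {n : ℕ} (hn : 7 ≤ n) : OutTwo (alternatingGroup (Fin n)) := by
  classical
  intro α β h1 h2
  obtain ⟨ψ, hψ⟩ := StandardComponent.AltAut.exists_autHom n hn
  have hmem : ∀ x : Perm (Fin n), x ∈ alternatingGroup (Fin n) ↔ Perm.sign x = 1 := fun x =>
    Perm.mem_alternatingGroup
  have key : ∀ γ : MulAut (alternatingGroup (Fin n)), Perm.sign (ψ γ) = 1 →
      ∃ y : alternatingGroup (Fin n), ∀ h, γ h = y * h * y⁻¹ := by
    intro γ hγ
    exact ⟨⟨ψ γ, (hmem _).2 hγ⟩, fun h => Subtype.ext (hψ γ h)⟩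
  have hneg : ∀ γ : MulAut (alternatingGroup (Fin n)),
      (¬ ∃ y : alternatingGroup (Fin n), ∀ h, γ h = y * h * y⁻¹) → Perm.sign (ψ γ) = -1 := by
    intro γ hγ
    rcases Int.units_eq_one_or (Perm.sign (ψ γ)) with h | h
    · exact absurd (key γ h) hγ
    · exact h
  apply key
  rw [map_mul, map_inv, Perm.sign_mul, Perm.sign_inv, hneg α h1, hneg β h2]
  rfl

variable {G : Type*} [Group G] {t : G} {K : Subgroup G}

theorem Fr.inRK_iff (F : Fr t K) {x : G} (hx : x * t = t * x) :
    InRK t K x ↔ ∃ y : K, ∀ h, F.conjAut x hx h = y * h * y⁻¹ := by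
  constructor
  · rintro ⟨k, hk, h⟩
    refine ⟨⟨k, hk⟩, fun z => Subtype.ext ?_⟩
    show x * (z : G) * x⁻¹ = k * z * k⁻¹
    have h1 := (mem_RR.1 h).2 (k * z * k⁻¹) (K.mul_mem (K.mul_mem hk z.2) (K.inv_mem hk))
    calc x * (z : G) * x⁻¹ = x * k⁻¹ * (k * z * k⁻¹) * (x * k⁻¹)⁻¹ := by group
      _ = k * z * k⁻¹ := by rw [h1]; group
  · rintro ⟨k, hk⟩
    refine ⟨k, k.2, mem_RR.2 ⟨?_, ?_⟩⟩
    · have h1 := F.le _ (K.inv_mem k.2)
      calc x * (k : G)⁻¹ * t = x * (t * (k : G)⁻¹) := by rw [h1]; group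
        _ = x * t * (k : G)⁻¹ := by group
        _ = t * (x * (k : G)⁻¹) := by rw [hx]; group
    · intro z hz
      have h0 := congrArg Subtype.val (hk (k⁻¹ * (⟨z, hz⟩ : K) * k))
      have h1 : x * ((k : G)⁻¹ * z * k) * x⁻¹ = z := by
        refine Eq.trans (b := (k : G) * ((k : G)⁻¹ * z * k) * (k : G)⁻¹) h0 ?_
        group
      calc x * (k : G)⁻¹ * z = x * ((k : G)⁻¹ * z * k) * x⁻¹ * (x * (k : G)⁻¹) := by group
        _ = z * (x * (k : G)⁻¹) := by rw [h1]

theorem Fr.idx (F : Fr t K) (h : OutTwo K) (x y : G) (hx : x * t = t * x) (hy : y * t = t * y)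
    (h1 : ¬ InRK t K x) (h2 : ¬ InRK t K y) : InRK t K (x⁻¹ * y) := by
  rw [F.inRK_iff hx] at h1
  rw [F.inRK_iff hy] at h2
  have hx' : x⁻¹ * t = t * x⁻¹ := by
    calc x⁻¹ * t = x⁻¹ * (t * x) * x⁻¹ := by group
      _ = t * x⁻¹ := by rw [← hx]; group
  have hxy : x⁻¹ * y * t = t * (x⁻¹ * y) := by
    calc x⁻¹ * y * t = x⁻¹ * (y * t) := by group
      _ = x⁻¹ * t * y := by rw [hy]; group
      _ = t * (x⁻¹ * y) := by rw [hx']; group
  rw [F.inRK_iff hxy]
  obtain ⟨z, hz⟩ := h _ _ h1 h2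
  refine ⟨z, fun w => ?_⟩
  rw [← hz]
  apply Subtype.ext
  show x⁻¹ * y * (w : G) * (x⁻¹ * y)⁻¹ = x⁻¹ * (y * w * y⁻¹) * x
  group

/-- **`|R| ≥ 4` is impossible** if `R` is cyclic, `|Out K| ≤ 2` and `K` satisfies `KFact`. -/
theorem Fr.main_out [Finite G] (F : Fr t K)
    (hz : ∃ g : G, g * t * g⁻¹ ≠ t ∧ g * t * g⁻¹ * t = t * (g * t * g⁻¹))
    (hR : IsCyclic ↥(RR t K)) (O : OutTwo K) (P : KFact K) : False := by
  classical
  have hab : ∀ x ∈ RR t K, ∀ y ∈ RR t K, x * y = y * x := by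
    intro x hx y hy
    letI := hR.commGroup
    exact congrArg Subtype.val (mul_comm (⟨x, hx⟩ : RR t K) ⟨y, hy⟩)
  refine F.main hz (F.idx O) hab ?_ P
  intro x hx y hy hxx hyy
  have h1 : (x⁻¹ * y) * (x⁻¹ * y) = 1 := by
    calc (x⁻¹ * y) * (x⁻¹ * y) = x⁻¹ * (y * x⁻¹) * y := by group
      _ = x⁻¹ * (x⁻¹ * y) * y := by rw [hab y hy _ (inv_mem hx)]
      _ = (x * x)⁻¹ * (y * y) := by group
      _ = 1 := by rw [hxx, hyy]; group
  have h2 := mem_RR.1 (mul_mem (inv_mem hx) hy)
  rcases F.uni _ h2.1 h2.2 h1 with h | h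
  · left
    calc y = x * (x⁻¹ * y) := by group
      _ = x := by rw [h, mul_one]
  · right
    calc y = x * (x⁻¹ * y) := by group
      _ = x * t := by rw [h]

/-- **`|R| ≥ 4` is impossible** for `K = A_n`, `n ≥ 7`. -/
theorem Fr.main_alt [Finite G] (F : Fr t K)
    (hz : ∃ g : G, g * t * g⁻¹ ≠ t ∧ g * t * g⁻¹ * t = t * (g * t * g⁻¹))
    (hR : IsCyclic ↥(RR t K)) {n : ℕ} (hn : 7 ≤ n) (e : K ≃* alternatingGroup (Fin n)) : False :=
  F.main_out hz hR ((outTwo_alt hn).congr e.symm) ((kfact_alt hn).congr e.symm)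

end Cfsg.Agent.OddHalf.UQ4

end

-- merged: Cfsg.Agent.OddHalf.D5.Setup
section

/-!
# ODD D5: the front end

`front`: the general facts on an involution `t` centralizing the standard subgroup `K ≅ A_n`, `n ≥ 5`, `C(K)` with
cyclic Sylow 2-subgroups. `front_gen`: for `n ≥ 7` the group `C_G(t) ∩ C_G(K)` is `⟨t⟩` and `Gen t φ K` holds for
some `φ : C_G(t) →* Perm (Fin n)`.
-/

set_option autoImplicit false

namespace Cfsg.Agent.OddHalf.D5

open Subgroup Equiv Cfsg Cfsg.Agent.OddHalf.Iface Cfsg.Agent.OddHalf.UQ4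

universe u

/-- the general facts -/
structure Front {G : Type u} [Group G] (t : G) (K : Subgroup G) : Prop where
  t1 : t ≠ 1
  tt : t * t = 1
  tK : t ∉ K
  le : ∀ k ∈ K, t * k = k * t
  norm : ∀ x, x * t = t * x → ∀ k ∈ K, x * k * x⁻¹ ∈ K
  uni : ∀ x, x * t = t * x → (∀ k ∈ K, x * k = k * x) → x * x = 1 → x = 1 ∨ x = t
  odd : ∀ N : Subgroup G, N ≤ K → (∀ k ∈ K, ∀ n ∈ N, k * n * k⁻¹ ∈ N) → Odd (Nat.card N) → N = ⊥
  /-- Glauberman's theorem -/
  hz : ∃ g : G, g * t * g⁻¹ ≠ t ∧ g * t * g⁻¹ * t = t * (g * t * g⁻¹)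
  cyc : IsCyclic ↥(RR t K)
  p2 : IsPGroup 2 ↥(RR t K)

variable {G : Type u} [Group G]

theorem even_card_alt {n : ℕ} (hn : 5 ≤ n) : Even (Nat.card (alternatingGroup (Fin n))) := by
  have hnt : Nontrivial (Fin n) := Fin.nontrivial_iff_two_le.2 (by omega)
  have h1 : 2 * Nat.card (alternatingGroup (Fin n)) = Nat.card (Perm (Fin n)) :=
    two_mul_nat_card_alternatingGroup
  rw [Nat.card_perm, Nat.card_fin] at h1
  have h2 : 4 ∣ n.factorial := (by decide : 4 ∣ Nat.factorial 4).trans (Nat.factorial_dvd_factorial (by omega))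
  rw [even_iff_two_dvd]
  omega

theorem center_eq_bot {n : ℕ} (hn : 5 ≤ n) {K : Subgroup G} (e : ↥K ≃* ↥(alternatingGroup (Fin n))) :
    center ↥K = ⊥ := by
  have hs : IsSimpleGroup (alternatingGroup (Fin n)) := alternatingGroup.isSimpleGroup (by simpa only [_root_.Nat.card_eq_fintype_card, _root_.Fintype.card_fin] using hn)
  have hc : center (alternatingGroup (Fin n)) = ⊥ := by
    exact alternatingGroup.center_eq_bot (α := Fin n) (by simp only [_root_.Nat.card_eq_fintype_card, _root_.Fintype.card_fin]; omega)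
  rw [eq_bot_iff]
  intro x hx
  have : e x ∈ center (alternatingGroup (Fin n)) := by
    rw [mem_center_iff] at hx ⊢
    intro g
    obtain ⟨y, rfl⟩ := e.surjective g
    rw [← map_mul, hx y, map_mul]
  rw [hc, mem_bot] at this
  rw [mem_bot]
  exact e.injective (this.trans (map_one e).symm)

theorem isSimple_of {n : ℕ} (hn : 5 ≤ n) {K : Subgroup G} (e : ↥K ≃* ↥(alternatingGroup (Fin n))) :
    IsSimpleGroup ↥K := by
  have hs : IsSimpleGroup (alternatingGroup (Fin n)) := alternatingGroup.isSimpleGroup (by simpa only [_root_.Nat.card_eq_fintype_card, _root_.Fintype.card_fin] using hn)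
  exact (MulEquiv.isSimpleGroup_congr e).2 hs

/-- the general facts hold for every involution centralizing `K` -/
theorem front_of (C : Ctx G) {K : Subgroup G} (S : IsStandardSubgroup K) (hcyc : Cyc K) {n : ℕ} (hn : 5 ≤ n)
    (e : ↥K ≃* ↥(alternatingGroup (Fin n))) {t : G} (ht : orderOf t = 2)
    (htK : t ∈ centralizer (K : Set G)) : Front t K := by
  have := C.fin
  have hsG := C.simple
  have : Fact (Nat.Prime 2) := ⟨Nat.prime_two⟩
  have hsK : IsSimpleGroup ↥K := isSimple_of hn e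
  have hcK : center ↥K = ⊥ := center_eq_bot hn e
  have ht1 : t ≠ 1 := by rintro rfl; rw [orderOf_one] at ht; norm_num at ht
  have htt : t * t = 1 := by rw [← pow_two, ← ht, pow_orderOf_eq_one]
  have hle : ∀ k ∈ K, t * k = k * t := fun k hk => (mem_centralizer_iff.1 htK k hk).symm
  have hCN := (Cfsg.Agent.S1754.result K S t ht htK).1
  have hnorm : ∀ x, x * t = t * x → ∀ k ∈ K, x * k * x⁻¹ ∈ K := by
    intro x hx k hk
    exact (mem_normalizer_iff.1 (hCN (mem_centralizer_singleton_iff.2 hx)) k).1 hk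
  have htnK : t ∉ K := by
    intro h
    have h1 : (⟨t, h⟩ : K) ∈ center ↥K := by
      rw [mem_center_iff]
      intro k
      exact Subtype.ext (hle k k.2).symm
    rw [hcK, mem_bot] at h1
    exact ht1 (congrArg Subtype.val h1)
  have huni : ∀ x, x * t = t * x → (∀ k ∈ K, x * k = k * x) → x * x = 1 → x = 1 ∨ x = t := by
    intro x hx hxK hxx
    by_contra hne
    push Not at hne
    have hxC : x ∈ centralizer (K : Set G) := mem_centralizer_iff.2 fun k hk => (hxK k hk).symm
    obtain ⟨W, hW, -⟩ := Cfsg.Agent.S0502.exists_klein (a := (⟨x, hxC⟩ : ↥(centralizer (K : Set G))))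
      (b := ⟨t, htK⟩) (Subtype.ext (by rw [← pow_two] at hxx; exact hxx))
      (Subtype.ext (by rw [← pow_two] at htt; exact htt))
      (fun h => hne.1 (congrArg Subtype.val h)) (fun h => ht1 (congrArg Subtype.val h))
      (fun h => hne.2 (congrArg Subtype.val h)) (Subtype.ext hx)
    have hWp : IsPGroup 2 W := IsPGroup.of_card (n := 2) (by rw [hW.card_four]; norm_num)
    obtain ⟨P, hP⟩ := hWp.exists_le_sylow
    have hPc := hcyc P
    have hWc : IsCyclic W :=
      isCyclic_of_injective (Subgroup.inclusion hP) (Subgroup.inclusion_injective hP)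
    exact hW.not_isCyclic hWc
  have hodd : ∀ N : Subgroup G, N ≤ K → (∀ k ∈ K, ∀ n ∈ N, k * n * k⁻¹ ∈ N) → Odd (Nat.card N) → N = ⊥ := by
    intro N hNK hN hNo
    have h1 : (N.subgroupOf K).Normal := ⟨fun x hx k => by
      rw [mem_subgroupOf] at hx ⊢
      exact hN k k.2 _ hx⟩
    rcases hsK.eq_bot_or_eq_top_of_normal _ h1 with h2 | h2
    · rw [subgroupOf_eq_bot] at h2
      exact (disjoint_iff.1 h2) ▸ (inf_eq_left.2 hNK).symm
    · exfalso
      have h3 : K ≤ N := by rwa [subgroupOf_eq_top] at h2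
      have h4 : N = K := le_antisymm hNK h3
      rw [h4, Nat.card_congr e.toEquiv] at hNo
      exact (Nat.not_even_iff_odd.2 hNo) (even_card_alt hn)
  have hz : ∃ g : G, g * t * g⁻¹ ≠ t ∧ g * t * g⁻¹ * t = t * (g * t * g⁻¹) := by
    rcases zstar ht1 htt with h | ⟨N, hN, hNo, hNt⟩
    · exact h
    exfalso
    rcases hsG.eq_bot_or_eq_top_of_normal N hN with h1 | h1
    · -- `t` is central
      have h2 : ∀ g, t * g = g * t := by
        intro g
        have h3 := hNt g
        rw [h1, mem_bot, mul_inv_eq_one, mul_inv_eq_iff_eq_mul] at h3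
        exact h3
      have h3 : t ∈ center G := mem_center_iff.2 fun g => (h2 g).symm
      rcases hsG.eq_bot_or_eq_top_of_normal (center G) inferInstance with h4 | h4
      · rw [h4, mem_bot] at h3
        exact ht1 h3
      · apply C.na
        refine ⟨⟨fun a b => ?_⟩⟩
        have : b ∈ center G := by rw [h4]; trivial
        exact (mem_center_iff.1 this) a
    · rw [h1, card_top] at hNo
      have h2 : 2 ∣ Nat.card G := by rw [← ht]; exact _root_.orderOf_dvd_natCard t
      exact (Nat.not_even_iff_odd.2 hNo) (even_iff_two_dvd.2 h2)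
  have hRRn : ((RR t K).subgroupOf (centralizer ({t} : Set G))).Normal := by
    refine ⟨fun x hx g => ?_⟩
    rw [mem_subgroupOf, mem_RR] at hx ⊢
    have hg := mem_centralizer_singleton_iff.1 g.2
    refine ⟨mem_centralizer_singleton_iff.1 (g * x * g⁻¹).2, fun k hk => ?_⟩
    have hg' : (g : G)⁻¹ * t = t * (g : G)⁻¹ := by
      rw [inv_mul_eq_iff_eq_mul, ← mul_assoc, hg, mul_inv_cancel_right]
    have h1 := hnorm _ hg' k hk
    rw [inv_inv] at h1
    have h2 := hx.2 _ h1
    show (g : G) * x * (g : G)⁻¹ * k = k * (g * x * (g : G)⁻¹)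
    calc (g : G) * x * (g : G)⁻¹ * k = g * (x * ((g : G)⁻¹ * k * g)) * (g : G)⁻¹ := by group
      _ = k * (g * x * (g : G)⁻¹) := by rw [h2]; group
  have hcore : pPrimeCore 2 ↥(RR t K) = ⊥ := by
    have h3 := Lib.PComponents.map_pPrimeCore_le_of_isSubnormal (p := 2) hRRn.isSubnormal
    have h4 : pPrimeCore 2 ↥(centralizer ({t} : Set G)) = ⊥ := by
      have hb := C.bal t ht
      unfold centralizerPPrimeCore at hb
      exact (Subgroup.map_eq_bot_iff_of_injective _ (Subgroup.subtype_injective _)).1 hb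
    rw [h4, le_bot_iff, Subgroup.map_eq_bot_iff_of_injective _ (Subgroup.subtype_injective _)] at h3
    have e' : ↥((RR t K).subgroupOf (centralizer ({t} : Set G))) ≃* ↥(RR t K) :=
      Subgroup.subgroupOfEquivOfLe inf_le_left
    have h5 := Lib.Cores.map_equiv_pPrimeCore e' 2
    rw [h3, Subgroup.map_bot] at h5
    exact h5.symm
  have hmin : (Nat.card ↥(RR t K)).minFac = 2 := by
    rw [Nat.minFac_eq_two_iff]
    have : orderOf (⟨t, mem_RR.2 ⟨rfl, hle⟩⟩ : RR t K) = 2 := by rw [Subgroup.orderOf_mk]; exact ht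
    rw [← this]
    exact _root_.orderOf_dvd_natCard _
  have hSyl : ∀ P : Sylow 2 ↥(RR t K), IsCyclic P := by
    intro P
    have hle' : RR t K ≤ centralizer (K : Set G) := inf_le_right
    have h1 : IsPGroup 2 ((P : Subgroup (RR t K)).map (Subgroup.inclusion hle')) := P.isPGroup'.map _
    obtain ⟨Q, hQ⟩ := h1.exists_le_sylow
    have hQc := hcyc Q
    have h2 : IsCyclic ((P : Subgroup (RR t K)).map (Subgroup.inclusion hle')) :=
      isCyclic_of_injective (Subgroup.inclusion hQ) (Subgroup.inclusion_injective hQ)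
    exact isCyclic_of_injective
      ((P : Subgroup (RR t K)).equivMapOfInjective _ (Subgroup.inclusion_injective hle')).toMonoidHom
      (MulEquiv.injective _)
  obtain ⟨P⟩ : Nonempty (Sylow 2 ↥(RR t K)) := inferInstance
  have hPc := hSyl P
  have hcomp := IsCyclic.isComplement' hmin (P := P) hPc
  have hker : (MonoidHom.transferSylow P (hPc.normalizer_le_centralizer hmin)).ker = ⊥ := by
    rw [eq_bot_iff, ← hcore]
    refine Lib.Cores.le_pPrimeCore inferInstance ?_
    have h1 : Nat.card (MonoidHom.transferSylow P (hPc.normalizer_le_centralizer hmin)).ker =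
        (P : Subgroup ↥(RR t K)).index := by
      rw [hcomp.index_eq_card]
    rw [h1]
    exact (Nat.Prime.coprime_iff_not_dvd Nat.prime_two).2 P.not_dvd_index |>.symm
  rw [hker] at hcomp
  have hPtop : (P : Subgroup ↥(RR t K)) = ⊤ := isComplement'_bot_left.1 hcomp
  refine ⟨ht1, htt, htnK, hle, hnorm, huni, hodd, hz, ?_, ?_⟩
  · have h1 : IsCyclic (⊤ : Subgroup ↥(RR t K)) := by rw [← hPtop]; exact hPc
    exact isCyclic_of_injective (Subgroup.topEquiv.symm : ↥(RR t K) ≃* _).toMonoidHom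
      (MulEquiv.injective _)
  · have h1 : IsPGroup 2 (⊤ : Subgroup ↥(RR t K)) := by rw [← hPtop]; exact P.isPGroup'
    exact h1.of_injective (Subgroup.topEquiv.symm : ↥(RR t K) ≃* _).toMonoidHom (MulEquiv.injective _)

/-- an involution `t` as in `Front` exists -/
theorem exists_front (C : Ctx G) {K : Subgroup G} (S : IsStandardSubgroup K)
    (hcomp : ∃ t : G, orderOf t = 2 ∧ CompOf t K) (hcyc : Cyc K) {n : ℕ} (hn : 5 ≤ n)
    (e : ↥K ≃* ↥(alternatingGroup (Fin n))) : ∃ t : G, Front t K := by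
  obtain ⟨t, ht, h1, -⟩ := hcomp
  exact ⟨t, front_of C S hcyc hn e ht (mem_centralizer_iff.2 fun k hk =>
    mem_centralizer_singleton_iff.1 (h1 hk))⟩

namespace Front

variable {t : G} {K : Subgroup G}

/-- `t` is not a square in `C(K)`: `C_G(t) ∩ C_G(K) = ⟨t⟩` -/
theorem eq_of_mem_RR (F : Front t K) (h : ¬ ∃ r, (∀ k ∈ K, r * k = k * r) ∧ r * r = t) {x : G}
    (hx : x ∈ RR t K) : x = 1 ∨ x = t := by
  obtain ⟨hxt, hxK⟩ := mem_RR.1 hx
  obtain ⟨k, hk⟩ := (IsPGroup.iff_orderOf.1 F.p2) ⟨x, hx⟩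
  rcases Nat.lt_or_ge k 1 with h0 | h0
  · left
    obtain rfl : k = 0 := by omega
    rw [pow_zero, orderOf_eq_one_iff] at hk
    exact congrArg Subtype.val hk
  · -- the power `x ^ (2 ^ (k - 1))` is the involution `t`
    obtain ⟨m, rfl⟩ : ∃ m, k = m + 1 := ⟨k - 1, by omega⟩
    rw [Subgroup.orderOf_mk] at hk
    have h1 : x ^ (2 ^ m) * x ^ (2 ^ m) = 1 := by
      rw [← pow_add, ← two_mul, ← pow_succ', ← hk, pow_orderOf_eq_one]
    have hcomm : ∀ j : ℕ, x ^ j * t = t * x ^ j := fun j => ((show Commute x t from hxt).pow_left j).eq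
    have hcommK : ∀ j : ℕ, ∀ k ∈ K, x ^ j * k = k * x ^ j := fun j k hk =>
      ((show Commute x k from hxK k hk).pow_left j).eq
    rcases F.uni _ (hcomm _) (hcommK _) h1 with h2 | h2
    · exfalso
      have h3 := orderOf_dvd_of_pow_eq_one h2
      rw [hk, Nat.pow_dvd_pow_iff_le_right (by norm_num)] at h3
      omega
    · rcases Nat.eq_zero_or_pos m with rfl | hm
      · rw [pow_zero, pow_one] at h2
        exact Or.inr h2
      · exfalso
        obtain ⟨j, rfl⟩ : ∃ j, m = j + 1 := ⟨m - 1, by omega⟩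
        apply h
        refine ⟨x ^ (2 ^ j), hcommK _, ?_⟩
        rw [← pow_add, ← two_mul, ← pow_succ']
        exact h2

/-- with `four` -/
theorem fr (F : Front t K) (h : ∃ r, (∀ k ∈ K, r * k = k * r) ∧ r * r = t) : Fr t K :=
  ⟨F.t1, F.tt, F.tK, F.le, F.norm, F.uni, F.odd, h⟩

/-- `|R| = 2` for `n ≥ 7` -/
theorem not_four [Finite G] (F : Front t K) {n : ℕ} (hn : 7 ≤ n) (e : ↥K ≃* ↥(alternatingGroup (Fin n))) :
    ¬ ∃ r, (∀ k ∈ K, r * k = k * r) ∧ r * r = t :=
  fun h => (F.fr h).main_alt F.hz F.cyc hn e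

/-- `Gen t φ K` for `n ≥ 7` -/
theorem gen [Finite G] (F : Front t K) {n : ℕ} (hn : 7 ≤ n) (e : ↥K ≃* ↥(alternatingGroup (Fin n))) :
    ∃ φ : centralizer ({t} : Set G) →* Perm (Fin n), Gen t φ K := by
  have h4 := F.not_four hn e
  obtain ⟨L, hL⟩ := StdAlt.Lab.exists_lab n hn e
  have hN : ∀ x, x * t = t * x → x ∈ normalizer (K : Set G) := by
    intro x hx
    exact StdAlt.Conj.mem_N_of (F.norm x hx)
  have hN' : ∀ x : centralizer ({t} : Set G), (x : G) ∈ normalizer (K : Set G) := fun x =>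
    hN x (mem_centralizer_singleton_iff.1 x.2)
  let φ : centralizer ({t} : Set G) →* Perm (Fin n) :=
    { toFun := fun x => L.φ x
      map_one' := L.one
      map_mul' := fun x y => L.mul _ _ (hN' x) (hN' y) }
  have hφ : ∀ x : centralizer ({t} : Set G), φ x = L.φ x := fun _ => rfl
  have hker : ∀ g : centralizer ({t} : Set G), φ g = 1 ↔ (g : G) = 1 ∨ (g : G) = t := by
    intro g
    rw [hφ, L.ker _ (hN' g)]
    constructor
    · intro h
      apply F.eq_of_mem_RR h4
      rw [mem_RR]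
      exact ⟨mem_centralizer_singleton_iff.1 g.2, StdAlt.Conj.mem_C.1 h⟩
    · rintro (h | h)
      · rw [h]; exact one_mem _
      · rw [h]; exact StdAlt.Conj.mem_C.2 F.le
  have hle : K ≤ centralizer ({t} : Set G) := fun k hk =>
    mem_centralizer_singleton_iff.2 (F.le k hk).symm
  have hsurj : ∀ a ∈ An n, ∃ g : centralizer ({t} : Set G), (g : G) ∈ K ∧ φ g = a := by
    intro a ha
    obtain ⟨x, hx, hxa⟩ := L.lift a ha
    exact ⟨⟨x, hle hx⟩, hx, hxa⟩
  refine ⟨φ, F.tt, F.t1, hker, hle, F.norm, F.tK, hsurj, fun g hg => L.even _ hg, ?_⟩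
  intro g hg
  obtain ⟨x, hx, hxa⟩ := hsurj _ hg
  have h1 : φ (g * x⁻¹) = 1 := by rw [map_mul, map_inv, hxa, mul_inv_cancel]
  rcases (hker _).1 h1 with h2 | h2
  · left
    have h3 : (g : G) = x := mul_inv_eq_one.1 h2
    rw [h3]; exact hx
  · right
    have h3 : (g : G) * (x : G)⁻¹ = t := h2
    have h5 : (g : G) = t * x := mul_inv_eq_iff_eq_mul.1 h3
    rw [h5, ← mul_assoc, F.tt, one_mul]; exact hx

end Front

/-- **the front end** for `n ≥ 7` -/
theorem front_gen (C : Ctx G) {K : Subgroup G} (S : IsStandardSubgroup K)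
    (hcomp : ∃ t : G, orderOf t = 2 ∧ CompOf t K) (hcyc : Cyc K) {n : ℕ} (hn : 7 ≤ n)
    (e : ↥K ≃* ↥(alternatingGroup (Fin n))) :
    ∃ (t : G) (φ : centralizer ({t} : Set G) →* Perm (Fin n)), Front t K ∧ Gen t φ K := by
  have := C.fin
  obtain ⟨t, F⟩ := exists_front C S hcomp hcyc (by omega) e
  obtain ⟨φ, h⟩ := F.gen hn e
  exact ⟨t, φ, F, h⟩

end Cfsg.Agent.OddHalf.D5

end
end

-- part: OddHalf/D8/PumpX
section
set_option linter.all false
open scoped Cfsg.Agent.FastGrp

/-!
# ODD half, D8: the pump-up of `J` in `C(a)` (helper921)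

`a`, `t` commuting involutions, `J` a quasisimple subnormal subgroup of even order of `C(a) ∩ C(t)`, `O(C(a)) = 1`:
there is a component `D` of `C(a)` with `J = D`, or `J < D = D^t`, or `D^t ≠ D` and `J = {d d^t : d ∈ D}`.
-/

set_option autoImplicit false

namespace Cfsg.Agent.OddHalf.D8.PumpX

open Subgroup Cfsg Cfsg.Agent.SignalizersComponents Cfsg.Agent.OddHalf.D3

theorem pLayer_le_layer {X : Type*} [Group X] (hO : pPrimeCore 2 X = ⊥) :
    pLayer 2 X ≤ layer X :=
  sSup_le fun K hK => Components.component_le_layer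
    (Cfsg.Agent.ClassificationK.PCompTransport.isComponent_of_isPComponent 2 hK
      (by rw [hO, commutator_bot_right]))

variable {G : Type*} [Group G]

/-- `J` is a component of `C_X(t)`, `X = C(a)`. -/
theorem comp_in {a t : G} (hat : a * t = t * a) {J : Subgroup G}
    (hJa : J ≤ centralizer ({a} : Set G)) (hJt : J ≤ centralizer ({t} : Set G)) (hq : IsQuasisimple J)
    (hsub : (J.subgroupOf (centralizer ({a} : Set G) ⊓ centralizer ({t} : Set G))).IsSubnormal) :
    Comp (⟨t, mem_cs.2 hat.symm⟩ : centralizer ({a} : Set G)) (J.subgroupOf (centralizer ({a} : Set G))) := by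
  have hle : J.subgroupOf (centralizer ({a} : Set G)) ≤
      centralizer ({(⟨t, mem_cs.2 hat.symm⟩ : centralizer ({a} : Set G))} : Set (centralizer ({a} : Set G))) := by
    intro k hk
    rw [mem_cs]
    exact Subtype.ext (mem_cs.1 (hJt hk))
  refine ⟨hle, ?_, ?_⟩
  · let ι : centralizer ({(⟨t, mem_cs.2 hat.symm⟩ : centralizer ({a} : Set G))} :
        Set (centralizer ({a} : Set G))) →* ↥(centralizer ({a} : Set G) ⊓ centralizer ({t} : Set G)) :=
      ((centralizer ({a} : Set G)).subtype.comp (Subgroup.subtype (centralizer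
        ({(⟨t, mem_cs.2 hat.symm⟩ : centralizer ({a} : Set G))} :
          Set (centralizer ({a} : Set G)))))).codRestrict _ (by
        rintro ⟨c, hc⟩
        exact mem_inf.2 ⟨c.2, mem_cs.2 (congrArg Subtype.val (mem_cs.1 hc))⟩)
    exact hsub.comap ι
  · exact Components.isQuasisimple_of_mulEquiv
      ((subgroupOfEquivOfLe hle).trans (subgroupOfEquivOfLe hJa)).symm hq

/-- **The pump-up of `J`.** -/
theorem pump [Finite G] {a t : G} (hO : centralizerPPrimeCore 2 a = ⊥) (tt : t * t = 1)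
    (hat : a * t = t * a) {J : Subgroup G}
    (hJa : J ≤ centralizer ({a} : Set G)) (hJt : J ≤ centralizer ({t} : Set G)) (hq : IsQuasisimple J)
    (heven : 2 ∣ Nat.card J)
    (hsub : (J.subgroupOf (centralizer ({a} : Set G) ⊓ centralizer ({t} : Set G))).IsSubnormal) :
    ∃ D : Subgroup G, Comp a D ∧ (J = D ∨ (J < D ∧ cj t D = D) ∨
      (cj t D ≠ D ∧ (∀ d ∈ D, d * (t * d * t⁻¹) ∈ J) ∧ ∀ l ∈ J, ∃ d ∈ D, l = d * (t * d * t⁻¹))) := by
  have hc := comp_in hat hJa hJt hq hsub
  set X := centralizer ({a} : Set G) with hX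
  set t' : X := ⟨t, mem_cs.2 hat.symm⟩ with ht'
  have htt' : t' * t' = 1 := Subtype.ext tt
  have hT : IsPGroup 2 (zpowers t') := by
    rintro ⟨x, hx⟩
    obtain ⟨i, rfl⟩ := mem_zpowers_iff.1 hx
    refine ⟨1, Subtype.ext ?_⟩
    show (t' ^ i) ^ (2 ^ 1) = 1
    rw [pow_one, pow_two, ← (Commute.refl t').mul_zpow, htt', one_zpow]
  have h3 := Cfsg.Agent.S1301.result (zpowers t') hT
  have hcz : centralizer ((zpowers t' : Subgroup X) : Set X) = centralizer ({t'} : Set X) := by
    rw [zpowers_eq_closure, centralizer_closure]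
  rw [hcz] at h3
  have hJX : J.subgroupOf X ≤ layer X := by
    refine le_trans ?_ (h3.trans (pLayer_le_layer (Soft.core_eq_bot hO)))
    have h2 : 2 ∣ Nat.card ((J.subgroupOf X).subgroupOf (centralizer ({t'} : Set X))) := by
      rw [Nat.card_congr ((subgroupOfEquivOfLe hc.le).trans (subgroupOfEquivOfLe hJa)).toEquiv]
      exact heven
    have : Fact (Nat.Prime 2) := ⟨Nat.prime_two⟩
    have h4 := Subgroup.map_mono (f := (centralizer ({t'} : Set X)).subtype)
      (show (J.subgroupOf X).subgroupOf (centralizer ({t'} : Set X)) ≤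
        pLayer 2 (centralizer ({t'} : Set X)) from
          le_sSup (EvenComponent.isPComponent_of_isComponent hc.comp h2))
    rwa [map_subgroupOf_eq_of_le hc.le] at h4
  obtain ⟨D, hD, h⟩ := trichotomy_of_le_layer t' htt' _ hc hJX
  have hmap : (J.subgroupOf X).map X.subtype = J := map_subgroupOf_eq_of_le hJa
  have hDc : Comp a (D.map X.subtype) := comp_map hD
  refine ⟨D.map X.subtype, hDc, ?_⟩
  rcases h with h | h | ⟨h1, h2, h3⟩
  · left
    rw [← h, hmap]
  · right; left
    have hlt : J < D.map X.subtype := by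
      refine lt_of_le_of_ne ?_ ?_
      · rw [← hmap]; exact map_mono h.le
      · intro he
        apply h.ne
        apply map_injective X.subtype_injective
        rw [hmap, ← he]
    refine ⟨hlt, ?_⟩
    by_contra hne
    have h5 := hDc.conj_of_comm (g := t) hat.symm
    have h6 := h5.comm hDc hne
    apply not_comm_self hq
    intro x hx
    rw [mem_centralizer_iff]
    intro y hy
    have hx' : x ∈ cj t (D.map X.subtype) := by
      rw [mem_cj]
      have : t⁻¹ * x * t = x := by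
        rw [mul_assoc, mem_cs.1 (hJt hx)]; group
      rw [this]
      exact hlt.le hx
    exact (comm_elt h6 hx' (hlt.le hy)).symm
  · right; right
    have e : ∀ d : G, t * d * t⁻¹ = t * d * t⁻¹ := fun _ => rfl
    refine ⟨?_, ?_, ?_⟩
    · intro he
      apply h1
      apply map_injective X.subtype_injective
      rw [cj_map_subtype]
      exact he
    · rintro _ ⟨d, hd, rfl⟩
      have := h2 d hd
      exact this
    · intro l hl
      obtain ⟨d, hd, hdl⟩ := h3 ⟨l, hJa hl⟩ hl
      exact ⟨d, ⟨d, hd, rfl⟩, congrArg Subtype.val hdl⟩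

end Cfsg.Agent.OddHalf.D8.PumpX
end

-- part: OddHalf/D6/QThree/NISide
section
prune_inst 0x4003074644922020000000592e1003c66de000190002b800199e00f060f8fdf6109022f60fcb01f00112aa2a4003e0068170810dd6000000000000200411d05a1802af2c4937cad0437000980f887180c00000000000000000000000000041004200000000
set_option linter.all false
open scoped Cfsg.Agent.FastGrp

/-!
# ODD half, D6, `q = 3`: the quaternion groups `Q₁`, `Q₂` of `C_G(z)` (helper135, bb #10784)

`Side z t a Q D`: `Q` of order eight, centralised by `t`, `q² = z` for `q ∈ Q - ⟨z⟩`, `a` acts nontrivially on `Q` and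
centralises `t` and `D`. `Side.gen`, `Side.exists_inner`; `exists_index_two`: a 2-group in which `Q` contains its
centralizer has at most one involution or a subgroup of index two with only one involution.
-/

set_option autoImplicit false

namespace Cfsg.Agent.OddHalf.D6.QThree.NISide

open Subgroup Cfsg
open Cfsg.Agent.SignalizersComponents.Components
open Cfsg.Agent.Cit (cj mem_cj conj_mem_cj)

variable {X : Type*} [Group X]

/-- a quaternion group `Q` with centre `⟨z⟩` centralised by `t`, and an element `a` -/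
structure Side (z t a : X) (Q D : Subgroup X) : Prop where
  card : Nat.card Q = 8
  zQ : z ∈ Q
  sq : ∀ q ∈ Q, q ≠ 1 → q ≠ z → q * q = z
  ct : ∀ q ∈ Q, q * t = t * q
  a_t : a * t = t * a
  aQ : ∀ q ∈ Q, a * q * a⁻¹ ∈ Q
  aD : ∀ d ∈ D, a * d = d * a
  act : ∀ q ∈ Q, q ≠ 1 → q ≠ z → q * (a * q * a⁻¹) ≠ (a * q * a⁻¹) * q

namespace Side

variable {z t a : X} {Q D : Subgroup X}

theorem pQ (s : Side z t a Q D) : IsPGroup 2 Q :=
  IsPGroup.of_card (n := 3) (by rw [s.card]; norm_num)

theorem finite (s : Side z t a Q D) : Finite Q := by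
  apply Nat.finite_of_card_ne_zero
  rw [s.card]; norm_num

/-- five distinct elements of a subgroup of `Q` -/
theorem le_of_two (s : Side z t a Q D) (zc : ∀ x : X, x * z = z * x) (zz : z * z = 1) (z1 : z ≠ 1)
    {H : Subgroup X} (hH : H ≤ Q) (hz : z ∈ H) {x y : X} (hx : x ∈ H) (hy : y ∈ H)
    (hxy : x * y ≠ y * x) : Q ≤ H := by
  classical
  have := s.finite
  have hfH : Finite H := Finite.of_injective _ (inclusion_injective hH)
  have hzi : z⁻¹ = z := inv_eq_of_mul_eq_one_right zz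
  have hx1 : x ≠ 1 := by rintro rfl; exact hxy (by rw [one_mul, mul_one])
  have hy1 : y ≠ 1 := by rintro rfl; exact hxy (by rw [one_mul, mul_one])
  have hxz : x ≠ z := by rintro rfl; exact hxy (zc y).symm
  have hyz : y ≠ z := by rintro rfl; exact hxy (zc x)
  have h1 : (({1, z, x, x * z, y} : Finset X) : Set X) ⊆ H := by
    intro u hu
    simp only [Finset.coe_insert, Finset.coe_singleton, Set.mem_insert_iff, Set.mem_singleton_iff] at hu
    rcases hu with rfl | rfl | rfl | rfl | rfl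
    exacts [H.one_mem, hz, hx, H.mul_mem hx hz, hy]
  have h2 : ({1, z, x, x * z, y} : Finset X).card = 5 := by
    rw [Finset.card_insert_of_notMem, Finset.card_insert_of_notMem, Finset.card_insert_of_notMem,
      Finset.card_insert_of_notMem, Finset.card_singleton]
    · rw [Finset.mem_singleton]
      rintro rfl
      apply hxy
      rw [mul_assoc, zc x]
    · simp only [Finset.mem_insert, Finset.mem_singleton, not_or]
      refine ⟨fun h => z1 (mul_eq_left.1 h.symm), ?_⟩
      rintro rfl; exact hxy rfl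
    · simp only [Finset.mem_insert, Finset.mem_singleton, not_or]
      exact ⟨fun h => hxz h.symm, fun h => hx1 (mul_eq_right.1 h.symm), fun h => hyz h.symm⟩
    · simp only [Finset.mem_insert, Finset.mem_singleton, not_or]
      refine ⟨fun h => z1 h.symm, fun h => hx1 h.symm, fun h => ?_, fun h => hy1 h.symm⟩
      exact hxz (by rw [eq_comm, mul_eq_one_iff_eq_inv, hzi] at h; exact h)
  have h3 : 5 ≤ Nat.card H := by
    rw [← h2, ← Set.ncard_coe_finset]
    exact Set.ncard_le_ncard h1 (Set.toFinite _)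
  have h4 : Nat.card H ∣ 8 := by
    rw [← s.card]
    exact card_dvd_of_le hH
  have h5 : Nat.card H = 8 := by
    have h6 : Nat.card H ≤ 8 := Nat.le_of_dvd (by norm_num) h4
    interval_cases h : Nat.card H <;> first | rfl | omega
  exact (Subgroup.eq_of_le_of_card_ge hH (by rw [h5, s.card])).ge

/-- `Q` is generated by `q` and `q^a` -/
theorem gen (s : Side z t a Q D) (zc : ∀ x : X, x * z = z * x) (zz : z * z = 1) (z1 : z ≠ 1)
    {M : Subgroup X} {q : X} (hq : q ∈ Q) (hq1 : q ≠ 1) (hqz : q ≠ z) (hqM : q ∈ M)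
    (hqM' : a * q * a⁻¹ ∈ M) : Q ≤ M := by
  have h := s.le_of_two zc zz z1 (H := Q ⊓ M) inf_le_left ?_ ⟨hq, hqM⟩ ⟨s.aQ q hq, hqM'⟩
    (s.act q hq hq1 hqz)
  · exact fun x hx => (h hx).2
  · rw [← s.sq q hq hq1 hqz]
    exact ⟨Q.mul_mem hq hq, M.mul_mem hqM hqM⟩

/-- there is an element outside `⟨z⟩` -/
theorem exists_ne (s : Side z t a Q D) : ∃ q ∈ Q, q ≠ 1 ∧ q ≠ z := by
  classical
  by_contra h
  push Not at h
  have := s.finite
  have h1 : (Q : Set X) ⊆ ({1, z} : Set X) := by
    intro x hx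
    by_cases hx1 : x = 1
    · exact Or.inl hx1
    · exact Or.inr (h x hx hx1)
  have h2 : Nat.card Q ≤ 2 := by
    have := Set.ncard_le_ncard h1 (Set.toFinite _)
    exact this.trans ((Set.ncard_insert_le _ _).trans (by rw [Set.ncard_singleton]))
  rw [s.card] at h2
  omega

/-- central elements of `Q` -/
theorem center (s : Side z t a Q D) {x : X} (hx : x ∈ Q) (hc : ∀ q ∈ Q, x * q = q * x) : x = 1 ∨ x = z := by
  by_contra h
  push Not at h
  exact s.act x hx h.1 h.2 (hc _ (s.aQ x hx))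

/-- `Q` is not abelian -/
theorem not_comm (s : Side z t a Q D) : ¬ ∀ x ∈ Q, ∀ y ∈ Q, x * y = y * x := by
  intro h
  obtain ⟨q, hq, h1, h2⟩ := s.exists_ne
  exact s.act q hq h1 h2 (h q hq _ (s.aQ q hq))

/-- noncommuting elements -/
theorem comm_eq (s : Side z t a Q D) {x y : X} (hx : x ∈ Q) (hy : y ∈ Q) (hxy : x * y ≠ y * x)
    (zc : ∀ x : X, x * z = z * x) (zz : z * z = 1) : y * x * y⁻¹ = x * z := by
  have hx1 : x ≠ 1 := by rintro rfl; exact hxy (by rw [one_mul, mul_one])
  have hy1 : y ≠ 1 := by rintro rfl; exact hxy (by rw [one_mul, mul_one])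
  have hxz : x ≠ z := by rintro rfl; exact hxy (zc y).symm
  have hyz : y ≠ z := by rintro rfl; exact hxy (zc x)
  have h1 : y * x * (y * x) = z := by
    apply s.sq _ (Q.mul_mem hy hx)
    · intro h
      rw [mul_eq_one_iff_eq_inv] at h
      rw [h] at hxy
      exact hxy (by rw [mul_inv_cancel, inv_mul_cancel])
    · intro h
      have h2 : x = y⁻¹ * z := by rw [← h]; group
      apply hxy
      rw [h2, mul_assoc, ← zc y, inv_mul_cancel_left, mul_inv_cancel_left]
  have hxx := s.sq x hx hx1 hxz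
  have hyy := s.sq y hy hy1 hyz
  have hxi : x⁻¹ = x * z := by
    rw [inv_eq_iff_mul_eq_one, ← mul_assoc, hxx, zz]
  have hyi : y⁻¹ = y * z := by
    rw [inv_eq_iff_mul_eq_one, ← mul_assoc, hyy, zz]
  calc y * x * y⁻¹ = y * x * (y * z) := by rw [hyi]
    _ = (y * x * (y * x)) * x⁻¹ * z := by group
    _ = z * x⁻¹ * z := by rw [h1]
    _ = x⁻¹ * (z * z) := by rw [← zc x⁻¹]; group
    _ = x * z := by rw [zz, mul_one, hxi]

/-- an element acting trivially on `Q / ⟨z⟩` acts as an element of `Q` -/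
theorem exists_inner (s : Side z t a Q D) (zc : ∀ x : X, x * z = z * x) (zz : z * z = 1) (z1 : z ≠ 1)
    {g : X} (hg : ∀ q ∈ Q, g * q * g⁻¹ = q ∨ g * q * g⁻¹ = q * z) :
    ∃ r ∈ Q, ∀ q ∈ Q, g * r * q = q * (g * r) := by
  obtain ⟨i, hi, hi1, hiz⟩ := s.exists_ne
  set j := a * i * a⁻¹ with hj
  have hjQ : j ∈ Q := s.aQ i hi
  have hij : i * j ≠ j * i := s.act i hi hi1 hiz
  have hji : j * i * j⁻¹ = i * z := s.comm_eq hi hjQ hij zc zz
  have hij' : i * j * i⁻¹ = j * z := s.comm_eq hjQ hi hij.symm zc zz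
  -- a sufficient condition
  have key : ∀ r ∈ Q, g * (r * i * r⁻¹) * g⁻¹ = i → g * (r * j * r⁻¹) * g⁻¹ = j →
      ∃ r ∈ Q, ∀ q ∈ Q, g * r * q = q * (g * r) := by
    intro r hr h1 h2
    refine ⟨r, hr, ?_⟩
    have h3 := s.le_of_two zc zz z1 (H := Q ⊓ centralizer ({g * r} : Set X)) inf_le_left
      ⟨s.zQ, mem_centralizer_singleton_iff.2 (zc _).symm⟩ (x := i) (y := j)
      ⟨hi, mem_centralizer_singleton_iff.2 ?_⟩ ⟨hjQ, mem_centralizer_singleton_iff.2 ?_⟩ hij
    · intro q hq
      exact (mem_centralizer_singleton_iff.1 (h3 hq).2).symm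
    · calc i * (g * r) = g * (r * i * r⁻¹) * g⁻¹ * (g * r) := by rw [h1]
        _ = g * r * i := by group
    · calc j * (g * r) = g * (r * j * r⁻¹) * g⁻¹ * (g * r) := by rw [h2]
        _ = g * r * j := by group
  have hzg : ∀ u : X, g * (u * z) * g⁻¹ = g * u * g⁻¹ * z := by
    intro u
    calc g * (u * z) * g⁻¹ = g * u * (z * g⁻¹) := by group
      _ = g * u * (g⁻¹ * z) := by rw [zc g⁻¹]
      _ = g * u * g⁻¹ * z := by group
  have hzz : ∀ u : X, u * z * z = u := fun u => by rw [mul_assoc, zz, mul_one]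
  rcases hg i hi with h1 | h1 <;> rcases hg j hjQ with h2 | h2
  · exact key 1 Q.one_mem (by rw [one_mul, inv_one, mul_one, h1]) (by rw [one_mul, inv_one, mul_one, h2])
  · refine key i hi ?_ ?_
    · rw [mul_inv_cancel_right, h1]
    · rw [hij', hzg, h2, hzz]
  · refine key j hjQ ?_ ?_
    · rw [hji, hzg, h1, hzz]
    · rw [mul_inv_cancel_right, h2]
  · refine key (i * j) (Q.mul_mem hi hjQ) ?_ ?_
    · have : i * j * i * (i * j)⁻¹ = i * z := by
        calc i * j * i * (i * j)⁻¹ = i * (j * i * j⁻¹) * i⁻¹ := by group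
          _ = i * (i * z) * i⁻¹ := by rw [hji]
          _ = i * i * (z * i⁻¹) := by group
          _ = i * i * (i⁻¹ * z) := by rw [zc i⁻¹]
          _ = i * z := by group
      rw [this, hzg, h1, hzz]
    · have : i * j * j * (i * j)⁻¹ = j * z := by
        calc i * j * j * (i * j)⁻¹ = i * j * i⁻¹ := by group
          _ = j * z := hij'
      rw [this, hzg, h2, hzz]

end Side

/-- **maximal class**: a 2-group `W` containing the centralizer of `Q` in `W` -/
theorem exists_index_two [Finite X] {z t a : X} {Q D W : Subgroup X} (s : Side z t a Q D)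
    (zc : ∀ x : X, x * z = z * x) (zz : z * z = 1) (z1 : z ≠ 1) (hW : IsPGroup 2 W) (hQW : Q ≤ W)
    (hC : ∀ w ∈ W, (∀ q ∈ Q, w * q = q * w) → w = 1 ∨ w = z) :
    ∃ C : Subgroup X, C ≤ W ∧ C.relIndex W = 2 ∧ ∀ x ∈ C, x * x = 1 → x = 1 ∨ x = z := by
  classical
  have : Fact (Nat.Prime 2) := ⟨Nat.prime_two⟩
  have hzi : z⁻¹ = z := inv_eq_of_mul_eq_one_right zz
  -- elements acting trivially on `Q / ⟨z⟩`
  have hself : ∀ w ∈ W, (∀ q ∈ Q, w * q * w⁻¹ = q ∨ w * q * w⁻¹ = q * z) → w ∈ Q := by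
    intro w hw h
    obtain ⟨r, hr, hrq⟩ := s.exists_inner zc zz z1 h
    have h1 : w * r = 1 ∨ w * r = z := hC _ (W.mul_mem hw (hQW hr)) hrq
    have h2 : w * r ∈ Q := by
      rcases h1 with h1 | h1
      · rw [h1]; exact Q.one_mem
      · rw [h1]; exact s.zQ
    have h3 := Q.mul_mem h2 (Q.inv_mem hr)
    rwa [mul_inv_cancel_right] at h3
  have hQ2 : ∀ x ∈ Q, x * x = 1 → x = 1 ∨ x = z := by
    intro x hx hxx
    by_contra hne
    push Not at hne
    have := s.sq x hx hne.1 hne.2
    rw [hxx] at this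
    exact z1 this.symm
  -- the quotient
  have hZn : ((zpowers z).subgroupOf W).Normal := by
    refine ⟨fun n hn g => ?_⟩
    rw [mem_subgroupOf] at hn ⊢
    obtain ⟨k, hk⟩ := mem_zpowers_iff.1 hn
    have h1 : Commute (g : X) (n : X) := by rw [← hk]; exact (show Commute (g : X) z from zc g).zpow_right k
    have h2 : ((g * n * g⁻¹ : W) : X) = n := by
      show (g : X) * n * (g : X)⁻¹ = n
      rw [h1.eq, mul_inv_cancel_right]
    rw [h2]; exact hn
  have hzp : ∀ x : X, x ∈ zpowers z ↔ x = 1 ∨ x = z := by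
    intro x
    constructor
    · intro hx
      obtain ⟨k, rfl⟩ := mem_zpowers_iff.1 hx
      rcases Int.even_or_odd k with ⟨m, rfl⟩ | ⟨m, rfl⟩
      · left
        rw [← two_mul, zpow_mul, zpow_ofNat, pow_two, zz, one_zpow]
      · right
        rw [zpow_add, zpow_mul, zpow_ofNat, pow_two, zz, one_zpow, one_mul, zpow_one]
    · rintro (rfl | rfl)
      · exact one_mem _
      · exact mem_zpowers _
  set Z : Subgroup W := (zpowers z).subgroupOf W with hZ
  have hzW : z ∈ W := hQW s.zQ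
  have hmZ : ∀ x : W, x ∈ Z ↔ (x : X) = 1 ∨ (x : X) = z := fun x => by
    rw [hZ, mem_subgroupOf, hzp]
  have hcZ : Nat.card Z = 2 := by
    have h1 : Nat.card Z = Nat.card (zpowers z) :=
      Nat.card_congr (subgroupOfEquivOfLe ((zpowers_le).2 hzW)).toEquiv
    rw [h1, Nat.card_zpowers]
    exact orderOf_eq_prime (by rw [pow_two, zz]) z1
  obtain ⟨n, hn⟩ := IsPGroup.iff_card.1 hW
  have hcQ : Nat.card (W ⧸ Z) * 2 = 2 ^ n := by
    rw [← hn, Subgroup.card_eq_card_quotient_mul_card_subgroup Z, hcZ]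
  have h8 : 8 ∣ 2 ^ n := by
    rw [← hn, ← s.card]; exact card_dvd_of_le hQW
  have hn3 : 3 ≤ n := by
    have : (2 : ℕ) ^ 3 ∣ 2 ^ n := h8
    exact (Nat.pow_dvd_pow_iff_le_right (by norm_num)).1 this
  obtain ⟨m, rfl⟩ : ∃ m, n = m + 1 := ⟨n - 1, by omega⟩
  have hcard : Nat.card (W ⧸ Z) = 2 ^ m := by
    rw [pow_succ] at hcQ; omega
  by_cases hm : m = 2
  · -- `W = Q`
    have hWQ : W = Q := by
      symm
      apply Subgroup.eq_of_le_of_card_ge hQW
      rw [hn, s.card, hm]; norm_num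
    obtain ⟨i, hi, hi1, hiz⟩ := s.exists_ne
    refine ⟨zpowers i, by rw [hWQ]; exact (zpowers_le).2 hi, ?_, ?_⟩
    · have h1 : orderOf i = 4 := by
        have h0 : i * i = z := s.sq i hi hi1 hiz
        have h2 : i ^ 4 = 1 := by
          rw [show (4 : ℕ) = 2 * 2 from rfl, pow_mul, pow_two i, s.sq i hi hi1 hiz, pow_two, zz]
        have h3 : orderOf i ∣ 4 := orderOf_dvd_of_pow_eq_one h2
        have h4 : ¬ orderOf i ∣ 2 := by
          intro h
          have h5 := orderOf_dvd_iff_pow_eq_one.1 h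
          rw [pow_two, s.sq i hi hi1 hiz] at h5
          exact z1 h5
        have h5 : orderOf i ≤ 4 := Nat.le_of_dvd (by norm_num) h3
        have h6 : orderOf i ≠ 0 := (orderOf_pos i).ne'
        interval_cases h : orderOf i <;> first | rfl | omega
      have h2 := Cfsg.Agent.S0112.card_mul_relIndex (H := zpowers i) (K := W)
        (by rw [hWQ]; exact (zpowers_le).2 hi)
      rw [Nat.card_zpowers, h1, hn, hm] at h2
      omega
    · intro x hx
      exact hQ2 x ((zpowers_le).2 hi hx)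
  · have hm3 : 3 ≤ m := by omega
    -- the self-centralising four-group
    set A : Subgroup (W ⧸ Z) := (Q.subgroupOf W).map (QuotientGroup.mk' Z) with hA
    have hmA : ∀ w : W, QuotientGroup.mk' Z w ∈ A ↔ (w : X) ∈ Q := by
      intro w
      constructor
      · rintro ⟨q, hq, hqw⟩
        rw [QuotientGroup.mk'_eq_mk'] at hqw
        obtain ⟨y, hy, hyw⟩ := hqw
        have h1 : (w : X) = q * y := by rw [← hyw]; rfl
        have h2 : (y : X) ∈ Q := by
          rcases (hmZ y).1 hy with h | h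
          · rw [h]; exact Q.one_mem
          · rw [h]; exact s.zQ
        rw [h1]; exact Q.mul_mem hq h2
      · intro hw
        exact ⟨w, hw, rfl⟩
    have hcA : Nat.card A = 2 ^ 2 := by
      have h0 : (QuotientGroup.mk' Z).ker ≤ Q.subgroupOf W := by
        rw [QuotientGroup.ker_mk']
        intro y hy
        rw [mem_subgroupOf]
        rcases (hmZ y).1 hy with h | h
        · rw [h]; exact Q.one_mem
        · rw [h]; exact s.zQ
      have h1 := Cfsg.Agent.S0112.card_map_mul_card (QuotientGroup.mk' Z) h0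
      have h2 : Nat.card (Q.subgroupOf W) = 8 := by
        rw [← s.card]
        exact Nat.card_congr (subgroupOfEquivOfLe hQW).toEquiv
      rw [QuotientGroup.ker_mk', hcZ, h2, ← hA] at h1
      omega
    have hcent : centralizer (A : Set (W ⧸ Z)) = A := by
      apply le_antisymm
      · intro y hy
        obtain ⟨w, rfl⟩ := QuotientGroup.mk'_surjective Z y
        rw [hmA]
        apply hself _ w.2
        intro q hq
        have h1 := mem_centralizer_iff.1 hy (QuotientGroup.mk' Z ⟨q, hQW hq⟩) ((hmA _).2 hq)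
        rw [← map_mul, ← map_mul, QuotientGroup.mk'_eq_mk'] at h1
        obtain ⟨u, hu, huw⟩ := h1
        have h2 : q * (w : X) * u = w * q := congrArg Subtype.val huw
        rcases (hmZ u).1 hu with h | h
        · left
          rw [h, mul_one] at h2
          rw [← h2, mul_inv_cancel_right]
        · right
          rw [h] at h2
          rw [← h2, mul_assoc q (w : X) z, zc (w : X), ← mul_assoc, mul_inv_cancel_right]
      · rintro _ ⟨x, hx, rfl⟩
        rw [mem_centralizer_iff]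
        rintro _ ⟨y, hy, rfl⟩
        rw [← map_mul, ← map_mul, QuotientGroup.mk'_eq_mk']
        have hx' : (x : X) ∈ Q := hx
        have hy' : (y : X) ∈ Q := hy
        by_cases hxy : (x : X) * y = y * x
        · exact ⟨1, Z.one_mem, by rw [mul_one]; exact Subtype.ext hxy.symm⟩
        · have h1 := s.comm_eq hx' hy' hxy zc zz
          refine ⟨⟨z, hzW⟩, (hmZ _).2 (Or.inr rfl), Subtype.ext ?_⟩
          show (y : X) * x * z = x * y
          have h2 : (y : X) * x = x * z * y := by rw [← h1]; group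
          rw [h2, mul_assoc (x * z : X), zc (y : X)]
          calc (x : X) * z * (z * y) = x * (z * z) * y := by group
            _ = x * y := by rw [zz, mul_one]
    have hcls := Cfsg.Agent.S0112.result (p := 2) m hcard A hcA hcent
    obtain ⟨C, hCc, hCi⟩ := Cfsg.Agent.S0113.result m hm3 hcard hcls
    set C' : Subgroup W := C.comap (QuotientGroup.mk' Z) with hC'
    have hC'i : C'.index = 2 := by
      rw [hC', index_comap_of_surjective _ (QuotientGroup.mk'_surjective Z), hCi]
    refine ⟨C'.map W.subtype, ?_, ?_, ?_⟩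
    · rintro _ ⟨y, -, rfl⟩
      exact y.2
    · rw [relIndex, subgroupOf, comap_map_eq_self_of_injective W.subtype_injective, hC'i]
    · rintro _ ⟨x, hx, rfl⟩ hxx
      have hxx' : (x : X) * x = 1 := hxx
      by_contra hne
      push Not at hne
      have hne1 : (x : X) ≠ 1 := hne.1
      have hnez : (x : X) ≠ z := hne.2
      -- an element of `Q ∩ C'` outside `⟨z⟩`
      obtain ⟨q, hqQ, hq1, hqz, hqC⟩ : ∃ q : W, (q : X) ∈ Q ∧ (q : X) ≠ 1 ∧ (q : X) ≠ z ∧ q ∈ C' := by
        obtain ⟨i, hi, hi1, hiz⟩ := s.exists_ne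
        have hij := s.act i hi hi1 hiz
        have hjQ := s.aQ i hi
        set j := a * i * a⁻¹ with hj
        by_cases h1 : (⟨i, hQW hi⟩ : W) ∈ C'
        · exact ⟨_, hi, hi1, hiz, h1⟩
        by_cases h2 : (⟨j, hQW hjQ⟩ : W) ∈ C'
        · refine ⟨_, hjQ, ?_, ?_, h2⟩
          · intro h
            apply hij
            have h' : j = 1 := h
            rw [h', mul_one, one_mul]
          · intro h
            apply hij
            have h' : j = z := h
            rw [h', zc i]
        · refine ⟨⟨i, hQW hi⟩ * ⟨j, hQW hjQ⟩, Q.mul_mem hi hjQ, ?_, ?_, ?_⟩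
          · intro h
            apply hij
            have h' : i * j = 1 := h
            rw [mul_eq_one_iff_eq_inv] at h'
            rw [h', inv_mul_cancel, mul_inv_cancel]
          · intro h
            apply hij
            have h' : i * j = z := h
            have h3 : i = z * j⁻¹ := by rw [← h']; group
            rw [h3, inv_mul_cancel_right, ← zc j⁻¹, mul_inv_cancel_left]
          · rw [mul_mem_iff_of_index_two hC'i]
            exact ⟨fun h => absurd h h1, fun h => absurd h h2⟩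
      have hqq : (q : X) * q = z := s.sq _ hqQ hq1 hqz
      have huniq : ∀ u v : C, u * u = 1 → v * v = 1 → u ≠ 1 → v ≠ 1 → u = v := by
        intro u v hu hv hu1 hv1
        by_contra huv
        have := Fintype.ofFinite C
        have h1 := IsCyclic.card_pow_eq_one_le (α := C) (n := 2) (by norm_num)
        have h2 : ({1, u, v} : Finset C) ⊆ Finset.univ.filter (fun a : C => a ^ 2 = 1) := by
          intro b hb
          simp only [Finset.mem_insert, Finset.mem_singleton] at hb
          rw [Finset.mem_filter]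
          refine ⟨Finset.mem_univ _, ?_⟩
          rcases hb with rfl | rfl | rfl
          · rw [one_pow]
          · rw [pow_two, hu]
          · rw [pow_two, hv]
        have h3 := Finset.card_le_card h2
        rw [Finset.card_insert_of_notMem, Finset.card_insert_of_notMem, Finset.card_singleton] at h3
        · omega
        · rw [Finset.mem_singleton]; exact huv
        · simp only [Finset.mem_insert, Finset.mem_singleton, not_or]
          exact ⟨fun h => hu1 h.symm, fun h => hv1 h.symm⟩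
      have hne' : ∀ w : W, (w : X) ≠ 1 → (w : X) ≠ z → QuotientGroup.mk' Z w ≠ 1 := by
        intro w h1 h2 h3
        rw [← MonoidHom.mem_ker, QuotientGroup.ker_mk', hmZ] at h3
        exact h3.elim h1 h2
      have h1 := huniq ⟨QuotientGroup.mk' Z x, hx⟩ ⟨QuotientGroup.mk' Z q, hqC⟩ (Subtype.ext ?_)
        (Subtype.ext ?_) (fun h => hne' x hne1 hnez (congrArg Subtype.val h))
        (fun h => hne' q hq1 hqz (congrArg Subtype.val h))
      · have h2 : QuotientGroup.mk' Z x = QuotientGroup.mk' Z q := congrArg Subtype.val h1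
        rw [QuotientGroup.mk'_eq_mk'] at h2
        obtain ⟨u, hu, huq⟩ := h2
        have h3 : (q : X) = x * u := congrArg Subtype.val huq.symm
        have h4 : (q : X) * q = 1 := by
          rcases (hmZ u).1 hu with h | h
          · rw [h, mul_one] at h3
            rw [h3, hxx']
          · rw [h] at h3
            calc (q : X) * q = x * z * (x * z) := by rw [h3]
              _ = x * (z * x) * z := by group
              _ = x * (x * z) * z := by rw [zc (x : X)]
              _ = (x * x) * (z * z) := by group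
              _ = 1 := by rw [hxx', zz, one_mul]
        rw [hqq] at h4
        exact z1 h4
      · show QuotientGroup.mk' Z x * QuotientGroup.mk' Z x = 1
        rw [← map_mul, show x * x = 1 from Subtype.ext hxx', map_one]
      · show QuotientGroup.mk' Z q * QuotientGroup.mk' Z q = 1
        rw [← map_mul, ← MonoidHom.mem_ker, QuotientGroup.ker_mk', hmZ]
        exact Or.inr hqq

end Cfsg.Agent.OddHalf.D6.QThree.NISide
end

-- part: OddHalf/D6/QThree/TwoFix
section
set_option linter.all false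
open scoped Cfsg.Agent.FastGrp

/-!
# An involutory automorphism of a quasisimple group fixes more than two elements (helper948; after helper577 #13013 (1))

`false_of_two`: `M` finite, perfect, nontrivial, every normal subgroup `⊤` or central, `τ² = 1`,
`C_M(τ) ⊆ {1, b}`: contradiction.

Proof: `x ↦ x⁻¹ τ(x)` takes `|M|/2` values, and its image is closed under inversion: `4 ∣ |M|` gives `v` with
`τ(v) = v b`. For an involution `β` the dihedral group `⟨τ, β⟩` has a central involution, so `β` commutes with `b`. So `b`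
is central, and `M / ⟨b⟩` with `C(τ) = {1, v}` is a smaller example.
-/

set_option autoImplicit false

namespace Cfsg.Agent.OddHalf.D6.QThree.TwoFix

open Subgroup Cfsg

universe u

variable {M : Type u} [Group M]

/-- the hypotheses -/
structure H (M : Type u) [Group M] (τ : M →* M) (b : M) : Prop where
  perf : Group.IsPerfect M
  nt : Nontrivial M
  nor : ∀ N : Subgroup M, N.Normal → N = ⊤ ∨ N ≤ center M
  ττ : ∀ x, τ (τ x) = x
  fix : ∀ x, τ x = x → x = 1 ∨ x = b

namespace H

variable {τ : M →* M} {b : M}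

theorem inj (h : H M τ b) : Function.Injective τ := fun x y e => by rw [← h.ττ x, e, h.ττ]

theorem not_comm (h : H M τ b) : ¬ ∀ x y : M, x * y = y * x := by
  intro hc
  have := h.nt
  have h1 : commutator M = ⊤ := h.perf.commutator_eq_top
  have h2 : commutator M = ⊥ := by
    rw [commutator_def, commutator_eq_bot_iff_le_centralizer]
    intro x _
    rw [mem_centralizer_iff]
    exact fun y _ => hc y x
  exact absurd (h1.symm.trans h2) top_ne_bot

/-- there is an element `v` with `τ v = v b`, and `b ≠ 1` is fixed, `b² = 1` -/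
theorem exists_v [Finite M] (h : H M τ b) : b ≠ 1 ∧ τ b = b ∧ b * b = 1 ∧ ∃ v, τ v = v * b := by
  classical
  have hfin : Fintype M := Fintype.ofFinite M
  -- the map
  let f : M → M := fun x => x⁻¹ * τ x
  have hf : ∀ x y, f x = f y → τ (y * x⁻¹) = y * x⁻¹ := by
    intro x y e
    have e' : x⁻¹ * τ x = y⁻¹ * τ y := e
    rw [map_mul, map_inv]
    calc τ y * (τ x)⁻¹ = y * (y⁻¹ * τ y) * (τ x)⁻¹ := by group
      _ = y * (x⁻¹ * τ x) * (τ x)⁻¹ := by rw [e']
      _ = y * x⁻¹ := by group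
  -- some nontrivial fixed element
  have hb : b ≠ 1 ∧ τ b = b := by
    by_contra hcon
    have hfix : ∀ x, τ x = x → x = 1 := by
      intro x hx
      rcases h.fix x hx with e | e
      · exact e
      · by_contra h1
        exact hcon ⟨fun e1 => h1 (e.trans e1), by rw [← e]; exact hx⟩
    have hinj : Function.Injective f := by
      intro x y e
      have := hfix _ (hf x y e)
      rw [mul_inv_eq_one] at this
      exact this.symm
    have hsurj := Finite.surjective_of_injective hinj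
    have hinv : ∀ y, τ y = y⁻¹ := by
      intro y
      obtain ⟨x, rfl⟩ := hsurj y
      show τ (x⁻¹ * τ x) = (x⁻¹ * τ x)⁻¹
      rw [map_mul, map_inv, h.ττ]; group
    apply h.not_comm
    intro x y
    have h1 := hinv (x⁻¹ * y⁻¹)
    rw [map_mul, hinv, hinv, inv_inv, inv_inv] at h1
    rw [h1]; group
  obtain ⟨hb1, hbb⟩ := hb
  have hb2 : b * b = 1 := by
    rcases h.fix (b * b) (by rw [map_mul, hbb]) with e | e
    · exact e
    · exact absurd (mul_eq_left.1 e) hb1
  refine ⟨hb1, hbb, hb2, ?_⟩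
  -- `4 ∣ |M|`
  have h4 : 4 ∣ Nat.card M := by
    have hp : Fact (Nat.Prime 2) := ⟨Nat.prime_two⟩
    obtain ⟨P⟩ : Nonempty (Sylow 2 M) := inferInstance
    by_contra hcon
    have hPc : Nat.card P = 2 := by
      have h1 := P.card_eq_multiplicity
      have h2 : 2 ∣ Nat.card M := by
        have h3 : orderOf b = 2 := orderOf_eq_prime (by rw [pow_two, hb2]) hb1
        rw [← h3]; exact orderOf_dvd_natCard b
      have h3 : (Nat.card M).factorization 2 ≥ 1 :=
        (Nat.prime_two.dvd_iff_one_le_factorization Nat.card_pos.ne').1 h2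
      have h4 : (Nat.card M).factorization 2 < 2 := by
        by_contra hh
        push Not at hh
        apply hcon
        have := (Nat.prime_two.pow_dvd_iff_le_factorization Nat.card_pos.ne').2 hh
        exact this
      have h5 : (Nat.card M).factorization 2 = 1 := by omega
      rw [h5, pow_one] at h1
      exact h1
    obtain ⟨g, hg⟩ := CaseM.exists_conj_of_perfect h.perf P ⊥ bot_le (by rw [relIndex_bot_left, hPc]) b hb2
    rw [mem_bot] at hg
    exact hb1 (conj_eq_one_iff.1 hg)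
  -- the image of `f`
  let I : Finset M := Finset.univ.image f
  have hcard : Fintype.card M = 2 * I.card := by
    have h1 : ∀ y ∈ I, (Finset.univ.filter (fun x => f x = y)).card = 2 := by
      intro y hy
      obtain ⟨x, -, rfl⟩ := Finset.mem_image.1 hy
      have e : Finset.univ.filter (fun x' => f x' = f x) = {x, b * x} := by
        ext x'
        rw [Finset.mem_filter, Finset.mem_insert, Finset.mem_singleton]
        constructor
        · rintro ⟨-, e⟩
          rcases h.fix _ (hf x x' e.symm) with e1 | e1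
          · left; exact mul_inv_eq_one.1 e1
          · right; exact mul_inv_eq_iff_eq_mul.1 e1
        · rintro (rfl | rfl)
          · exact ⟨Finset.mem_univ _, rfl⟩
          · refine ⟨Finset.mem_univ _, ?_⟩
            show (b * x)⁻¹ * τ (b * x) = x⁻¹ * τ x
            rw [map_mul, hbb]; group
      rw [e, Finset.card_pair]
      intro e1
      exact hb1 (mul_eq_right.1 e1.symm)
    have h2 := Finset.card_eq_sum_card_image f (Finset.univ : Finset M)
    rw [Finset.sum_congr rfl h1, Finset.sum_const, smul_eq_mul] at h2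
    rw [← Finset.card_univ, h2, mul_comm]
  have hIev : Even I.card := by
    rw [Nat.card_eq_fintype_card, hcard] at h4
    obtain ⟨k, hk⟩ := h4
    exact ⟨k, by omega⟩
  -- inversion on the image
  have hIinv : ∀ y ∈ I, y⁻¹ ∈ I := by
    intro y hy
    obtain ⟨x, -, rfl⟩ := Finset.mem_image.1 hy
    refine Finset.mem_image.2 ⟨τ x, Finset.mem_univ _, ?_⟩
    show (τ x)⁻¹ * τ (τ x) = (x⁻¹ * τ x)⁻¹
    rw [h.ττ]; group
  have hτI : ∀ y ∈ I, τ y = y⁻¹ := by
    intro y hy
    obtain ⟨x, -, rfl⟩ := Finset.mem_image.1 hy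
    show τ (x⁻¹ * τ x) = (x⁻¹ * τ x)⁻¹
    rw [map_mul, map_inv, h.ττ]; group
  have h1I : (1 : M) ∈ I := Finset.mem_image.2 ⟨1, Finset.mem_univ _, by
    show (1 : M)⁻¹ * τ 1 = 1
    rw [map_one]; group⟩
  by_contra hcon
  push Not at hcon
  have hne : ∀ y ∈ I.erase 1, y⁻¹ ≠ y := by
    intro y hy e
    have hy' := Finset.mem_of_mem_erase hy
    rcases h.fix y (by rw [hτI y hy', e]) with e1 | e1
    · exact Finset.ne_of_mem_erase hy e1
    · obtain ⟨x, -, hx⟩ := Finset.mem_image.1 hy'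
      apply hcon x
      rw [← e1, ← hx]
      show τ x = x * (x⁻¹ * τ x)
      group
  have hev : Even (I.erase 1).card := by
    have h5 : ∑ _y ∈ I.erase 1, (1 : ZMod 2) = 0 := by
      apply Finset.sum_involution (fun y _ => y⁻¹)
      · intro y _; exact CharTwo.add_self_eq_zero (1 : ZMod 2)
      · intro y hy _; exact hne y hy
      · intro y _; exact inv_inv y
      · intro y hy
        rw [Finset.mem_erase] at hy ⊢
        exact ⟨fun e => hy.1 (inv_eq_one.1 e), hIinv y hy.2⟩
    rw [Finset.sum_const, nsmul_eq_mul, mul_one] at h5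
    exact even_iff_two_dvd.2 ((ZMod.natCast_eq_zero_iff _ _).1 h5)
  rw [Finset.card_erase_of_mem h1I] at hev
  have hpos : 0 < I.card := Finset.card_pos.2 ⟨1, h1I⟩
  obtain ⟨k, hk⟩ := hIev
  obtain ⟨l, hl⟩ := hev
  omega

/-- every involution commutes with `b` -/
theorem comm_invol [Finite M] (h : H M τ b) {β : M} (hβ : β * β = 1) : β * b = b * β := by
  obtain ⟨hb1, hbb, hb2, v, hv⟩ := h.exists_v
  have hβi : β⁻¹ = β := inv_eq_of_mul_eq_one_right hβ
  have hτβ : τ β * τ β = 1 := by rw [← map_mul, hβ, map_one]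
  have hτβi : (τ β)⁻¹ = τ β := inv_eq_of_mul_eq_one_right hτβ
  have hbi : b⁻¹ = b := inv_eq_of_mul_eq_one_right hb2
  set w := τ β * β with hw
  have hwi : w⁻¹ = β * τ β := by rw [hw, mul_inv_rev, hβi, hτβi]
  have hτw : τ w = w⁻¹ := by rw [hwi, hw, map_mul, h.ττ]
  have hβw : β * w * β⁻¹ = w⁻¹ := by
    rw [hwi, hw, hβi]
    calc β * (τ β * β) * β = β * τ β * (β * β) := by group
      _ = β * τ β := by rw [hβ, mul_one]
  have hpow : ∀ k : ℕ, β * w ^ k * β⁻¹ = (w ^ k)⁻¹ := by
    intro k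
    rw [← conj_pow, hβw, inv_pow]
  have hfixb : τ β = β → β = 1 ∨ β = b := h.fix β
  rcases Nat.even_or_odd' (orderOf w) with ⟨m, hm | hm⟩
  · -- even order
    have hpos : 0 < orderOf w := orderOf_pos w
    have hm0 : 0 < m := by omega
    have h1 : w ^ m ≠ 1 := by
      intro e
      have := orderOf_dvd_of_pow_eq_one e
      have := Nat.le_of_dvd hm0 this
      omega
    have h2 : w ^ m * w ^ m = 1 := by
      rw [← pow_add, ← two_mul, ← hm, pow_orderOf_eq_one]
    have h3 : (w ^ m)⁻¹ = w ^ m := inv_eq_of_mul_eq_one_right h2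
    have h4 : w ^ m = b := by
      rcases h.fix (w ^ m) (by rw [map_pow, hτw, inv_pow, h3]) with e | e
      · exact absurd e h1
      · exact e
    have h5 := hpow m
    rw [h3, h4, mul_inv_eq_iff_eq_mul] at h5
    exact h5
  · -- odd order
    have hw1 : w ^ (2 * m + 1) = 1 := by rw [← hm]; exact pow_orderOf_eq_one w
    have h1 : β * w * β⁻¹ = w⁻¹ := hβw
    have h2 : w⁻¹ = w ^ m * w ^ m := by
      rw [inv_eq_iff_mul_eq_one, ← pow_add, ← pow_succ', ← two_mul]
      exact hw1
    have h3 : τ β = β * w⁻¹ := by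
      rw [hwi]
      calc τ β = (β * β) * τ β := by rw [hβ, one_mul]
        _ = β * (β * τ β) := by group
    -- `e = β w^m` is fixed
    have h4 : τ (β * w ^ m) = β * w ^ m := by
      rw [map_mul, map_pow, hτw, inv_pow]
      calc τ β * (w ^ m)⁻¹ = β * (w ^ m * w ^ m) * (w ^ m)⁻¹ := by rw [h3, h2]
        _ = β * w ^ m := by group
    have h5 := hpow m
    rcases h.fix _ h4 with e | e
    · -- `β = w^-m`
      have h6 : β = (w ^ m)⁻¹ := eq_inv_of_mul_eq_one_left e
      have h7 : Commute β w := by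
        rw [h6]; exact ((Commute.refl w).pow_left m).inv_left
      have h8 : w = w⁻¹ := by
        rw [← h1, h7.eq]; group
      have h9 : w = 1 := by
        have h10 : w * w = 1 := by
          nth_rw 2 [h8]; exact mul_inv_cancel w
        rw [pow_succ, pow_mul, pow_two, h10, one_pow, one_mul] at hw1
        exact hw1
      have h10 : τ β = β := by rw [h3, h9, inv_one, mul_one]
      rcases hfixb h10 with e1 | e1
      · rw [e1]; group
      · rw [e1]
    · -- `e = b`: `β` commutes with `τ b`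
      have h6 : τ (v * b * v⁻¹) = v * b * v⁻¹ := by
        rw [map_mul, map_mul, map_inv, hv, hbb]
        calc v * b * b * (v * b)⁻¹ = v * b * v⁻¹ := by group
          _ = _ := rfl
      have hvb : v * b * v⁻¹ = b := by
        rcases h.fix _ h6 with e1 | e1
        · exact absurd (conj_eq_one_iff.1 e1) hb1
        · exact e1
      have h7 : b * τ β * b = β := by
        -- `b = β w^m`
        have e2 : w ^ m = β * b := by rw [← e, ← mul_assoc, hβ, one_mul]
        have e3 : τ β = β * (β * b) * (β * b) := by rw [h3, h2, e2]; group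
        have e4 : (β * b) * β⁻¹ = β⁻¹ * (β * b)⁻¹ := by
          rw [← e2]
          have := hpow m
          calc w ^ m * β⁻¹ = β⁻¹ * (β * w ^ m * β⁻¹) := by group
            _ = β⁻¹ * (w ^ m)⁻¹ := by rw [this]
        rw [e3]
        calc b * (β * (β * b) * (β * b)) * b = b * (β * β) * b * β * (b * b) := by group
          _ = β := by rw [hβ, mul_one, hb2, one_mul, mul_one]
      have h8 : τ (v * β * v⁻¹) = v * β * v⁻¹ := by
        rw [map_mul, map_mul, map_inv, hv]
        calc v * b * τ β * (v * b)⁻¹ = v * (b * τ β * b⁻¹) * v⁻¹ := by group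
          _ = v * β * v⁻¹ := by rw [hbi, h7]
      rcases h.fix _ h8 with e1 | e1
      · rw [conj_eq_one_iff.1 e1]; group
      · have h9 : β = b := by
          have h10 : v * β * v⁻¹ = v * b * v⁻¹ := e1.trans hvb.symm
          exact mul_left_cancel (mul_right_cancel h10)
        rw [h9]

/-- `b` is central -/
theorem central [Finite M] (h : H M τ b) : ∀ x, x * b = b * x := by
  obtain ⟨hb1, hbb, hb2, v, hv⟩ := h.exists_v
  set I : Subgroup M := closure {β | β * β = 1} with hI
  have hIn : I.Normal := by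
    refine ⟨fun x hx g => ?_⟩
    have h1 : (MulAut.conj g).toMonoidHom x ∈ I.map (MulAut.conj g).toMonoidHom := ⟨x, hx, rfl⟩
    rw [hI, MonoidHom.map_closure] at h1
    refine Subgroup.closure_mono ?_ h1
    rintro _ ⟨y, hy, rfl⟩
    show (g * y * g⁻¹) * (g * y * g⁻¹) = 1
    have hy' : y * y = 1 := hy
    calc (g * y * g⁻¹) * (g * y * g⁻¹) = g * (y * y) * g⁻¹ := by group
      _ = 1 := by rw [hy']; group
  rcases h.nor I hIn with e | e
  · have h1 : I ≤ centralizer ({b} : Set M) :=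
      (closure_le _).2 (fun β hβ => mem_centralizer_singleton_iff.2 (h.comm_invol hβ))
    intro x
    exact mem_centralizer_singleton_iff.1 (h1 (by rw [e]; exact mem_top x))
  · have h1 : b ∈ center M := e (Subgroup.subset_closure hb2)
    exact fun x => mem_center_iff.1 h1 x

end H

theorem aux (n : ℕ) : ∀ (M : Type u) [Group M] [Finite M] (τ : M →* M) (b : M), Nat.card M ≤ n → H M τ b → False := by
  induction n with
  | zero =>
    intro M _ _ τ b hc _
    have := Nat.card_pos (α := M)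
    omega
  | succ n ih =>
    intro M _ _ τ b hc h
    obtain ⟨hb1, hbb, hb2, v, hv⟩ := h.exists_v
    have hbc := h.central
    set B : Subgroup M := zpowers b with hB
    have hBn : B.Normal := by
      refine ⟨fun x hx g => ?_⟩
      obtain ⟨k, rfl⟩ := mem_zpowers_iff.1 hx
      have : g * b ^ k * g⁻¹ = b ^ k := by
        have h1 : Commute g (b ^ k) := (show Commute g b from hbc g).zpow_right k
        rw [h1.eq]; group
      rw [this]; exact hx
    have hmem : ∀ x, x ∈ B ↔ x = 1 ∨ x = b := by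
      intro x
      constructor
      · intro hx
        obtain ⟨k, rfl⟩ := mem_zpowers_iff.1 hx
        rcases Int.even_or_odd' k with ⟨j, rfl | rfl⟩
        · left; rw [zpow_mul, zpow_ofNat, pow_two, hb2, one_zpow]
        · right; rw [zpow_add, zpow_mul, zpow_ofNat, pow_two, hb2, one_zpow, one_mul, zpow_one]
      · rintro (rfl | rfl)
        · exact B.one_mem
        · exact mem_zpowers _
    have hle : B ≤ B.comap τ := by
      intro x hx
      rw [mem_comap]
      rcases (hmem x).1 hx with rfl | rfl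
      · rw [map_one]; exact B.one_mem
      · rw [hbb]; exact hx
    let τ' : M ⧸ B →* M ⧸ B := QuotientGroup.map B B τ hle
    have hτ' : ∀ x : M, τ' (x : M ⧸ B) = ((τ x : M) : M ⧸ B) := fun x => rfl
    refine ih (M ⧸ B) τ' (v : M ⧸ B) ?_ ⟨?_, ?_, ?_, ?_, ?_⟩
    · have h1 : Nat.card M = Nat.card (M ⧸ B) * Nat.card B := card_eq_card_quotient_mul_card_subgroup B
      have h2 : Nat.card B = 2 := by
        rw [hB, Nat.card_zpowers]
        exact orderOf_eq_prime (by rw [pow_two, hb2]) hb1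
      have h3 : 0 < Nat.card (M ⧸ B) := Nat.card_pos
      rw [h2] at h1
      omega
    · have := h.perf
      exact Group.IsPerfect.ofSurjective (f := QuotientGroup.mk' B) (QuotientGroup.mk'_surjective B)
    · -- nontrivial
      by_contra hnt
      rw [not_nontrivial_iff_subsingleton] at hnt
      have h1 : ∀ x : M, x ∈ B := fun x => (QuotientGroup.eq_one_iff x).1 (Subsingleton.elim _ _)
      apply h.not_comm
      intro x y
      rcases (hmem x).1 (h1 x) with rfl | rfl
      · group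
      · exact (hbc y).symm
    · intro N hN
      rcases h.nor (N.comap (QuotientGroup.mk' B)) inferInstance with e | e
      · left
        have := congrArg (map (QuotientGroup.mk' B)) e
        rwa [map_comap_eq_self_of_surjective (QuotientGroup.mk'_surjective B),
          map_top_of_surjective _ (QuotientGroup.mk'_surjective B)] at this
      · right
        intro x hx
        obtain ⟨y, rfl⟩ := QuotientGroup.mk'_surjective B x
        have h1 : y ∈ center M := e hx
        rw [mem_center_iff]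
        intro g
        obtain ⟨g', rfl⟩ := QuotientGroup.mk'_surjective B g
        rw [← map_mul, ← map_mul, mem_center_iff.1 h1]
    · intro x
      obtain ⟨y, rfl⟩ := QuotientGroup.mk'_surjective B x
      show ((τ (τ y) : M) : M ⧸ B) = (y : M ⧸ B)
      rw [h.ττ]
    · intro x hx
      obtain ⟨y, rfl⟩ := QuotientGroup.mk'_surjective B x
      have h1 : ((τ y : M) : M ⧸ B) = (y : M ⧸ B) := hx
      rw [eq_comm, QuotientGroup.eq, hmem] at h1
      show (y : M ⧸ B) = 1 ∨ (y : M ⧸ B) = v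
      rcases h1 with h1 | h1
      · left
        rw [QuotientGroup.eq_one_iff, hmem]
        exact h.fix y (inv_mul_eq_one.1 h1).symm
      · right
        have h2 : τ y = y * b := by rw [← h1]; group
        rw [eq_comm, QuotientGroup.eq, hmem]
        have h3 : τ (v⁻¹ * y) = v⁻¹ * y := by
          rw [map_mul, map_inv, hv, h2]
          calc (v * b)⁻¹ * (y * b) = b⁻¹ * (v⁻¹ * y * b) := by group
            _ = b⁻¹ * (b * (v⁻¹ * y)) := by rw [hbc (v⁻¹ * y)]
            _ = v⁻¹ * y := by group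
        exact h.fix _ h3

/-- **an involutory automorphism of a quasisimple group has more than two fixed points** -/
theorem exists_fix {M : Type u} [Group M] [Finite M] (hM : IsQuasisimple M) (τ : M →* M)
    (hτ : ∀ x, τ (τ x) = x) (b : M) : ∃ x, τ x = x ∧ x ≠ 1 ∧ x ≠ b := by
  by_contra hcon
  push Not at hcon
  refine aux (Nat.card M) M τ b le_rfl ⟨hM.1,
    Cfsg.Agent.SignalizersComponents.Components.quasisimple_nontrivial hM,
    fun N hN => Cfsg.Agent.SignalizersComponents.Components.quasisimple_normal hM N hN, hτ, fun x hx => ?_⟩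
  by_cases h1 : x = 1
  · exact Or.inl h1
  · exact Or.inr (hcon x hx h1)

end Cfsg.Agent.OddHalf.D6.QThree.TwoFix
end
end
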